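import Mathlib.LinearAlgebra.Dual.Lemmas
import Mathlib.LinearAlgebra.FiniteDimensional.Basic

/-!
Generic induction for Witt-type extension theorems: a class `C X f` of "partial isometries"
(a linear map `f` restricted to a subspace `X`) extends to a group `P` of isometries as soon as
one can do a single step.
-/

set_option autoImplicit false

namespace Cfsg.Agent.Lib.Geometry

variable {F V : Type*} [Field F] [AddCommGroup V] [Module F V]

/-- If `P` is a group of automorphisms and every single extension step is possible inside `P`,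
then every `C`-map on a subspace, injective there, agrees there with an element of `P`. -/
theorem exists_extension_of_step [FiniteDimensional F V] (P : Subgroup (V ≃ₗ[F] V))
    (C : Submodule F V → (V →ₗ[F] V) → Prop)
    (hmono : ∀ (X X₀ : Submodule F V) (f : V →ₗ[F] V), X₀ ≤ X → C X f → C X₀ f)
    (hcomp : ∀ (X : Submodule F V) (f : V →ₗ[F] V), ∀ g ∈ P, C X f →
      C X ((g : V →ₗ[F] V) ∘ₗ f))
    (hstep : ∀ (X₀ : Submodule F V) (x : V) (f : V →ₗ[F] V), x ∉ X₀ → f x ∉ X₀ →
      (∀ z ∈ X₀, f z = z) → C (X₀ ⊔ Submodule.span F {x}) f →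
      ∃ g ∈ P, (∀ z ∈ X₀, g z = z) ∧ g x = f x)
    (X : Submodule F V) (f : V →ₗ[F] V) (hinj : ∀ z ∈ X, f z = 0 → z = 0) (hC : C X f) :
    ∃ g ∈ P, ∀ z ∈ X, g z = f z := by
  classical
  obtain ⟨s, rfl⟩ := IsNoetherian.noetherian X
  induction s using Finset.induction_on with
  | empty =>
    refine ⟨1, P.one_mem, fun z hz => ?_⟩
    simp only [Finset.coe_empty, Submodule.span_empty, Submodule.mem_bot] at hz
    simp [hz]
  | insert a s _ ih =>
    simp only [Finset.coe_insert, Submodule.span_insert] at hinj hC ⊢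
    set X₀ := Submodule.span F (s : Set V) with hX₀
    have hle : X₀ ≤ Submodule.span F {a} ⊔ X₀ := le_sup_right
    obtain ⟨g, hgP, hg⟩ := ih (fun z hz => hinj z (hle hz)) (hmono _ _ _ hle hC)
    by_cases ha : a ∈ X₀
    · refine ⟨g, hgP, fun z hz => ?_⟩
      rw [sup_eq_right.mpr ((Submodule.span_singleton_le_iff_mem _ _).mpr ha)] at hz
      exact hg z hz
    -- normalise `f` so that it fixes `X₀`
    set f' : V →ₗ[F] V := ((g⁻¹ : V ≃ₗ[F] V) : V →ₗ[F] V) ∘ₗ f with hf'
    have hfix : ∀ z ∈ X₀, f' z = z := by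
      intro z hz
      show g.symm (f z) = z
      rw [← hg z hz, g.symm_apply_apply]
    have hfa : f' a ∉ X₀ := by
      intro hmem
      have h1 : g.symm (f a) = f' a := rfl
      have h2 : f (f' a) = g (f' a) := (hg _ hmem).symm
      rw [← h1, g.apply_symm_apply, h1] at h2
      have h3 : f' a - a = 0 := hinj _
        (Submodule.sub_mem _ (hle hmem) (Submodule.mem_sup_left (Submodule.mem_span_singleton_self a)))
        (by rw [map_sub, h2, sub_self])
      exact ha (sub_eq_zero.mp h3 ▸ hmem)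
    have hC' : C (X₀ ⊔ Submodule.span F {a}) f' := by
      rw [sup_comm]
      exact hcomp _ _ _ (P.inv_mem hgP) hC
    obtain ⟨h, hhP, hh, hha⟩ := hstep X₀ a f' ha hfa hfix hC'
    refine ⟨g * h, P.mul_mem hgP hhP, fun z hz => ?_⟩
    obtain ⟨u, hu, w, hw, rfl⟩ := Submodule.mem_sup.mp hz
    obtain ⟨c, rfl⟩ := Submodule.mem_span_singleton.mp hu
    have e1 : g (h a) = f a := by
      rw [hha]
      exact g.apply_symm_apply (f a)
    show g (h (c • a + w)) = f (c • a + w)
    simp only [map_add, map_smul, e1, hh w hw, hg w hw]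

/-- Restriction form: an injective linear map out of a subspace. -/
theorem exists_extension_of_step' [FiniteDimensional F V] (P : Subgroup (V ≃ₗ[F] V))
    (C : Submodule F V → (V →ₗ[F] V) → Prop)
    (hmono : ∀ (X X₀ : Submodule F V) (f : V →ₗ[F] V), X₀ ≤ X → C X f → C X₀ f)
    (hcomp : ∀ (X : Submodule F V) (f : V →ₗ[F] V), ∀ g ∈ P, C X f →
      C X ((g : V →ₗ[F] V) ∘ₗ f))
    (hstep : ∀ (X₀ : Submodule F V) (x : V) (f : V →ₗ[F] V), x ∉ X₀ → f x ∉ X₀ →
      (∀ z ∈ X₀, f z = z) → C (X₀ ⊔ Submodule.span F {x}) f →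
      ∃ g ∈ P, (∀ z ∈ X₀, g z = z) ∧ g x = f x)
    (X : Submodule F V) (φ : X →ₗ[F] V) (hinj : Function.Injective φ)
    (hC : ∀ f : V →ₗ[F] V, (∀ z : X, f (z : V) = φ z) → C X f) :
    ∃ g ∈ P, ∀ z : X, g (z : V) = φ z := by
  obtain ⟨f, hf⟩ := φ.exists_extend
  have hf' : ∀ z : X, f (z : V) = φ z := fun z => LinearMap.congr_fun hf z
  obtain ⟨g, hgP, hg⟩ := exists_extension_of_step P C hmono hcomp hstep X f
    (fun z hz h0 => by
      have h1 : φ ⟨z, hz⟩ = φ 0 := by rw [← hf' ⟨z, hz⟩, map_zero]; exact h0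
      exact congrArg Subtype.val (hinj h1))
    (hC f hf')
  exact ⟨g, hgP, fun z => (hg z z.2).trans (hf' z)⟩

/-- A vector outside a subspace is separated from it by a linear functional. -/
theorem exists_functional_one_of_notMem (X₀ : Submodule F V) {x : V} (hx : x ∉ X₀) :
    ∃ φ : V →ₗ[F] F, φ x = 1 ∧ ∀ z ∈ X₀, φ z = 0 := by
  obtain ⟨φ, h1, h2⟩ := Submodule.exists_dual_map_eq_bot_of_notMem hx inferInstance
  refine ⟨(φ x)⁻¹ • φ, by simp [inv_mul_cancel₀ h1], fun z hz => ?_⟩
  have h3 : φ z ∈ Submodule.map φ X₀ := Submodule.mem_map_of_mem hz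
  rw [h2, Submodule.mem_bot] at h3
  simp [h3]

/-- An element of a subgroup avoiding two proper subspaces exists. -/
theorem exists_mem_apply_ne_apply_ne (W : Submodule F V) (φ ψ : V →ₗ[F] F)
    (hφ : ∃ u ∈ W, φ u ≠ 0) (hψ : ∃ u ∈ W, ψ u ≠ 0) :
    ∃ u ∈ W, φ u ≠ 0 ∧ ψ u ≠ 0 := by
  obtain ⟨a, haW, ha⟩ := hφ
  obtain ⟨b, hbW, hb⟩ := hψ
  by_cases h1 : ψ a = 0
  · by_cases h2 : φ b = 0
    · exact ⟨a + b, W.add_mem haW hbW, by simp [h2, ha], by simp [h1, hb]⟩
    · exact ⟨b, hbW, h2, hb⟩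
  · exact ⟨a, haW, ha, h1⟩

/-- A linear endomorphism with trivial kernel, as an automorphism, together with its values. -/
theorem exists_linearEquiv_of_injective [FiniteDimensional F V] (T : V →ₗ[F] V)
    (h : ∀ v, T v = 0 → v = 0) : ∃ g : V ≃ₗ[F] V, ∀ v, g v = T v := by
  have hinj : Function.Injective T := by
    rw [injective_iff_map_eq_zero]
    exact h
  exact ⟨LinearEquiv.ofBijective T ⟨hinj, LinearMap.surjective_of_injective hinj⟩, fun v => rfl⟩

end Cfsg.Agent.Lib.Geometry
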