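import Mathlib.LinearAlgebra.SesquilinearForm.Basic
import Mathlib.LinearAlgebra.FiniteDimensional.Basic
import Mathlib.Tactic.LinearCombination
import Mathlib.Tactic.FieldSimp
import Cfsg.Agent.Lib.Geometry.Extend

/-!
Witt's extension theorem for non-degenerate Hermitian forms (any field with an automorphism of
order two).
-/

set_option autoImplicit false

namespace Cfsg.Agent.Lib.Geometry

variable {F V : Type*} [Field F] [AddCommGroup V] [Module F V] {σ : F →+* F}

/-- The group of linear automorphisms preserving a sesquilinear form. -/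
def sesqIsometries (B : V →ₛₗ[σ] V →ₗ[F] F) : Subgroup (V ≃ₗ[F] V) where
  carrier := {g | ∀ u v, B (g u) (g v) = B u v}
  mul_mem' {g h} hg hh u v := by
    show B (g (h u)) (g (h v)) = B u v
    rw [hg, hh]
  one_mem' u v := rfl
  inv_mem' {g} hg u v := by
    show B (g.symm u) (g.symm v) = B u v
    rw [← hg, g.apply_symm_apply, g.apply_symm_apply]

theorem mem_sesqIsometries {B : V →ₛₗ[σ] V →ₗ[F] F} {g : V ≃ₗ[F] V} :
    g ∈ sesqIsometries B ↔ ∀ u v, B (g u) (g v) = B u v :=
  Iff.rfl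

/-- The trace `d ↦ d + σ d` reaches every fixed element. -/
theorem exists_add_conj_eq (hσ : σ ≠ RingHom.id F) (hσ2 : ∀ a : F, σ (σ a) = a) {s : F}
    (hs : σ s = s) : ∃ d : F, σ d + d = s := by
  obtain ⟨e, he⟩ : ∃ e : F, σ e + e ≠ 0 := by
    by_contra h
    push Not at h
    have h1 : (1 : F) + 1 = 0 := by simpa using h 1
    refine hσ (RingHom.ext fun a => ?_)
    show σ a = a
    linear_combination h a - a * h1
  refine ⟨e * (s / (σ e + e)), ?_⟩
  have hfix : σ (s / (σ e + e)) = s / (σ e + e) := by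
    rw [map_div₀, map_add, hσ2, hs, add_comm e]
  rw [map_mul, hfix, ← add_mul, mul_div_cancel₀ _ he]

variable [FiniteDimensional F V] (B : V →ₛₗ[σ] V →ₗ[F] F)

/-- Every functional is `B u` for some `u`. -/
theorem exists_sesq_eq_functional (hσ2 : ∀ a : F, σ (σ a) = a) (hS : B.IsSymm)
    (hB : B.Nondegenerate) (φ : V →ₗ[F] F) : ∃ u : V, ∀ v, B u v = φ v := by
  classical
  let b := Module.finBasis F V
  let T : V →ₗ[F] (Fin (Module.finrank F V) → F) := LinearMap.pi fun i => B (b i)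
  have hinj : Function.Injective T := by
    rw [injective_iff_map_eq_zero]
    intro u hu
    refine hB.1 u fun v => ?_
    have h : B u = 0 := b.ext fun i => by
      have h1 : B (b i) u = 0 := congrFun hu i
      rw [← hS.eq (b i) u, h1, map_zero, LinearMap.zero_apply]
    rw [h, LinearMap.zero_apply]
  have hsurj : Function.Surjective T :=
    (LinearMap.injective_iff_surjective_of_finrank_eq_finrank
      (by rw [Module.finrank_fintype_fun_eq_card, Fintype.card_fin])).mp hinj
  obtain ⟨u, hu⟩ := hsurj fun i => σ (φ (b i))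
  refine ⟨u, fun v => LinearMap.congr_fun (b.ext fun i => ?_) v⟩
  have h1 : B (b i) u = σ (φ (b i)) := congrFun hu i
  rw [← hS.eq (b i) u, h1, hσ2]

/-- `X₀^⊥` separates the points outside `X₀`. -/
theorem exists_sesq_perp_apply_eq_one (hσ2 : ∀ a : F, σ (σ a) = a) (hS : B.IsSymm)
    (hB : B.Nondegenerate) (X₀ : Submodule F V) {x : V} (hx : x ∉ X₀) :
    ∃ u : V, (∀ z ∈ X₀, B u z = 0) ∧ B u x = 1 := by
  obtain ⟨φ, h1, h2⟩ := exists_functional_one_of_notMem X₀ hx
  obtain ⟨u, hu⟩ := exists_sesq_eq_functional B hσ2 hS hB φ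
  exact ⟨u, fun z hz => by rw [hu, h2 z hz], by rw [hu, h1]⟩

theorem exists_sesq_equiv (hB : B.Nondegenerate) (T : V →ₗ[F] V)
    (hT : ∀ u v, B (T u) (T v) = B u v) : ∃ g ∈ sesqIsometries B, ∀ v, g v = T v := by
  obtain ⟨g, hg⟩ := exists_linearEquiv_of_injective T
    (fun v hv => hB.1 v fun u => by rw [← hT, hv, map_zero, LinearMap.zero_apply])
  exact ⟨g, fun u v => by rw [hg, hg, hT], hg⟩

/-- Quasi-reflection `v ↦ v + c B(w,v) w`. -/
theorem exists_sesq_quasireflection (hS : B.IsSymm) (hB : B.Nondegenerate) (w : V) (c : F)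
    (hc : c + σ c + σ c * c * B w w = 0) :
    ∃ g ∈ sesqIsometries B, ∀ v, g v = v + (c * B w v) • w := by
  let T : V →ₗ[F] V := LinearMap.id + (c • B w).smulRight w
  have hT : ∀ v, T v = v + (c * B w v) • w := fun v => rfl
  obtain ⟨g, hg, hgv⟩ := exists_sesq_equiv B hB T (fun u v => by
    simp only [hT, map_add, map_smul, map_smulₛₗ, LinearMap.add_apply, LinearMap.smul_apply,
      smul_eq_mul, map_mul, hS.eq w u]
    linear_combination (B u w * B w v) * hc)
  exact ⟨g, hg, fun v => (hgv v).trans (hT v)⟩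

/-- Siegel transformation. -/
theorem exists_sesq_siegel (hS : B.IsSymm) (hB : B.Nondegenerate) (w u : V) (d : F)
    (hw : B w w = 0) (huw : B u w = 0) (hd : σ d + d = B u u) :
    ∃ g ∈ sesqIsometries B, ∀ v, g v = v + B u v • w - B w v • (u + d • w) := by
  let T : V →ₗ[F] V := LinearMap.id + (B u).smulRight w - (B w).smulRight (u + d • w)
  have hT : ∀ v, T v = v + B u v • w - B w v • (u + d • w) := fun v => rfl
  have hwu : B w u = 0 := by rw [← hS.eq u w, huw, map_zero]
  obtain ⟨g, hg, hgv⟩ := exists_sesq_equiv B hB T (fun p r => by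
    simp only [hT, map_sub, map_add, map_smul, map_smulₛₗ, LinearMap.sub_apply,
      LinearMap.add_apply, LinearMap.smul_apply, smul_eq_mul, map_mul,
      hS.eq w p, hS.eq u p, hw, huw, hwu]
    linear_combination -(B p w * B w r) * hd)
  exact ⟨g, hg, fun v => (hgv v).trans (hT v)⟩

/-- Scaling of a hyperbolic pair. -/
theorem exists_sesq_hyperbolic_scale (hσ2 : ∀ a : F, σ (σ a) = a) (hS : B.IsSymm)
    (hB : B.Nondegenerate) (w w' : V) (t : F) (ht : t ≠ 0) (hw : B w w = 0)
    (hw' : B w' w' = 0) (hww' : B w w' = 1) :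
    ∃ g ∈ sesqIsometries B, ∀ v,
      g v = v + ((t - 1) * B w' v) • w + (((σ t)⁻¹ - 1) * B w v) • w' := by
  let T : V →ₗ[F] V :=
    LinearMap.id + ((t - 1) • B w').smulRight w + (((σ t)⁻¹ - 1) • B w).smulRight w'
  have hT : ∀ v, T v = v + ((t - 1) * B w' v) • w + (((σ t)⁻¹ - 1) * B w v) • w' := fun v => rfl
  have hw'w : B w' w = 1 := by rw [← hS.eq w w', hww', map_one]
  have hst : σ t ≠ 0 := fun h => ht (by rw [← hσ2 t, h, map_zero])
  obtain ⟨g, hg, hgv⟩ := exists_sesq_equiv B hB T (fun p r => by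
    simp only [hT, map_add, map_smul, map_smulₛₗ, LinearMap.add_apply, LinearMap.smul_apply,
      smul_eq_mul, map_mul, map_sub, map_one, map_inv₀, hσ2, hS.eq w p, hS.eq w' p, hw, hw',
      hww', hw'w]
    field_simp
    ring)
  exact ⟨g, hg, fun v => (hgv v).trans (hT v)⟩

/-- One step of the extension. -/
theorem exists_sesq_step (hσ : σ ≠ RingHom.id F) (hσ2 : ∀ a : F, σ (σ a) = a) (hS : B.IsSymm)
    (hB : B.Nondegenerate) (X₀ : Submodule F V) (x y : V) (hx : x ∉ X₀) (hy : y ∉ X₀)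
    (hxy : B y y = B x x) (hperp : ∀ z ∈ X₀, B (y - x) z = 0) :
    ∃ g ∈ sesqIsometries B, (∀ z ∈ X₀, g z = z) ∧ g x = y := by
  obtain ⟨w, rfl⟩ : ∃ w, y = x + w := ⟨y - x, (add_sub_cancel x y).symm⟩
  simp only [add_sub_cancel_left] at hperp
  have hsum : B x w + B w x + B w w = 0 := by
    simp only [map_add, LinearMap.add_apply] at hxy
    linear_combination hxy
  by_cases hwx : B w x ≠ 0
  · have hxw : B x w ≠ 0 := fun h => hwx (by rw [← hS.eq x w, h, map_zero])
    have hc : (B w x)⁻¹ + σ (B w x)⁻¹ + σ (B w x)⁻¹ * (B w x)⁻¹ * B w w = 0 := by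
      rw [map_inv₀, hS.eq w x]
      field_simp
      linear_combination hsum
    obtain ⟨g, hg, hgv⟩ := exists_sesq_quasireflection B hS hB w (B w x)⁻¹ hc
    refine ⟨g, hg, fun z hz => by simp [hgv, hperp z hz], ?_⟩
    rw [hgv, inv_mul_cancel₀ hwx, one_smul]
  · push Not at hwx
    have hxw : B x w = 0 := by rw [← hS.eq w x, hwx, map_zero]
    have hww : B w w = 0 := by rwa [hxw, hwx, zero_add, zero_add] at hsum
    by_cases hx' : x ∉ X₀ ⊔ Submodule.span F {w}
    · obtain ⟨u, hu, hu1⟩ := exists_sesq_perp_apply_eq_one B hσ2 hS hB _ hx'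
      obtain ⟨d, hd⟩ := exists_add_conj_eq hσ hσ2 (hS.eq u u)
      obtain ⟨g, hg, hgv⟩ := exists_sesq_siegel B hS hB w u d hww
        (hu w (Submodule.mem_sup_right (Submodule.mem_span_singleton_self w))) hd
      refine ⟨g, hg, fun z hz => ?_, ?_⟩
      · simp [hgv, hu z (Submodule.mem_sup_left hz), hperp z hz]
      · simp [hgv, hu1, hwx]
    · push Not at hx'
      obtain ⟨z₀, hz₀, v₀, hv₀, hxe⟩ := Submodule.mem_sup.mp hx'
      obtain ⟨a, rfl⟩ := Submodule.mem_span_singleton.mp hv₀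
      subst hxe
      have ha : a ≠ 0 := by
        rintro rfl
        simp [hz₀] at hx
      have ha1 : a + 1 ≠ 0 := fun h => hy (by
        rw [show z₀ + a • w + w = z₀ + (a + 1) • w by rw [add_smul, one_smul, add_assoc]]
        simpa [h] using hz₀)
      have hwX : w ∉ X₀ := fun h => hx (X₀.add_mem hz₀ (X₀.smul_mem a h))
      obtain ⟨u, hu, hu1⟩ := exists_sesq_perp_apply_eq_one B hσ2 hS hB X₀ hwX
      have hwu : B w u = 1 := by rw [← hS.eq u w, hu1, map_one]
      obtain ⟨d, hd⟩ := exists_add_conj_eq hσ hσ2 (hS.eq u u)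
      obtain ⟨g, hg, hgv⟩ := exists_sesq_hyperbolic_scale B hσ2 hS hB w (u - d • w) ((a + 1) / a)
        (div_ne_zero ha1 ha) hww
        (by
          simp only [map_sub, map_smul, map_smulₛₗ, LinearMap.sub_apply, LinearMap.smul_apply,
            smul_eq_mul, hww, hu1, hwu]
          linear_combination -hd)
        (by simp [map_sub, map_smul, hww, hwu])
      have hfix : ∀ z ∈ X₀, g z = z := fun z hz => by
        simp [hgv, hperp z hz, hu z hz]
      refine ⟨g, hg, hfix, ?_⟩
      have hgw : g w = ((a + 1) / a) • w := by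
        simp [hgv, hww, hu1, sub_smul]
      rw [map_add, map_smul, hfix z₀ hz₀, hgw, smul_smul, mul_div_cancel₀ _ ha, add_smul,
        one_smul, add_assoc]

/-- Witt's theorem, Hermitian forms. -/
theorem witt_hermitian (hσ : σ ≠ RingHom.id F) (hσ2 : ∀ a : F, σ (σ a) = a) (hS : B.IsSymm)
    (hB : B.Nondegenerate) (X : Submodule F V) (φ : X →ₗ[F] V) (hinj : Function.Injective φ)
    (hφ : ∀ x x' : X, B (φ x) (φ x') = B (x : V) (x' : V)) :
    ∃ g : V ≃ₗ[F] V, (∀ u v : V, B (g u) (g v) = B u v) ∧ ∀ x : X, g (x : V) = φ x := by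
  refine exists_extension_of_step' (sesqIsometries B)
    (fun X f => ∀ a ∈ X, ∀ b ∈ X, B (f a) (f b) = B a b)
    (fun X X₀ f hle hC a ha b hb => hC a (hle ha) b (hle hb))
    (fun X f g hg hC a ha b hb => by
      show B (g (f a)) (g (f b)) = B a b
      rw [mem_sesqIsometries.mp hg, hC a ha b hb])
    ?_ X φ hinj ?_
  · intro X₀ x f hx hy hfix hC
    have hx' : x ∈ X₀ ⊔ Submodule.span F {x} :=
      Submodule.mem_sup_right (Submodule.mem_span_singleton_self x)
    refine exists_sesq_step B hσ hσ2 hS hB X₀ x (f x) hx hy (hC x hx' x hx') (fun z hz => ?_)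
    have h := hC x hx' z (Submodule.mem_sup_left hz)
    rw [hfix z hz] at h
    rw [map_sub, LinearMap.sub_apply, h, sub_self]
  · intro f hf a ha b hb
    have h1 := hf ⟨a, ha⟩
    have h2 := hf ⟨b, hb⟩
    simp only at h1 h2
    rw [h1, h2]
    exact hφ ⟨a, ha⟩ ⟨b, hb⟩

end Cfsg.Agent.Lib.Geometry
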