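import Mathlib.GroupTheory.Index
import Mathlib.LinearAlgebra.Basis.Basic
import Cfsg.Agent.Lib.Geometry.WittHermitian

/-!
Norm surjectivity and orthonormal bases of Hermitian forms over finite fields.
-/

set_option autoImplicit false

namespace Cfsg.Agent.Lib.Geometry

variable {F V : Type*} [Field F] [AddCommGroup V] [Module F V] {σ : F →+* F}

/-- Every fixed element is a norm. -/
theorem exists_mul_conj_eq [Finite F] (hσ : σ ≠ RingHom.id F) (hσ2 : ∀ a : F, σ (σ a) = a) {s : F}
    (hs : σ s = s) : ∃ x : F, σ x * x = s := by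
  by_cases hs0 : s = 0
  · exact ⟨0, by rw [map_zero, mul_zero, hs0]⟩
  haveI : Finite Fˣ := Finite.of_injective _ Units.val_injective
  let τ : Fˣ →* Fˣ := Units.map (σ : F →* F)
  let N : Fˣ →* Fˣ := τ * MonoidHom.id Fˣ
  let D : Fˣ →* Fˣ := τ * (MonoidHom.id Fˣ)⁻¹
  have hτ : ∀ u : Fˣ, τ (τ u) = u := fun u => Units.ext (hσ2 _)
  have hND : ∀ u, N u = τ u * u := fun u => rfl
  have hDD : ∀ u, D u = τ u * u⁻¹ := fun u => rfl
  -- Hilbert 90
  have h90 : N.ker ≤ D.range := by
    intro u hu
    rw [MonoidHom.mem_ker, hND] at hu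
    have hu' : σ (u : F) * (u : F) = 1 := congrArg Units.val hu
    obtain ⟨a, ha⟩ : ∃ a : F, a + (u : F) * σ a ≠ 0 := by
      by_contra h
      push Not at h
      have h1 := h 1
      rw [map_one, mul_one] at h1
      refine hσ (RingHom.ext fun a => ?_)
      show σ a = a
      linear_combination σ a * h1 - h a
    set y := a + (u : F) * σ a with hy
    have hy' : (u : F) * σ y = y := by
      rw [hy, map_add, map_mul, hσ2]
      linear_combination a * hu'
    refine ⟨(Units.mk0 y ha)⁻¹, ?_⟩
    rw [hDD, map_inv, inv_inv, inv_mul_eq_iff_eq_mul]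
    exact Units.ext (hy'.symm.trans (mul_comm _ _))
  have hsub : N.range ≤ D.ker := by
    rintro _ ⟨u, rfl⟩
    rw [MonoidHom.mem_ker, hDD, hND, map_mul, hτ, mul_comm u, mul_inv_cancel]
  have hDN : D.range ≤ N.ker := by
    rintro _ ⟨u, rfl⟩
    rw [MonoidHom.mem_ker, hND, hDD, map_mul, hτ, map_inv]
    rw [mul_assoc, inv_mul_cancel_left, mul_inv_cancel]
  have hNk : N.ker = D.range := le_antisymm h90 hDN
  have hcard : Nat.card D.ker ≤ Nat.card N.range := by
    have h1 := N.ker.card_mul_index
    have h2 := D.ker.card_mul_index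
    rw [Subgroup.index_ker] at h1 h2
    rw [hNk] at h1
    have hpos : 0 < Nat.card D.range := Nat.card_pos
    exact (Nat.eq_of_mul_eq_mul_left hpos (by rw [h1, mul_comm]; exact h2.symm)).ge
  have heq := Subgroup.eq_of_le_of_card_ge hsub hcard
  have hmem : Units.mk0 s hs0 ∈ D.ker := by
    rw [MonoidHom.mem_ker, hDD, mul_inv_eq_one]
    exact Units.ext hs
  rw [← heq] at hmem
  obtain ⟨x, hx⟩ := hmem
  exact ⟨x, congrArg Units.val hx⟩

variable [FiniteDimensional F V]

/-- Extending an orthonormal family. -/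
theorem exists_orthonormal_family [Finite F] (hσ : σ ≠ RingHom.id F) (hσ2 : ∀ a : F, σ (σ a) = a)
    (B : V →ₛₗ[σ] V →ₗ[F] F) (hS : B.IsSymm) (hB : B.Nondegenerate) :
    ∀ k, k ≤ Module.finrank F V → ∃ e : Fin k → V, ∀ i j, B (e i) (e j) = if i = j then 1 else 0 := by
  intro k
  induction k with
  | zero => exact fun _ => ⟨Fin.elim0, fun i => i.elim0⟩
  | succ k ih =>
    intro hk
    obtain ⟨e, he⟩ := ih (by omega)
    let T : V →ₗ[F] (Fin k → F) := LinearMap.pi fun i => B (e i)
    let W : Submodule F V := LinearMap.ker T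
    have hWmem : ∀ x, x ∈ W ↔ ∀ i, B (e i) x = 0 := fun x => by
      simp only [W, LinearMap.mem_ker, T]
      exact funext_iff
    obtain ⟨v, hvW, hv⟩ : ∃ v ∈ W, B v v ≠ 0 := by
      by_contra hall
      push Not at hall
      obtain ⟨a, ha⟩ : ∃ a : F, σ a ≠ a := by
        by_contra h
        push Not at h
        exact hσ (RingHom.ext h)
      -- `B` vanishes on `W`
      have hW0 : ∀ x ∈ W, ∀ y ∈ W, B x y = 0 := by
        intro x hx y hy
        have key : ∀ x ∈ W, ∀ y ∈ W, B x y + B y x = 0 := fun x hx y hy => by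
          have h := hall (x + y) (W.add_mem hx hy)
          simp only [map_add, LinearMap.add_apply, hall x hx, hall y hy, zero_add, add_zero] at h
          linear_combination h
        have h1 := key (a • x) (W.smul_mem a hx) y hy
        simp only [map_smul, map_smulₛₗ, LinearMap.smul_apply, smul_eq_mul] at h1
        have h2 : (σ a - a) * B x y = 0 := by linear_combination h1 - a * key x hx y hy
        exact (mul_eq_zero.mp h2).resolve_left (sub_ne_zero.mpr ha)
      haveI : Nontrivial W := by
        refine Module.nontrivial_of_finrank_pos (R := F) ?_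
        have h := LinearMap.finrank_range_add_finrank_ker T
        have h' := Submodule.finrank_le (LinearMap.range T)
        rw [Module.finrank_fintype_fun_eq_card, Fintype.card_fin] at h'
        show 0 < Module.finrank F (LinearMap.ker T)
        omega
      obtain ⟨⟨x, hx⟩, hx0⟩ := exists_ne (0 : W)
      refine hx0 (Subtype.ext (hB.1 x fun y => ?_))
      have hy : y - ∑ i, B (e i) y • e i ∈ W := by
        rw [hWmem]
        intro i
        rw [map_sub, map_sum]
        simp [map_smul, he]
      have h := hW0 x hx _ hy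
      rw [map_sub, map_sum] at h
      have hxe : ∀ i, B x (e i) = 0 := fun i => by
        rw [← hS.eq (e i) x, (hWmem x).mp hx i, map_zero]
      simpa [map_smul, hxe] using h
    obtain ⟨c, hc⟩ := exists_mul_conj_eq hσ hσ2 (hS.eq v v)
    have hc0 : c ≠ 0 := fun h => hv (by rw [← hc, h, mul_zero])
    have hσc : σ c ≠ 0 := fun h => hv (by rw [← hc, h, zero_mul])
    have hu : B (c⁻¹ • v) (c⁻¹ • v) = 1 := by
      rw [map_smul, map_smulₛₗ, LinearMap.smul_apply, smul_eq_mul, smul_eq_mul, map_inv₀, ← hc]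
      field_simp
    have hue : ∀ i, B (e i) (c⁻¹ • v) = 0 := (hWmem _).mp (W.smul_mem _ hvW)
    refine ⟨Fin.cons (c⁻¹ • v) e, fun i j => ?_⟩
    refine Fin.cases ?_ (fun i' => ?_) i <;> refine Fin.cases ?_ (fun j' => ?_) j
    · rw [if_pos rfl, Fin.cons_zero, hu]
    · rw [if_neg (Fin.succ_ne_zero j').symm, Fin.cons_zero, Fin.cons_succ, ← hS.eq (e j') _, hue,
        map_zero]
    · rw [if_neg (Fin.succ_ne_zero i'), Fin.cons_zero, Fin.cons_succ, hue]
    · simp only [Fin.cons_succ, he, Fin.succ_inj]

/-- Orthonormal bases. -/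
theorem exists_orthonormal_basis [Finite F] (hσ : σ ≠ RingHom.id F) (hσ2 : ∀ a : F, σ (σ a) = a)
    (B : V →ₛₗ[σ] V →ₗ[F] F) (hS : B.IsSymm) (hB : B.Nondegenerate) :
    ∃ b : Module.Basis (Fin (Module.finrank F V)) F V, ∀ i j, B (b i) (b j) = if i = j then 1 else 0 := by
  obtain ⟨e, he⟩ := exists_orthonormal_family hσ hσ2 B hS hB _ le_rfl
  have hli : LinearIndependent F e := by
    rw [Fintype.linearIndependent_iff]
    intro g hg i
    have h := congrArg (B (e i)) hg
    rw [map_sum, map_zero] at h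
    simpa [map_smul, he] using h
  refine ⟨basisOfLinearIndependentOfCardEqFinrank' e hli (Fintype.card_fin _), fun i j => ?_⟩
  simp only [coe_basisOfLinearIndependentOfCardEqFinrank', he]

end Cfsg.Agent.Lib.Geometry
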