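import Mathlib.LinearAlgebra.BilinearForm.Properties
import Cfsg.Agent.Lib.Geometry.Extend

/-!
Witt's extension theorem for non-degenerate alternating forms (any field).
-/

set_option autoImplicit false

namespace Cfsg.Agent.Lib.Geometry

variable {F V : Type*} [Field F] [AddCommGroup V] [Module F V]

/-- The group of linear automorphisms preserving a bilinear form. -/
def bilinIsometries (B : LinearMap.BilinForm F V) : Subgroup (V ≃ₗ[F] V) where
  carrier := {g | ∀ u v, B (g u) (g v) = B u v}
  mul_mem' {g h} hg hh u v := by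
    show B (g (h u)) (g (h v)) = B u v
    rw [hg, hh]
  one_mem' u v := rfl
  inv_mem' {g} hg u v := by
    show B (g.symm u) (g.symm v) = B u v
    rw [← hg, g.apply_symm_apply, g.apply_symm_apply]

theorem mem_bilinIsometries {B : LinearMap.BilinForm F V} {g : V ≃ₗ[F] V} :
    g ∈ bilinIsometries B ↔ ∀ u v, B (g u) (g v) = B u v :=
  Iff.rfl

variable [FiniteDimensional F V] (B : LinearMap.BilinForm F V)

/-- With a non-degenerate bilinear form, `X₀^⊥` separates the points outside `X₀`. -/
theorem exists_perp_apply_eq_one (hB : B.Nondegenerate) (X₀ : Submodule F V) {x : V}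
    (hx : x ∉ X₀) : ∃ u : V, (∀ z ∈ X₀, B u z = 0) ∧ B u x = 1 := by
  obtain ⟨φ, h1, h2⟩ := exists_functional_one_of_notMem X₀ hx
  refine ⟨(B.toDual hB).symm φ, fun z hz => ?_, ?_⟩
  · rw [LinearMap.BilinForm.apply_toDual_symm_apply]
    exact h2 z hz
  · rw [LinearMap.BilinForm.apply_toDual_symm_apply]
    exact h1

/-- The map `v ↦ v + c B(w,v) w` as an automorphism preserving an alternating form. -/
theorem exists_alt_transvection (hB : B.Nondegenerate) (hA : B.IsAlt) (w : V) (c : F) :
    ∃ g ∈ bilinIsometries B, ∀ v, g v = v + (c * B w v) • w := by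
  let T : V →ₗ[F] V := LinearMap.id + (c • B w).smulRight w
  have hT : ∀ v, T v = v + (c * B w v) • w := fun v => rfl
  have hiso : ∀ u v, B (T u) (T v) = B u v := by
    intro u v
    have h1 : B u w = - B w u := (hA.neg_eq w u).symm
    have h2 : B w w = 0 := hA w
    simp only [hT, map_add, map_smul, LinearMap.add_apply, LinearMap.smul_apply, smul_eq_mul,
      h1, h2]
    ring
  obtain ⟨g, hg⟩ := exists_linearEquiv_of_injective T
    (fun v hv => hB.1 v fun u => by rw [← hiso, hv, map_zero, LinearMap.zero_apply])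
  exact ⟨g, fun u v => by rw [hg, hg, hiso], fun v => (hg v).trans (hT v)⟩

/-- A single transvection step. -/
theorem exists_alt_step_of_apply_ne_zero (hB : B.Nondegenerate) (hA : B.IsAlt)
    (X₀ : Submodule F V) (x y : V) (hxy : B y x ≠ 0) (hperp : ∀ z ∈ X₀, B (y - x) z = 0) :
    ∃ g ∈ bilinIsometries B, (∀ z ∈ X₀, g z = z) ∧ g x = y := by
  obtain ⟨g, hg, hgv⟩ := exists_alt_transvection B hB hA (y - x) (B y x)⁻¹
  refine ⟨g, hg, fun z hz => ?_, ?_⟩
  · rw [hgv, hperp z hz]
    simp
  · have h1 : B (y - x) x = B y x := by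
      simp [map_sub, LinearMap.sub_apply, hA x]
    rw [hgv, h1, inv_mul_cancel₀ hxy]
    simp

/-- Witt's theorem, alternating forms. -/
theorem witt_alternating (hB : B.Nondegenerate) (hA : B.IsAlt) (X : Submodule F V)
    (φ : X →ₗ[F] V) (hinj : Function.Injective φ)
    (hφ : ∀ x x' : X, B (φ x) (φ x') = B (x : V) (x' : V)) :
    ∃ g : V ≃ₗ[F] V, (∀ u v : V, B (g u) (g v) = B u v) ∧ ∀ x : X, g (x : V) = φ x := by
  refine exists_extension_of_step' (bilinIsometries B)
    (fun X f => ∀ a ∈ X, ∀ b ∈ X, B (f a) (f b) = B a b)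
    (fun X X₀ f hle hC a ha b hb => hC a (hle ha) b (hle hb))
    (fun X f g hg hC a ha b hb => by
      show B (g (f a)) (g (f b)) = B a b
      rw [mem_bilinIsometries.mp hg, hC a ha b hb])
    ?_ X φ hinj ?_
  · intro X₀ x f hx hy hfix hC
    set y := f x with hy'
    have hw : ∀ z ∈ X₀, B (y - x) z = 0 := by
      intro z hz
      have h := hC x (Submodule.mem_sup_right (Submodule.mem_span_singleton_self x)) z
        (Submodule.mem_sup_left hz)
      rw [hfix z hz] at h
      rw [map_sub, LinearMap.sub_apply, h, sub_self]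
    by_cases hxy : B y x ≠ 0
    · exact exists_alt_step_of_apply_ne_zero B hB hA X₀ x y hxy hw
    · push Not at hxy
      obtain ⟨u₁, hu₁, hu₁x⟩ := exists_perp_apply_eq_one B hB X₀ hx
      obtain ⟨u₂, hu₂, hu₂y⟩ := exists_perp_apply_eq_one B hB X₀ hy
      let W : Submodule F V :=
        { carrier := {u | ∀ z ∈ X₀, B u z = 0}
          zero_mem' := fun z _ => by simp
          add_mem' := fun {a b} ha hb z hz => by simp [ha z hz, hb z hz]
          smul_mem' := fun c a ha z hz => by simp [ha z hz] }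
      obtain ⟨u, huW, hux, huy⟩ := exists_mem_apply_ne_apply_ne W (B.flip x) (B.flip y)
        ⟨u₁, hu₁, by simp [hu₁x]⟩ ⟨u₂, hu₂, by simp [hu₂y]⟩
      simp only [LinearMap.BilinForm.flip_apply] at hux huy
      have hu0 : ∀ z ∈ X₀, B u z = 0 := huW
      have hs1 : B (x + u) x ≠ 0 := by
        simpa [hA x] using hux
      obtain ⟨g₁, hg₁, hg₁X, hg₁x⟩ := exists_alt_step_of_apply_ne_zero B hB hA X₀ x (x + u) hs1
        (fun z hz => by simpa using hu0 z hz)
      have hyz : B y (x + u) ≠ 0 := by
        have h1 : B y u = - B u y := (hA.neg_eq u y).symm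
        rw [map_add, hxy, zero_add, h1, neg_ne_zero]
        exact huy
      obtain ⟨g₂, hg₂, hg₂X, hg₂x⟩ := exists_alt_step_of_apply_ne_zero B hB hA X₀ (x + u) y hyz
        (fun z hz => by
          have h := hw z hz
          simp only [map_sub, map_add, LinearMap.sub_apply, LinearMap.add_apply] at h ⊢
          rw [hu0 z hz, add_zero]
          exact h)
      refine ⟨g₂ * g₁, Subgroup.mul_mem _ hg₂ hg₁, fun z hz => ?_, ?_⟩
      · show g₂ (g₁ z) = z
        rw [hg₁X z hz, hg₂X z hz]
      · show g₂ (g₁ x) = y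
        rw [hg₁x, hg₂x]
  · intro f hf a ha b hb
    have h1 := hf ⟨a, ha⟩
    have h2 := hf ⟨b, hb⟩
    simp only at h1 h2
    rw [h1, h2]
    exact hφ ⟨a, ha⟩ ⟨b, hb⟩

end Cfsg.Agent.Lib.Geometry
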