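import Mathlib.LinearAlgebra.QuadraticForm.Basic
import Mathlib.LinearAlgebra.BilinearForm.Properties
import Mathlib.Tactic.LinearCombination
import Mathlib.Tactic.FieldSimp
import Cfsg.Agent.Lib.Geometry.WittAlternating

/-!
Witt's extension theorem for quadratic forms with non-degenerate polar form (any field, any
characteristic), by reflections, Siegel transformations and hyperbolic scalings.
-/

set_option autoImplicit false

namespace Cfsg.Agent.Lib.Geometry

open QuadraticMap (polarBilin)

variable {F V : Type*} [Field F] [AddCommGroup V] [Module F V]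

/-- The group of linear automorphisms preserving a quadratic form. -/
def quadIsometries (Q : QuadraticForm F V) : Subgroup (V ≃ₗ[F] V) where
  carrier := {g | ∀ v, Q (g v) = Q v}
  mul_mem' {g h} hg hh v := by
    show Q (g (h v)) = Q v
    rw [hg, hh]
  one_mem' v := rfl
  inv_mem' {g} hg v := by
    show Q (g.symm v) = Q v
    rw [← hg, g.apply_symm_apply]

theorem mem_quadIsometries {Q : QuadraticForm F V} {g : V ≃ₗ[F] V} :
    g ∈ quadIsometries Q ↔ ∀ v, Q (g v) = Q v :=
  Iff.rfl

variable (Q : QuadraticForm F V)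

theorem quad_add (x y : V) : Q (x + y) = Q x + Q y + polarBilin Q x y := by
  rw [QuadraticMap.polarBilin_apply_apply]
  exact QuadraticMap.map_add Q x y

theorem quad_sub (x y : V) : Q (x - y) = Q x + Q y - polarBilin Q x y := by
  rw [sub_eq_add_neg, quad_add, QuadraticMap.map_neg, map_neg]
  ring

theorem quad_smul (c : F) (x : V) : Q (c • x) = c * c * Q x := by
  rw [QuadraticMap.map_smul, smul_eq_mul]

theorem quad_polar_self (x : V) : polarBilin Q x x = 2 * Q x := by
  rw [QuadraticMap.polarBilin_apply_apply, QuadraticMap.polar_self, nsmul_eq_mul, Nat.cast_ofNat]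

theorem quad_polar_comm (x y : V) : polarBilin Q x y = polarBilin Q y x := by
  rw [QuadraticMap.polarBilin_apply_apply, QuadraticMap.polarBilin_apply_apply,
    QuadraticMap.polar_comm]

theorem quad_polar_map {T : V →ₗ[F] V} (hT : ∀ v, Q (T v) = Q v) (x y : V) :
    polarBilin Q (T x) (T y) = polarBilin Q x y := by
  have h := quad_add Q (T x) (T y)
  rw [← map_add, hT, hT, hT, quad_add Q x y] at h
  exact (add_left_cancel h).symm

variable [FiniteDimensional F V]

theorem exists_quad_equiv (hQ : (polarBilin Q).Nondegenerate) (T : V →ₗ[F] V)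
    (hT : ∀ v, Q (T v) = Q v) : ∃ g ∈ quadIsometries Q, ∀ v, g v = T v := by
  obtain ⟨g, hg⟩ := exists_linearEquiv_of_injective T
    (fun v hv => hQ.1 v fun u => by
      rw [← quad_polar_map Q hT, hv, map_zero, LinearMap.zero_apply])
  exact ⟨g, fun v => by rw [hg, hT], hg⟩

/-- The reflection in a non-singular vector. -/
theorem exists_quad_reflection (hQ : (polarBilin Q).Nondegenerate) (w : V) (hw : Q w ≠ 0) :
    ∃ g ∈ quadIsometries Q, ∀ v, g v = v - ((Q w)⁻¹ * polarBilin Q w v) • w := by
  let T : V →ₗ[F] V := LinearMap.id - ((Q w)⁻¹ • polarBilin Q w).smulRight w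
  have hT : ∀ v, T v = v - ((Q w)⁻¹ * polarBilin Q w v) • w := fun v => rfl
  obtain ⟨g, hg, hgv⟩ := exists_quad_equiv Q hQ T (fun v => by
    rw [hT, quad_sub, quad_smul, map_smul, smul_eq_mul, quad_polar_comm Q v w]
    field_simp
    ring)
  exact ⟨g, hg, fun v => (hgv v).trans (hT v)⟩

/-- The Siegel transformation attached to a singular `w` and any `u` orthogonal to it. -/
theorem exists_quad_siegel (hQ : (polarBilin Q).Nondegenerate) (w u : V) (hw : Q w = 0)
    (huw : polarBilin Q u w = 0) :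
    ∃ g ∈ quadIsometries Q, ∀ v,
      g v = v + polarBilin Q u v • w - polarBilin Q w v • (u + Q u • w) := by
  let T : V →ₗ[F] V :=
    LinearMap.id + (polarBilin Q u).smulRight w - (polarBilin Q w).smulRight (u + Q u • w)
  have hT : ∀ v, T v = v + polarBilin Q u v • w - polarBilin Q w v • (u + Q u • w) :=
    fun v => rfl
  obtain ⟨g, hg, hgv⟩ := exists_quad_equiv Q hQ T (fun v => by
    have h1 : polarBilin Q w w = 0 := by rw [quad_polar_self, hw, mul_zero]
    simp only [hT, quad_sub, quad_add, quad_smul, map_smul, map_add, LinearMap.smul_apply,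
      LinearMap.add_apply, smul_eq_mul, hw, huw, h1, quad_polar_comm Q w u,
      quad_polar_comm Q v w, quad_polar_comm Q v u]
    ring)
  exact ⟨g, hg, fun v => (hgv v).trans (hT v)⟩

/-- The scaling `w ↦ t w`, `w' ↦ t⁻¹ w'` of a hyperbolic pair. -/
theorem exists_quad_hyperbolic_scale (hQ : (polarBilin Q).Nondegenerate) (w w' : V) (t : F)
    (ht : t ≠ 0) (hw : Q w = 0) (hw' : Q w' = 0) (hww' : polarBilin Q w w' = 1) :
    ∃ g ∈ quadIsometries Q, ∀ v,
      g v = v + ((t - 1) * polarBilin Q w' v) • w + ((t⁻¹ - 1) * polarBilin Q w v) • w' := by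
  let T : V →ₗ[F] V := LinearMap.id + ((t - 1) • polarBilin Q w').smulRight w +
    ((t⁻¹ - 1) • polarBilin Q w).smulRight w'
  have hT : ∀ v, T v =
      v + ((t - 1) * polarBilin Q w' v) • w + ((t⁻¹ - 1) * polarBilin Q w v) • w' :=
    fun v => rfl
  obtain ⟨g, hg, hgv⟩ := exists_quad_equiv Q hQ T (fun v => by
    simp only [hT, quad_add, quad_smul, map_smul, map_add, LinearMap.smul_apply,
      LinearMap.add_apply, smul_eq_mul, hw, hw', hww',
      quad_polar_comm Q v w, quad_polar_comm Q v w']
    field_simp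
    ring)
  exact ⟨g, hg, fun v => (hgv v).trans (hT v)⟩

/-- Given `w` singular, not in `X₀` and orthogonal to it, a singular partner of `w`
orthogonal to `X₀`. -/
theorem exists_quad_partner (hQ : (polarBilin Q).Nondegenerate) (X₀ : Submodule F V) (w : V)
    (hw : Q w = 0) (hwX : w ∉ X₀) (hperp : ∀ z ∈ X₀, polarBilin Q w z = 0) :
    ∃ w' : V, Q w' = 0 ∧ polarBilin Q w w' = 1 ∧ ∀ z ∈ X₀, polarBilin Q w' z = 0 := by
  obtain ⟨u, hu, hu1⟩ := exists_perp_apply_eq_one (polarBilin Q) hQ X₀ hwX
  refine ⟨u - Q u • w, ?_, ?_, fun z hz => ?_⟩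
  · rw [quad_sub, quad_smul, hw, map_smul, smul_eq_mul, hu1]
    ring
  · rw [map_sub, map_smul, quad_polar_comm Q w u, hu1, quad_polar_self, hw]
    simp
  · simp [map_sub, map_smul, hu z hz, hperp z hz]

/-- One step of the extension. -/
theorem exists_quad_step (hQ : (polarBilin Q).Nondegenerate) (X₀ : Submodule F V) (x y : V)
    (hx : x ∉ X₀) (hy : y ∉ X₀) (hxy : Q y = Q x)
    (hperp : ∀ z ∈ X₀, polarBilin Q (y - x) z = 0) :
    ∃ g ∈ quadIsometries Q, (∀ z ∈ X₀, g z = z) ∧ g x = y := by
  obtain ⟨w, rfl⟩ : ∃ w, y = x + w := ⟨y - x, (add_sub_cancel x y).symm⟩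
  simp only [add_sub_cancel_left] at hperp
  have hsum : Q w + polarBilin Q w x = 0 := by
    have h := quad_add Q x w
    rw [hxy, quad_polar_comm Q x w] at h
    linear_combination -h
  by_cases hw : Q w ≠ 0
  · obtain ⟨g, hg, hgv⟩ := exists_quad_reflection Q hQ w hw
    refine ⟨g, hg, fun z hz => by simp [hgv, hperp z hz], ?_⟩
    have h : polarBilin Q w x = - Q w := by linear_combination hsum
    rw [hgv, h, mul_neg, inv_mul_cancel₀ hw, neg_one_smul, sub_neg_eq_add]
  · push Not at hw
    have hwx : polarBilin Q w x = 0 := by rwa [hw, zero_add] at hsum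
    by_cases hx' : x ∉ X₀ ⊔ Submodule.span F {w}
    · obtain ⟨u, hu, hu1⟩ := exists_perp_apply_eq_one (polarBilin Q) hQ _ hx'
      obtain ⟨g, hg, hgv⟩ := exists_quad_siegel Q hQ w u hw
        (hu w (Submodule.mem_sup_right (Submodule.mem_span_singleton_self w)))
      refine ⟨g, hg, fun z hz => ?_, ?_⟩
      · simp [hgv, hu z (Submodule.mem_sup_left hz), hperp z hz]
      · simp [hgv, hu1, hwx]
    · push Not at hx'
      obtain ⟨z₀, hz₀, v₀, hv₀, hxe⟩ := Submodule.mem_sup.mp hx'
      obtain ⟨a, rfl⟩ := Submodule.mem_span_singleton.mp hv₀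
      subst hxe
      have ha : a ≠ 0 := by
        rintro rfl
        simp [hz₀] at hx
      have ha1 : a + 1 ≠ 0 := fun h => hy (by
        rw [show z₀ + a • w + w = z₀ + (a + 1) • w by rw [add_smul, one_smul, add_assoc]]
        simpa [h] using hz₀)
      have hwX : w ∉ X₀ := fun h => hx (X₀.add_mem hz₀ (X₀.smul_mem a h))
      obtain ⟨w', hw'0, hww', hw'X⟩ := exists_quad_partner Q hQ X₀ w hw hwX hperp
      obtain ⟨g, hg, hgv⟩ := exists_quad_hyperbolic_scale Q hQ w w' ((a + 1) / a)
        (div_ne_zero ha1 ha) hw hw'0 hww'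
      have hfix : ∀ z ∈ X₀, g z = z := fun z hz => by simp [hgv, hperp z hz, hw'X z hz]
      refine ⟨g, hg, hfix, ?_⟩
      have hgw : g w = ((a + 1) / a) • w := by
        rw [hgv, quad_polar_self, hw, quad_polar_comm Q w' w, hww']
        simp [sub_smul]
      rw [map_add, map_smul, hfix z₀ hz₀, hgw, smul_smul, mul_div_cancel₀ _ ha, add_smul,
        one_smul, add_assoc]

/-- Witt's theorem, quadratic forms. -/
theorem witt_quadratic (hQ : (polarBilin Q).Nondegenerate) (X : Submodule F V)
    (φ : X →ₗ[F] V) (hinj : Function.Injective φ) (hφ : ∀ x : X, Q (φ x) = Q (x : V)) :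
    ∃ g : V ≃ₗ[F] V, (∀ v : V, Q (g v) = Q v) ∧ ∀ x : X, g (x : V) = φ x := by
  refine exists_extension_of_step' (quadIsometries Q)
    (fun X f => ∀ a ∈ X, Q (f a) = Q a)
    (fun X X₀ f hle hC a ha => hC a (hle ha))
    (fun X f g hg hC a ha => by
      show Q (g (f a)) = Q a
      rw [mem_quadIsometries.mp hg, hC a ha])
    ?_ X φ hinj ?_
  · intro X₀ x f hx hy hfix hC
    have hx' : x ∈ X₀ ⊔ Submodule.span F {x} :=
      Submodule.mem_sup_right (Submodule.mem_span_singleton_self x)
    refine exists_quad_step Q hQ X₀ x (f x) hx hy (hC x hx') (fun z hz => ?_)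
    have hz' : z ∈ X₀ ⊔ Submodule.span F {x} := Submodule.mem_sup_left hz
    have h := hC (x + z) (Submodule.add_mem _ hx' hz')
    rw [map_add, quad_add, quad_add, hC x hx', hfix z hz] at h
    rw [map_sub, LinearMap.sub_apply, add_left_cancel h, sub_self]
  · intro f hf a ha
    have h1 := hf ⟨a, ha⟩
    simp only at h1
    rw [h1]
    exact hφ ⟨a, ha⟩

end Cfsg.Agent.Lib.Geometry
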