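import Mathlib.LinearAlgebra.Dimension.Constructions
import Mathlib.LinearAlgebra.BilinearForm.Orthogonal
import Mathlib.Algebra.Group.Subgroup.Pointwise
import Mathlib.Tactic.Module
import Cfsg.Agent.Lib.Geometry.WittQuadratic

/-!
Reflections of a quadratic space, fixed and moved spaces of isometries, and generation of the
isometry group by reflections (Cartan-Dieudonné, any field, any characteristic).
-/

set_option autoImplicit false

namespace Cfsg.Agent.Lib.Geometry

open QuadraticMap (polarBilin)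
open Module (finrank)

variable {F V : Type*} [Field F] [AddCommGroup V] [Module F V] (Q : QuadraticForm F V)

theorem refl_scalar_identity (v : V) : (Q v)⁻¹ * (Q v)⁻¹ * Q v = (Q v)⁻¹ := by
  by_cases h : Q v = 0
  · simp [h]
  · field_simp

/-- `x ↦ x - (Q v)⁻¹ f(v,x) v`; the identity for singular `v`. -/
def reflLin (v : V) : V →ₗ[F] V := LinearMap.id - ((Q v)⁻¹ • polarBilin Q v).smulRight v

theorem reflLin_apply (v x : V) : reflLin Q v x = x - ((Q v)⁻¹ * polarBilin Q v x) • v := rfl

theorem reflLin_involutive (v : V) : (reflLin Q v) ∘ₗ (reflLin Q v) = LinearMap.id := by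
  refine LinearMap.ext fun x => ?_
  rw [LinearMap.comp_apply, LinearMap.id_apply, reflLin_apply Q v (reflLin Q v x), reflLin_apply,
    map_sub, map_smul, smul_eq_mul, quad_polar_self]
  have h := refl_scalar_identity Q v
  have e : (Q v)⁻¹ * (polarBilin Q v x - (Q v)⁻¹ * polarBilin Q v x * (2 * Q v)) =
      -((Q v)⁻¹ * polarBilin Q v x) := by
    linear_combination (-2 * polarBilin Q v x) * h
  rw [e, neg_smul, sub_neg_eq_add, sub_add_cancel]

/-- The reflection in `v`, as an isometry. -/
def refl (v : V) : quadIsometries Q :=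
  ⟨LinearEquiv.ofLinearMap (reflLin Q v) (reflLin Q v) (reflLin_involutive Q v) (reflLin_involutive Q v), fun x => by
    show Q (reflLin Q v x) = Q x
    rw [reflLin_apply, quad_sub, quad_smul, map_smul, smul_eq_mul, quad_polar_comm Q x v]
    linear_combination (polarBilin Q v x * polarBilin Q v x) * refl_scalar_identity Q v⟩

theorem refl_apply (v x : V) :
    (refl Q v : V ≃ₗ[F] V) x = x - ((Q v)⁻¹ * polarBilin Q v x) • v :=
  rfl

theorem refl_mul_self (v : V) : refl Q v * refl Q v = 1 :=
  Subtype.ext (LinearEquiv.ext fun x => LinearMap.congr_fun (reflLin_involutive Q v) x)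

theorem refl_apply_self {v : V} (hv : Q v ≠ 0) : (refl Q v : V ≃ₗ[F] V) v = -v := by
  have h : (Q v)⁻¹ * (2 * Q v) = 2 := by field_simp
  rw [refl_apply, quad_polar_self, h, two_smul]
  abel

theorem refl_smul (v : V) {t : F} (ht : t ≠ 0) : refl Q (t • v) = refl Q v := by
  refine Subtype.ext (LinearEquiv.ext fun x => ?_)
  rw [refl_apply, refl_apply, quad_smul, map_smul, LinearMap.smul_apply, smul_eq_mul, smul_smul]
  by_cases hv : Q v = 0
  · simp [hv]
  · congr 2
    field_simp

theorem refl_conj (g : quadIsometries Q) (v : V) :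
    g * refl Q v * g⁻¹ = refl Q ((g : V ≃ₗ[F] V) v) := by
  refine Subtype.ext (LinearEquiv.ext fun x => ?_)
  show (g : V ≃ₗ[F] V) ((refl Q v : V ≃ₗ[F] V) ((g : V ≃ₗ[F] V).symm x)) = _
  rw [refl_apply, refl_apply, map_sub, map_smul, LinearEquiv.apply_symm_apply,
    mem_quadIsometries.mp g.2]
  congr 3
  have h := quad_polar_map Q (T := ((g : V ≃ₗ[F] V) : V →ₗ[F] V)) (mem_quadIsometries.mp g.2) v
    ((g : V ≃ₗ[F] V).symm x)
  simp only [LinearEquiv.coe_coe, LinearEquiv.apply_symm_apply] at h
  exact h.symm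

/-- `1 - g`. -/
def oneSub (g : quadIsometries Q) : V →ₗ[F] V :=
  LinearMap.id - ((g : V ≃ₗ[F] V) : V →ₗ[F] V)

theorem oneSub_apply (g : quadIsometries Q) (x : V) :
    oneSub Q g x = x - (g : V ≃ₗ[F] V) x :=
  rfl

/-- The fixed space of an isometry. -/
def fixedSpace (g : quadIsometries Q) : Submodule F V := LinearMap.ker (oneSub Q g)

/-- The moved space of an isometry. -/
def movedSpace (g : quadIsometries Q) : Submodule F V := LinearMap.range (oneSub Q g)

theorem mem_fixedSpace {g : quadIsometries Q} {x : V} :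
    x ∈ fixedSpace Q g ↔ (g : V ≃ₗ[F] V) x = x := by
  rw [fixedSpace, LinearMap.mem_ker, oneSub_apply, sub_eq_zero]
  exact eq_comm

theorem iso_polar (g : quadIsometries Q) (x y : V) :
    polarBilin Q ((g : V ≃ₗ[F] V) x) ((g : V ≃ₗ[F] V) y) = polarBilin Q x y :=
  quad_polar_map Q (T := ((g : V ≃ₗ[F] V) : V →ₗ[F] V)) (mem_quadIsometries.mp g.2) x y

theorem quad_oneSub (g : quadIsometries Q) (x : V) :
    Q (oneSub Q g x) = polarBilin Q (oneSub Q g x) x := by
  rw [oneSub_apply, quad_sub, mem_quadIsometries.mp g.2, map_sub, LinearMap.sub_apply,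
    quad_polar_self, quad_polar_comm Q x]
  ring

theorem polar_moved_fixed (g : quadIsometries Q) {v y : V} (hv : v ∈ movedSpace Q g)
    (hy : y ∈ fixedSpace Q g) : polarBilin Q v y = 0 := by
  obtain ⟨x, rfl⟩ := hv
  rw [mem_fixedSpace] at hy
  rw [oneSub_apply, map_sub, LinearMap.sub_apply, ← iso_polar Q g x y, hy, sub_self]

variable [FiniteDimensional F V]

theorem finrank_moved_add_fixed (g : quadIsometries Q) :
    finrank F (movedSpace Q g) + finrank F (fixedSpace Q g) = finrank F V :=
  LinearMap.finrank_range_add_finrank_ker _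

theorem fixedSpace_eq_orthogonal (hQ : (polarBilin Q).Nondegenerate) (g : quadIsometries Q) :
    fixedSpace Q g = LinearMap.BilinForm.orthogonal (polarBilin Q) (movedSpace Q g) := by
  refine Submodule.eq_of_le_of_finrank_eq (fun y hy v hv => polar_moved_fixed Q g hv hy) ?_
  rw [LinearMap.BilinForm.finrank_orthogonal hQ]
  have := finrank_moved_add_fixed Q g
  omega

/-- Lowering: if `v = a - g a` is non-singular, `r_v g` fixes exactly `Fix g + ⟨a⟩`. -/
theorem fixedSpace_refl_mul_of_eq (g : quadIsometries Q) (a : V) (ha : Q (oneSub Q g a) ≠ 0) :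
    fixedSpace Q (refl Q (oneSub Q g a) * g) = fixedSpace Q g ⊔ Submodule.span F {a} := by
  set v := oneSub Q g a with hv
  have hga : (g : V ≃ₗ[F] V) a = a - v := by rw [hv, oneSub_apply, sub_sub_cancel]
  refine le_antisymm (fun x hx => ?_) (sup_le (fun x hx => ?_) ?_)
  · rw [mem_fixedSpace] at hx
    have hx' : (refl Q v : V ≃ₗ[F] V) ((g : V ≃ₗ[F] V) x) = x := hx
    rw [refl_apply] at hx'
    set c := (Q v)⁻¹ * polarBilin Q v ((g : V ≃ₗ[F] V) x)
    have h1 : x + c • a ∈ fixedSpace Q g := by
      rw [mem_fixedSpace, map_add, map_smul, hga, smul_sub]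
      conv_rhs => rw [← hx']
      abel
    have h2 : x = (x + c • a) + (-c) • a := by rw [neg_smul, add_neg_cancel_right]
    rw [h2]
    exact Submodule.add_mem_sup h1
      (Submodule.smul_mem _ _ (Submodule.mem_span_singleton_self a))
  · have h := polar_moved_fixed Q g (v := v) ⟨a, rfl⟩ hx
    rw [mem_fixedSpace] at hx ⊢
    show (refl Q v : V ≃ₗ[F] V) ((g : V ≃ₗ[F] V) x) = x
    rw [hx, refl_apply, h, mul_zero, zero_smul, sub_zero]
  · rw [Submodule.span_singleton_le_iff_mem, mem_fixedSpace]
    show (refl Q v : V ≃ₗ[F] V) ((g : V ≃ₗ[F] V) a) = a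
    have h1 : polarBilin Q v a = Q v := (quad_oneSub Q g a).symm
    rw [hga, refl_apply, map_sub, h1, quad_polar_self]
    have h2 : (Q v)⁻¹ * (Q v - 2 * Q v) = -1 := by
      field_simp
      ring
    rw [h2, neg_one_smul, sub_neg_eq_add, sub_add_cancel]

theorem finrank_moved_refl_mul_of_mem (g : quadIsometries Q) {v : V} (hv : v ∈ movedSpace Q g)
    (hQv : Q v ≠ 0) :
    finrank F (movedSpace Q (refl Q v * g)) + 1 = finrank F (movedSpace Q g) := by
  obtain ⟨a, rfl⟩ := hv
  have hna : a ∉ fixedSpace Q g := fun h => hQv (by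
    rw [fixedSpace, LinearMap.mem_ker] at h
    rw [h, map_zero])
  have h1 := congrArg (fun W : Submodule F V => finrank F W) (fixedSpace_refl_mul_of_eq Q g a hQv)
  have h2 : finrank F ↥(fixedSpace Q g ⊔ Submodule.span F {a}) = finrank F (fixedSpace Q g) + 1 := by
    have hd : fixedSpace Q g ⊓ Submodule.span F {a} = ⊥ := by
      rw [eq_bot_iff]
      rintro x ⟨hx1, hx2⟩
      obtain ⟨c, rfl⟩ := Submodule.mem_span_singleton.mp hx2
      by_cases hc : c = 0
      · simp [hc]
      · exact absurd ((Submodule.smul_mem_iff _ hc).mp hx1) hna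
    have h := Submodule.finrank_sup_add_finrank_inf_eq (fixedSpace Q g) (Submodule.span F {a})
    rw [hd, finrank_bot, add_zero,
      finrank_span_singleton (fun h : a = 0 => hna (h ▸ Submodule.zero_mem _))] at h
    exact h
  have h3 := finrank_moved_add_fixed Q g
  have h4 := finrank_moved_add_fixed Q (refl Q (oneSub Q g a) * g)
  omega

/-- Raising: if `w` is non-singular outside the moved space, it gets added to it. -/
theorem movedSpace_refl_mul_of_notMem (hQ : (polarBilin Q).Nondegenerate) (g : quadIsometries Q)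
    {w : V} (hw : w ∉ movedSpace Q g) (hQw : Q w ≠ 0) :
    movedSpace Q (refl Q w * g) = movedSpace Q g ⊔ Submodule.span F {w} := by
  have hle : movedSpace Q (refl Q w * g) ≤ movedSpace Q g ⊔ Submodule.span F {w} := by
    rintro _ ⟨x, rfl⟩
    have e : oneSub Q (refl Q w * g) x =
        oneSub Q g x + ((Q w)⁻¹ * polarBilin Q w ((g : V ≃ₗ[F] V) x)) • w := by
      rw [oneSub_apply, oneSub_apply]
      show x - (refl Q w : V ≃ₗ[F] V) ((g : V ≃ₗ[F] V) x) = _
      rw [refl_apply]
      abel
    rw [e]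
    exact Submodule.add_mem_sup ⟨x, rfl⟩
      (Submodule.smul_mem _ _ (Submodule.mem_span_singleton_self w))
  have hfix : fixedSpace Q (refl Q w * g) ≤
      fixedSpace Q g ⊓ LinearMap.ker (polarBilin Q w) := by
    intro x hx
    rw [mem_fixedSpace] at hx
    have hx' : (refl Q w : V ≃ₗ[F] V) ((g : V ≃ₗ[F] V) x) = x := hx
    rw [refl_apply] at hx'
    have hc : (Q w)⁻¹ * polarBilin Q w ((g : V ≃ₗ[F] V) x) = 0 := by
      by_contra hc
      refine hw ((Submodule.smul_mem_iff _ (neg_ne_zero.mpr hc)).mp ⟨x, ?_⟩)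
      rw [oneSub_apply, neg_smul]
      conv_lhs => arg 1; rw [← hx']
      abel
    rw [hc, zero_smul, sub_zero] at hx'
    refine ⟨(mem_fixedSpace Q).mpr hx', ?_⟩
    rw [hx'] at hc
    exact (mul_eq_zero.mp hc).resolve_left (inv_ne_zero hQw)
  refine Submodule.eq_of_le_of_finrank_le hle ?_
  have hd : movedSpace Q g ⊓ Submodule.span F {w} = ⊥ := by
    rw [eq_bot_iff]
    rintro x ⟨hx1, hx2⟩
    obtain ⟨c, rfl⟩ := Submodule.mem_span_singleton.mp hx2
    by_cases hc : c = 0
    · simp [hc]
    · exact absurd ((Submodule.smul_mem_iff _ hc).mp hx1) hw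
  have h := Submodule.finrank_sup_add_finrank_inf_eq (movedSpace Q g) (Submodule.span F {w})
  rw [hd, finrank_bot, add_zero,
    finrank_span_singleton (fun h : w = 0 => hQw (by rw [h, map_zero]))] at h
  have hlt : fixedSpace Q g ⊓ LinearMap.ker (polarBilin Q w) < fixedSpace Q g := by
    refine lt_of_le_of_ne inf_le_left fun heq => hw ?_
    have hsub : fixedSpace Q g ≤ LinearMap.ker (polarBilin Q w) := inf_eq_left.mp heq
    have hrefl : LinearMap.BilinForm.IsRefl (polarBilin Q) := fun p r hpr => by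
      rwa [quad_polar_comm]
    rw [← LinearMap.BilinForm.orthogonal_orthogonal hQ hrefl (movedSpace Q g),
      ← fixedSpace_eq_orthogonal Q hQ g]
    intro y hy
    show polarBilin Q y w = 0
    rw [quad_polar_comm]
    exact hsub hy
  have h5 := Submodule.finrank_mono hfix
  have h6 := Submodule.finrank_lt_finrank_of_lt hlt
  have h3 := finrank_moved_add_fixed Q g
  have h4 := finrank_moved_add_fixed Q (refl Q w * g)
  omega

theorem finrank_moved_refl_mul_of_notMem (hQ : (polarBilin Q).Nondegenerate)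
    (g : quadIsometries Q) {w : V} (hw : w ∉ movedSpace Q g) (hQw : Q w ≠ 0) :
    finrank F (movedSpace Q (refl Q w * g)) = finrank F (movedSpace Q g) + 1 := by
  have h := finrank_moved_refl_mul_of_mem Q (refl Q w * g) (v := w)
    (by
      rw [movedSpace_refl_mul_of_notMem Q hQ g hw hQw]
      exact Submodule.mem_sup_right (Submodule.mem_span_singleton_self w)) hQw
  rw [← mul_assoc, refl_mul_self, one_mul] at h
  exact h.symm

theorem eq_one_of_finrank_moved_eq_zero (g : quadIsometries Q)
    (h : finrank F (movedSpace Q g) = 0) : g = 1 := by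
  rw [Submodule.finrank_eq_zero] at h
  refine Subtype.ext (LinearEquiv.ext fun x => ?_)
  have hx : oneSub Q g x ∈ movedSpace Q g := ⟨x, rfl⟩
  rw [h, Submodule.mem_bot, oneSub_apply, sub_eq_zero] at hx
  exact hx.symm

/-- A totally singular moved space is not a line. -/
theorem two_le_finrank_moved_of_singular (hQ : (polarBilin Q).Nondegenerate)
    (g : quadIsometries Q) (hne : finrank F (movedSpace Q g) ≠ 0)
    (hts : ∀ v ∈ movedSpace Q g, Q v = 0) : 2 ≤ finrank F (movedSpace Q g) := by
  by_contra hlt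
  have h1 : finrank F (movedSpace Q g) = 1 := by omega
  obtain ⟨⟨v, hv⟩, hv0, hspan⟩ := finrank_eq_one_iff'.mp h1
  have hv0' : v ≠ 0 := fun h => hv0 (Subtype.ext h)
  obtain ⟨a, ha⟩ := hv
  have hva : polarBilin Q v a = 0 := by
    rw [← ha, ← quad_oneSub, ha]
    exact hts v ⟨a, ha⟩
  have hmem : a ∈ fixedSpace Q g := by
    rw [fixedSpace_eq_orthogonal Q hQ g]
    intro u hu
    obtain ⟨c, hc⟩ := hspan ⟨u, hu⟩
    have hc' : c • v = u := congrArg Subtype.val hc
    show polarBilin Q u a = 0
    rw [← hc', map_smul, LinearMap.smul_apply, hva, smul_zero]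
  rw [fixedSpace, LinearMap.mem_ker, ha] at hmem
  exact hv0' hmem

/-- The escape step: from a totally singular moved space, two reflections reach an isometry whose
moved space has the same dimension and is not totally singular. -/
theorem exists_escape (hQ : (polarBilin Q).Nondegenerate)
    (hexc : (∃ a : F, a ≠ 0 ∧ a ≠ 1) ∨ finrank F V ≠ 4) (g : quadIsometries Q)
    (hne : finrank F (movedSpace Q g) ≠ 0) (hts : ∀ v ∈ movedSpace Q g, Q v = 0) :
    ∃ w v : V, Q w ≠ 0 ∧ Q v ≠ 0 ∧
      finrank F (movedSpace Q (refl Q v * (refl Q w * g))) = finrank F (movedSpace Q g) ∧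
      ∃ u ∈ movedSpace Q (refl Q v * (refl Q w * g)), Q u ≠ 0 := by
  classical
  have hr2 := two_le_finrank_moved_of_singular Q hQ g hne hts
  set R := movedSpace Q g with hR
  -- a good `w`
  obtain ⟨w, hQw, x₁, x₂, hx₁, hx₂, hx₁w, hx₂w, hx₁0, hx₂0, hx12⟩ :
      ∃ w : V, Q w ≠ 0 ∧ ∃ x₁ x₂ : V, x₁ ∈ R ∧ x₂ ∈ R ∧ polarBilin Q w x₁ = 0 ∧
        polarBilin Q w x₂ = 0 ∧ x₁ ≠ 0 ∧ x₂ ≠ 0 ∧ x₁ ≠ x₂ := by
    by_cases hperp : ∃ w ∈ fixedSpace Q g, Q w ≠ 0
    · obtain ⟨w, hw, hQw⟩ := hperp
      let b := Module.finBasis F R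
      refine ⟨w, hQw, (b ⟨0, by omega⟩ : R), (b ⟨1, by omega⟩ : R), Subtype.property _,
        Subtype.property _, ?_, ?_, ?_, ?_, ?_⟩
      · rw [quad_polar_comm]; exact polar_moved_fixed Q g (Subtype.property _) hw
      · rw [quad_polar_comm]; exact polar_moved_fixed Q g (Subtype.property _) hw
      · exact fun h => b.ne_zero _ (Subtype.ext h)
      · exact fun h => b.ne_zero _ (Subtype.ext h)
      · exact fun h => by
          have := b.injective (Subtype.ext h)
          simp at this
    · push Not at hperp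
      -- the fixed space is totally singular, so has dimension `finrank R`
      have hle : fixedSpace Q g ≤
          LinearMap.BilinForm.orthogonal (polarBilin Q) (fixedSpace Q g) := by
        intro x hx y hy
        show polarBilin Q y x = 0
        have h := quad_add Q y x
        rw [hperp _ ((fixedSpace Q g).add_mem hy hx), hperp y hy, hperp x hx, zero_add,
          zero_add] at h
        exact h.symm
      have hRle : R ≤ LinearMap.BilinForm.orthogonal (polarBilin Q) R := by
        intro x hx y hy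
        show polarBilin Q y x = 0
        have h := quad_add Q y x
        rw [hts _ (R.add_mem hy hx), hts y hy, hts x hx, zero_add, zero_add] at h
        exact h.symm
      rw [← fixedSpace_eq_orthogonal Q hQ g] at hRle
      have h1 := Submodule.finrank_mono hle
      rw [LinearMap.BilinForm.finrank_orthogonal hQ] at h1
      have h2 := Submodule.finrank_mono hRle
      have h3 := finrank_moved_add_fixed Q g
      rw [← hR] at h3
      obtain ⟨w, hQw⟩ : ∃ w, Q w ≠ 0 := by
        by_contra hall
        push Not at hall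
        haveI : Nontrivial V := Module.nontrivial_of_finrank_pos (R := F) (by omega)
        obtain ⟨x, hx⟩ := exists_ne (0 : V)
        refine hx (hQ.1 x fun y => ?_)
        have h := quad_add Q x y
        rw [hall, hall, hall, zero_add, zero_add] at h
        exact h.symm
      let K : Submodule F V := R ⊓ LinearMap.ker (polarBilin Q w)
      have hK : finrank F R ≤ finrank F K + 1 := by
        have e1 := Submodule.finrank_sup_add_finrank_inf_eq R (LinearMap.ker (polarBilin Q w))
        have e2 := Submodule.finrank_le (R ⊔ LinearMap.ker (polarBilin Q w))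
        have e3 := LinearMap.finrank_range_add_finrank_ker (polarBilin Q w)
        have e4 := Submodule.finrank_le (LinearMap.range (polarBilin Q w))
        rw [Module.finrank_self] at e4
        show finrank F R ≤ finrank F ↥(R ⊓ LinearMap.ker (polarBilin Q w)) + 1
        omega
      let b := Module.finBasis F K
      have hb0 : ∀ i, ((b i : K) : V) ≠ 0 := fun i h => b.ne_zero i (Subtype.ext h)
      by_cases hK2 : 2 ≤ finrank F K
      · refine ⟨w, hQw, (b ⟨0, by omega⟩ : K), (b ⟨1, by omega⟩ : K), (Subtype.property _ : _ ∈ K).1,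
          (Subtype.property _ : _ ∈ K).1, LinearMap.mem_ker.mp (Subtype.property _ : _ ∈ K).2,
          LinearMap.mem_ker.mp (Subtype.property _ : _ ∈ K).2, hb0 _, hb0 _, ?_⟩
        exact fun h => by
          have := b.injective (Subtype.ext h)
          simp at this
      · obtain ⟨a, ha0, ha1⟩ := hexc.resolve_right (by omega)
        set e : V := ((b ⟨0, by omega⟩ : K) : V) with he
        have heK : e ∈ K := Subtype.property _
        refine ⟨w, hQw, e, a • e, heK.1, R.smul_mem a heK.1, LinearMap.mem_ker.mp heK.2,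
          LinearMap.mem_ker.mp (K.smul_mem a heK).2, hb0 _, smul_ne_zero ha0 (hb0 _), ?_⟩
        intro h
        have : (a - 1) • e = 0 := by rw [sub_smul, one_smul, ← h, sub_self]
        rcases smul_eq_zero.mp this with h' | h'
        · exact ha1 (sub_eq_zero.mp h')
        · exact hb0 _ h'
  have hwR : w ∉ R := fun h => hQw (hts w h)
  set g' := refl Q w * g with hg'
  have hmoved : movedSpace Q g' = R ⊔ Submodule.span F {w} :=
    movedSpace_refl_mul_of_notMem Q hQ g hwR hQw
  have hrank : finrank F (movedSpace Q g') = finrank F R + 1 :=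
    finrank_moved_refl_mul_of_notMem Q hQ g hwR hQw
  -- the three candidates `w + x`
  have hcand : ∀ x, x ∈ R → polarBilin Q w x = 0 →
      w + x ∈ movedSpace Q g' ∧ Q (w + x) ≠ 0 := by
    intro x hx hxw
    refine ⟨?_, ?_⟩
    · rw [hmoved, add_comm]
      exact Submodule.add_mem_sup hx (Submodule.mem_span_singleton_self w)
    · rw [quad_add, hts x hx, hxw, add_zero, add_zero]
      exact hQw
  -- at most two totally singular hyperplanes
  have htwo : ∀ H₁ H₂ : Submodule F V, (∀ h ∈ H₁, Q h = 0) → (∀ h ∈ H₂, Q h = 0) →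
      H₁ ≤ R ⊔ Submodule.span F {w} → H₂ ≤ R ⊔ Submodule.span F {w} →
      finrank F H₁ = finrank F R → finrank F H₂ = finrank F R → H₁ ≠ R → H₂ ≠ R → H₁ = H₂ := by
    -- a totally singular hyperplane other than `R` consists of `x + t • w` with `f(x,w) = -t Q w`
    have key : ∀ H : Submodule F V, (∀ h ∈ H, Q h = 0) → H ≤ R ⊔ Submodule.span F {w} →
        finrank F H = finrank F R → H ≠ R → ∀ x ∈ R, ∀ t : F, x + t • w ∈ H →
        polarBilin Q w x = -(t * Q w) := by
      intro H hH hle hdim hneR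
      obtain ⟨h₀, hh₀, hh₀R⟩ : ∃ h ∈ H, h ∉ R :=
        SetLike.not_le_iff_exists.mp fun hle' => hneR (Submodule.eq_of_le_of_finrank_eq hle' hdim)
      obtain ⟨y, hy, _, hz, rfl⟩ := Submodule.mem_sup.mp (hle hh₀)
      obtain ⟨s, rfl⟩ := Submodule.mem_span_singleton.mp hz
      have hs : s ≠ 0 := fun h => hh₀R (by rw [h, zero_smul, add_zero]; exact hy)
      have hy' : polarBilin Q w y = -(s * Q w) := by
        have h := hH _ hh₀
        rw [quad_add, quad_smul, hts y hy, map_smul, smul_eq_mul, quad_polar_comm Q y w] at h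
        have : s * (s * Q w + polarBilin Q w y) = 0 := by linear_combination h
        linear_combination (mul_eq_zero.mp this).resolve_left hs
      intro x hx t hxt
      have hxy : polarBilin Q x y = 0 := by
        have h := quad_add Q x y
        rw [hts _ (R.add_mem hx hy), hts x hx, hts y hy, zero_add, zero_add] at h
        exact h.symm
      have h := hH _ (H.add_mem hxt hh₀)
      rw [quad_add, hH _ hxt, hH _ hh₀, zero_add, zero_add] at h
      simp only [map_add, map_smul, LinearMap.add_apply, LinearMap.smul_apply, smul_eq_mul,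
        quad_polar_self, hxy, quad_polar_comm Q x w, hy'] at h
      have : s * (polarBilin Q w x + t * Q w) = 0 := by linear_combination h
      linear_combination (mul_eq_zero.mp this).resolve_left hs
    intro H₁ H₂ hts₁ hts₂ hle₁ hle₂ hd₁ hd₂ hn₁ hn₂
    by_contra hne12
    obtain ⟨h₁, hh₁, hh₁'⟩ : ∃ h ∈ H₁, h ∉ H₂ :=
      SetLike.not_le_iff_exists.mp fun hle' =>
        hne12 (Submodule.eq_of_le_of_finrank_eq hle' (hd₁.trans hd₂.symm))
    have hlt : H₂ < H₂ ⊔ Submodule.span F {h₁} := by
      rw [left_lt_sup, Submodule.span_singleton_le_iff_mem]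
      exact hh₁'
    have hle' : H₂ ⊔ Submodule.span F {h₁} ≤ R ⊔ Submodule.span F {w} :=
      sup_le hle₂ ((Submodule.span_singleton_le_iff_mem _ _).mpr (hle₁ hh₁))
    have hrank' : finrank F ↥(R ⊔ Submodule.span F {w}) = finrank F R + 1 := by
      rw [← hmoved]; exact hrank
    have hfull : H₂ ⊔ Submodule.span F {h₁} = R ⊔ Submodule.span F {w} := by
      refine Submodule.eq_of_le_of_finrank_le hle' ?_
      have := Submodule.finrank_lt_finrank_of_lt hlt
      omega
    have hwmem : w ∈ H₂ ⊔ Submodule.span F {h₁} :=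
      hfull ▸ Submodule.mem_sup_right (Submodule.mem_span_singleton_self w)
    obtain ⟨p, hp, _, hz, hpw⟩ := Submodule.mem_sup.mp hwmem
    obtain ⟨c, rfl⟩ := Submodule.mem_span_singleton.mp hz
    obtain ⟨x, hx, _, hz', hxe⟩ := Submodule.mem_sup.mp (hle₂ hp)
    obtain ⟨t, rfl⟩ := Submodule.mem_span_singleton.mp hz'
    obtain ⟨x', hx', _, hz'', hxe'⟩ := Submodule.mem_sup.mp (hle₁ hh₁)
    obtain ⟨t', rfl⟩ := Submodule.mem_span_singleton.mp hz''
    have k1 := key H₂ hts₂ hle₂ hd₂ hn₂ x hx t (hxe ▸ hp)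
    have k2 := key H₁ hts₁ hle₁ hd₁ hn₁ x' hx' t' (hxe' ▸ hh₁)
    -- `w = (x + c x') + (t + c t') w`
    have hdec : (x + c • x') + (t + c * t' - 1) • w = 0 := by
      rw [← hxe, ← hxe', smul_add, smul_smul] at hpw
      rw [sub_smul, add_smul, one_smul]
      linear_combination (norm := module) hpw
    have hcoef : t + c * t' - 1 = 0 := by
      by_contra hne'
      refine hwR ((Submodule.smul_mem_iff _ hne').mp ?_)
      rw [eq_neg_of_add_eq_zero_right hdec]
      exact R.neg_mem (R.add_mem hx (R.smul_mem c hx'))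
    rw [hcoef, zero_smul, add_zero] at hdec
    have h0 : polarBilin Q w (x + c • x') = 0 := by rw [hdec, map_zero]
    rw [map_add, map_smul, smul_eq_mul, k1, k2] at h0
    exact hQw (by linear_combination (-(Q w)) * hcoef - h0)
  -- distinct lines give distinct hyperplanes
  have hinj : ∀ v₁ v₂ : V, v₁ ∈ movedSpace Q g' → v₂ ∈ movedSpace Q g' → Q v₁ ≠ 0 → Q v₂ ≠ 0 →
      movedSpace Q (refl Q v₁ * g') = movedSpace Q (refl Q v₂ * g') →
      ∃ c : F, v₂ = c • v₁ := by
    rintro _ _ ⟨a₁, rfl⟩ ⟨a₂, rfl⟩ h₁ h₂ heq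
    have hf : fixedSpace Q (refl Q (oneSub Q g' a₁) * g') =
        fixedSpace Q (refl Q (oneSub Q g' a₂) * g') := by
      rw [fixedSpace_eq_orthogonal Q hQ, fixedSpace_eq_orthogonal Q hQ, heq]
    rw [fixedSpace_refl_mul_of_eq Q g' a₁ h₁, fixedSpace_refl_mul_of_eq Q g' a₂ h₂] at hf
    have hmem : a₂ ∈ fixedSpace Q g' ⊔ Submodule.span F {a₁} :=
      hf ▸ Submodule.mem_sup_right (Submodule.mem_span_singleton_self a₂)
    obtain ⟨k, hk, _, hz, rfl⟩ := Submodule.mem_sup.mp hmem
    obtain ⟨c, rfl⟩ := Submodule.mem_span_singleton.mp hz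
    refine ⟨c, ?_⟩
    rw [map_add, map_smul, LinearMap.mem_ker.mp hk, zero_add]
  have hbad : ∀ x, x ∈ R → polarBilin Q w x = 0 →
      finrank F (movedSpace Q (refl Q (w + x) * g')) = finrank F R := by
    intro x hx hxw
    have h := finrank_moved_refl_mul_of_mem Q g' (hcand x hx hxw).1 (hcand x hx hxw).2
    omega
  have hsub : ∀ x, x ∈ R → polarBilin Q w x = 0 →
      movedSpace Q (refl Q (w + x) * g') ≤ R ⊔ Submodule.span F {w} := by
    intro x hx hxw
    rintro _ ⟨z, rfl⟩
    rw [← hmoved]
    have e : oneSub Q (refl Q (w + x) * g') z =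
        oneSub Q g' z + ((Q (w + x))⁻¹ * polarBilin Q (w + x) ((g' : V ≃ₗ[F] V) z)) • (w + x) := by
      rw [oneSub_apply, oneSub_apply]
      show z - (refl Q (w + x) : V ≃ₗ[F] V) ((g' : V ≃ₗ[F] V) z) = _
      rw [refl_apply]
      abel
    rw [e]
    exact Submodule.add_mem _ ⟨z, rfl⟩ (Submodule.smul_mem _ _ (hcand x hx hxw).1)
  have hdiff : ∀ x y, x ∈ R → y ∈ R → polarBilin Q w x = 0 → polarBilin Q w y = 0 → x ≠ y →
      movedSpace Q (refl Q (w + x) * g') ≠ movedSpace Q (refl Q (w + y) * g') := by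
    intro x y hx hy hxw hyw hxy heq
    obtain ⟨c, hc⟩ := hinj _ _ (hcand x hx hxw).1 (hcand y hy hyw).1 (hcand x hx hxw).2
      (hcand y hy hyw).2 heq
    have hc1 : c = 1 := by
      by_contra hne1
      refine hwR ((Submodule.smul_mem_iff _ (sub_ne_zero.mpr hne1)).mp ?_)
      have : (c - 1) • w = y - c • x := by linear_combination (norm := module) -hc
      rw [this]
      exact R.sub_mem hy (R.smul_mem c hx)
    rw [hc1, one_smul] at hc
    exact hxy (add_left_cancel hc).symm
  by_contra hgoal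
  push Not at hgoal
  have hall : ∀ x, x ∈ R → polarBilin Q w x = 0 →
      ∀ u ∈ movedSpace Q (refl Q (w + x) * g'), Q u = 0 := fun x hx hxw =>
    hgoal w (w + x) hQw (hcand x hx hxw).2 (hbad x hx hxw)
  have h0R : (0 : V) ∈ R := R.zero_mem
  have h0w : polarBilin Q w 0 = 0 := map_zero _
  have d01 := hdiff 0 x₁ h0R hx₁ h0w hx₁w (Ne.symm hx₁0)
  have d02 := hdiff 0 x₂ h0R hx₂ h0w hx₂w (Ne.symm hx₂0)
  have d12 := hdiff x₁ x₂ hx₁ hx₂ hx₁w hx₂w hx12
  have t2 := fun x y (hx : x ∈ R) (hxw : polarBilin Q w x = 0) (hy : y ∈ R)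
      (hyw : polarBilin Q w y = 0) =>
    htwo _ _ (hall x hx hxw) (hall y hy hyw) (hsub x hx hxw) (hsub y hy hyw) (hbad x hx hxw)
      (hbad y hy hyw)
  by_cases e0 : movedSpace Q (refl Q (w + 0) * g') = R
  · exact d12 (t2 x₁ x₂ hx₁ hx₁w hx₂ hx₂w (fun h => d01 (e0.trans h.symm))
      (fun h => d02 (e0.trans h.symm)))
  · by_cases e1 : movedSpace Q (refl Q (w + x₁) * g') = R
    · exact d02 (t2 0 x₂ h0R h0w hx₂ hx₂w e0 (fun h => d12 (e1.trans h.symm)))
    · exact d01 (t2 0 x₁ h0R h0w hx₁ hx₁w e0 e1)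

/-- Cartan-Dieudonné: the isometry group is generated by reflections, outside the hyperbolic
4-space over the field with two elements. -/
theorem closure_refl_eq_top (hQ : (polarBilin Q).Nondegenerate)
    (hexc : (∃ a : F, a ≠ 0 ∧ a ≠ 1) ∨ finrank F V ≠ 4) :
    Subgroup.closure {g : quadIsometries Q | ∃ v, Q v ≠ 0 ∧ g = refl Q v} = ⊤ := by
  set P := Subgroup.closure {g : quadIsometries Q | ∃ v, Q v ≠ 0 ∧ g = refl Q v} with hP
  have hmem : ∀ v, Q v ≠ 0 → refl Q v ∈ P := fun v hv => Subgroup.subset_closure ⟨v, hv, rfl⟩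
  rw [eq_top_iff]
  intro g _
  induction hr : finrank F (movedSpace Q g) using Nat.strong_induction_on generalizing g with
  | _ r ih =>
    subst hr
    have down : ∀ h : quadIsometries Q, finrank F (movedSpace Q h) ≤ finrank F (movedSpace Q g) →
        (∃ u ∈ movedSpace Q h, Q u ≠ 0) → h ∈ P := by
      rintro h hle ⟨u, hu, hQu⟩
      have hlt := finrank_moved_refl_mul_of_mem Q h hu hQu
      have := ih (finrank F (movedSpace Q (refl Q u * h))) (by omega) (Subgroup.mem_top _) rfl
      exact (Subgroup.mul_mem_cancel_left _ (hmem u hQu)).mp this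
    by_cases h0 : finrank F (movedSpace Q g) = 0
    · rw [eq_one_of_finrank_moved_eq_zero Q g h0]
      exact P.one_mem
    by_cases hns : ∃ u ∈ movedSpace Q g, Q u ≠ 0
    · exact down g le_rfl hns
    push Not at hns
    obtain ⟨w, v, hw, hv, hd, hu⟩ := exists_escape Q hQ hexc g h0 hns
    have := down _ hd.le hu
    exact (Subgroup.mul_mem_cancel_left _ (hmem w hw)).mp
      ((Subgroup.mul_mem_cancel_left _ (hmem v hv)).mp this)

end Cfsg.Agent.Lib.Geometry
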