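import Mathlib.LinearAlgebra.Matrix.Determinant.Basic
import Mathlib.LinearAlgebra.Matrix.NonsingularInverse
import Mathlib.LinearAlgebra.Matrix.ToLinearEquiv
import Mathlib.NumberTheory.LegendreSymbol.QuadraticChar.Basic
import Mathlib.Algebra.Group.Subgroup.Lattice
import Cfsg.Agent.Lib.Geometry.Reflection

/-!
The Dickson invariant (parity of the moved space) and the spinor norm (square class of the
discriminant of the Wall form) of isometries of a quadratic space.
-/

set_option autoImplicit false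

namespace Cfsg.Agent.Lib.Geometry

open QuadraticMap (polarBilin)
open Module (finrank)

attribute [-simp] QuadraticMap.polarBilin_apply_apply

/-! ### Square classes in a finite field -/

open scoped Classical in
/-- `1` on squares, `-1` on non-squares. -/
noncomputable def sqClass {F : Type*} [Field F] (x : F) : ℤˣ := if IsSquare x then 1 else -1

theorem sqClass_eq_one_iff {F : Type*} [Field F] {x : F} : sqClass x = 1 ↔ IsSquare x := by
  unfold sqClass
  split
  · simp_all
  · simp_all

theorem sqClass_eq_neg_one_iff {F : Type*} [Field F] {x : F} : sqClass x = -1 ↔ ¬ IsSquare x := by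
  unfold sqClass
  split
  · simp_all
  · simp_all

theorem sqClass_sq_mul {F : Type*} [Field F] (c : F) (hc : c ≠ 0) (x : F) :
    sqClass (c * c * x) = sqClass x := by
  have h : IsSquare (c * c * x) ↔ IsSquare x := by
    refine ⟨fun ⟨r, hr⟩ => ⟨r / c, ?_⟩, fun ⟨r, hr⟩ => ⟨c * r, by rw [hr]; ring⟩⟩
    field_simp
    linear_combination hr
  by_cases hsq : IsSquare x
  · rw [sqClass_eq_one_iff.mpr hsq, sqClass_eq_one_iff.mpr (h.mpr hsq)]
  · rw [sqClass_eq_neg_one_iff.mpr hsq, sqClass_eq_neg_one_iff.mpr fun h' => hsq (h.mp h')]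

theorem sqClass_inv {F : Type*} [Field F] (x : F) : sqClass x⁻¹ = sqClass x := by
  have h : IsSquare x⁻¹ ↔ IsSquare x := isSquare_inv
  by_cases hsq : IsSquare x
  · rw [sqClass_eq_one_iff.mpr hsq, sqClass_eq_one_iff.mpr (h.mpr hsq)]
  · rw [sqClass_eq_neg_one_iff.mpr hsq, sqClass_eq_neg_one_iff.mpr fun h' => hsq (h.mp h')]

theorem isSquare_mul_iff_of_not_isSquare {F : Type*} [Field F] [Finite F] {x y : F}
    (hx : ¬ IsSquare x) (hy : ¬ IsSquare y) : IsSquare (x * y) := by
  classical
  haveI := Fintype.ofFinite F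
  by_cases hxy : x * y = 0
  · rw [hxy]; exact IsSquare.zero
  rw [← quadraticChar_one_iff_isSquare hxy, map_mul,
    quadraticChar_neg_one_iff_not_isSquare.mpr hx, quadraticChar_neg_one_iff_not_isSquare.mpr hy]
  norm_num

theorem sqClass_mul {F : Type*} [Field F] [Finite F] {x y : F} (hx : x ≠ 0) (hy : y ≠ 0) :
    sqClass (x * y) = sqClass x * sqClass y := by
  by_cases h1 : IsSquare x
  · obtain ⟨c, rfl⟩ := h1
    have hc : c ≠ 0 := fun h => hx (by rw [h, mul_zero])
    rw [sqClass_sq_mul c hc, sqClass_eq_one_iff.mpr ⟨c, rfl⟩, one_mul]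
  · by_cases h2 : IsSquare y
    · obtain ⟨c, rfl⟩ := h2
      have hc : c ≠ 0 := fun h => hy (by rw [h, mul_zero])
      rw [mul_comm x, sqClass_sq_mul c hc, sqClass_eq_one_iff.mpr ⟨c, rfl⟩, mul_one]
    · rw [sqClass_eq_one_iff.mpr (isSquare_mul_iff_of_not_isSquare h1 h2),
        sqClass_eq_neg_one_iff.mpr h1, sqClass_eq_neg_one_iff.mpr h2]
      norm_num

variable {F V : Type*} [Field F] [AddCommGroup V] [Module F V] [FiniteDimensional F V]
variable (Q : QuadraticForm F V)

/-! ### Dickson invariant -/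

/-- `(-1)` to the dimension of the moved space. -/
noncomputable def dickson (g : quadIsometries Q) : ℤˣ := (-1) ^ finrank F (movedSpace Q g)

theorem moved_one : finrank F (movedSpace Q (1 : quadIsometries Q)) = 0 := by
  rw [Submodule.finrank_eq_zero, movedSpace, LinearMap.range_eq_bot]
  exact LinearMap.ext fun x => sub_self x

theorem dickson_one : dickson Q (1 : quadIsometries Q) = 1 := by
  rw [dickson, moved_one, pow_zero]

theorem dickson_refl_mul (hQ : (polarBilin Q).Nondegenerate) (g : quadIsometries Q) {v : V}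
    (hv : Q v ≠ 0) : dickson Q (refl Q v * g) = - dickson Q g := by
  unfold dickson
  by_cases h : v ∈ movedSpace Q g
  · rw [← finrank_moved_refl_mul_of_mem Q g h hv, pow_succ, mul_neg_one, neg_neg]
  · rw [finrank_moved_refl_mul_of_notMem Q hQ g h hv, pow_succ, mul_neg_one]

/-- A map multiplicative against reflections is multiplicative. -/
theorem map_mul_of_refl_mul {M : Type*} [Monoid M] (f : quadIsometries Q → M)
    (c : V → M) (h1 : f 1 = 1)
    (hrefl : ∀ v g, Q v ≠ 0 → f (refl Q v * g) = c v * f g)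
    (htop : Subgroup.closure {g : quadIsometries Q | ∃ v, Q v ≠ 0 ∧ g = refl Q v} = ⊤)
    (g h : quadIsometries Q) : f (g * h) = f g * f h := by
  have hg : g ∈ Subgroup.closure {g : quadIsometries Q | ∃ v, Q v ≠ 0 ∧ g = refl Q v} :=
    htop ▸ Subgroup.mem_top g
  induction hg using Subgroup.closure_induction_left with
  | one => rw [one_mul, h1, one_mul]
  | mul_left x hx y _ ih =>
    obtain ⟨v, hv, rfl⟩ := hx
    rw [mul_assoc, hrefl v _ hv, hrefl v _ hv, ih, mul_assoc]
  | inv_mul_cancel x hx y _ ih =>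
    obtain ⟨v, hv, rfl⟩ := hx
    have e : (refl Q v)⁻¹ = refl Q v := inv_eq_of_mul_eq_one_right (refl_mul_self Q v)
    rw [e, mul_assoc, hrefl v _ hv, hrefl v _ hv, ih, mul_assoc]

/-! ### The Wall form -/

/-- A Wall frame: preimages under `1 - g` of a basis of the moved space. -/
def IsWallFrame (g : quadIsometries Q) {n : ℕ} (a : Fin n → V) : Prop :=
  LinearIndependent F (fun i => oneSub Q g (a i)) ∧ n = finrank F (movedSpace Q g)

/-- The Gram matrix of the Wall form. -/
def wallMatrix (g : quadIsometries Q) {n : ℕ} (a : Fin n → V) : Matrix (Fin n) (Fin n) F :=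
  Matrix.of fun i j => polarBilin Q (oneSub Q g (a i)) (a j)

theorem exists_wallFrame (g : quadIsometries Q) :
    ∃ a : Fin (finrank F (movedSpace Q g)) → V, IsWallFrame Q g a := by
  let b := Module.finBasis F (movedSpace Q g)
  have hb : ∀ i, ∃ a, oneSub Q g a = ((b i : movedSpace Q g) : V) := fun i =>
    LinearMap.mem_range.mp (b i).2
  choose a ha using hb
  refine ⟨a, ?_, rfl⟩
  have : (fun i => oneSub Q g (a i)) = fun i => ((b i : movedSpace Q g) : V) := funext ha
  rw [this]
  exact b.linearIndependent.map' _ (Submodule.ker_subtype _)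

theorem wallFrame_exists_combination {g : quadIsometries Q} {n : ℕ} {a : Fin n → V}
    (ha : IsWallFrame Q g a) (x : V) :
    ∃ (c : Fin n → F) (k : V), k ∈ fixedSpace Q g ∧ x = (∑ i, c i • a i) + k := by
  have hspan : Submodule.span F (Set.range fun i => oneSub Q g (a i)) = movedSpace Q g := by
    refine Submodule.eq_of_le_of_finrank_eq ?_ ?_
    · rw [Submodule.span_le]
      rintro _ ⟨i, rfl⟩
      exact ⟨a i, rfl⟩
    · rw [finrank_span_eq_card ha.1, Fintype.card_fin, ha.2]
  have hx : oneSub Q g x ∈ Submodule.span F (Set.range fun i => oneSub Q g (a i)) :=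
    hspan ▸ ⟨x, rfl⟩
  obtain ⟨c, hc⟩ := (Submodule.mem_span_range_iff_exists_fun F).mp hx
  refine ⟨c, x - ∑ i, c i • a i, ?_, (add_sub_cancel _ _).symm⟩
  rw [fixedSpace, LinearMap.mem_ker, map_sub, map_sum]
  simp only [map_smul]
  rw [hc, sub_self]

theorem det_wallMatrix_ne_zero (hQ : (polarBilin Q).Nondegenerate) {g : quadIsometries Q} {n : ℕ}
    {a : Fin n → V} (ha : IsWallFrame Q g a) : (wallMatrix Q g a).det ≠ 0 := by
  intro h0
  obtain ⟨y, hy, hyM⟩ := Matrix.exists_vecMul_eq_zero_iff.mpr h0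
  have hz : ∑ i, y i • oneSub Q g (a i) = 0 := by
    refine hQ.1 _ fun x => ?_
    obtain ⟨c, k, hk, rfl⟩ := wallFrame_exists_combination Q ha x
    have hk' : polarBilin Q (∑ i, y i • oneSub Q g (a i)) k = 0 :=
      polar_moved_fixed Q g (Submodule.sum_mem _ fun i _ => Submodule.smul_mem _ _ ⟨a i, rfl⟩) hk
    have hj : ∀ j, polarBilin Q (∑ i, y i • oneSub Q g (a i)) (a j) = 0 := fun j => by
      have h := congrFun hyM j
      simp only [Matrix.vecMul, dotProduct, wallMatrix, Matrix.of_apply, Pi.zero_apply] at h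
      rw [map_sum, LinearMap.sum_apply]
      simpa only [map_smul, LinearMap.smul_apply, smul_eq_mul] using h
    rw [map_add, hk', add_zero, map_sum]
    exact Finset.sum_eq_zero fun j _ => by rw [map_smul, hj, smul_zero]
  exact hy (funext (Fintype.linearIndependent_iff.mp ha.1 y hz))

/-- The square class of the Wall discriminant does not depend on the frame. -/
theorem sqClass_wallMatrix_eq (hQ : (polarBilin Q).Nondegenerate) {g : quadIsometries Q} {n m : ℕ}
    {a : Fin n → V} {b : Fin m → V} (ha : IsWallFrame Q g a) (hb : IsWallFrame Q g b) :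
    sqClass (wallMatrix Q g a).det = sqClass (wallMatrix Q g b).det := by
  obtain rfl : n = m := ha.2.trans hb.2.symm
  have h := fun j => wallFrame_exists_combination Q ha (b j)
  choose C k hk hbj using h
  have e : wallMatrix Q g b = Matrix.of C * wallMatrix Q g a * (Matrix.of C).transpose := by
    ext i j
    have h1 : oneSub Q g (b i) = ∑ p, C i p • oneSub Q g (a p) := by
      rw [hbj i, map_add, LinearMap.mem_ker.mp (hk i), add_zero, map_sum]
      simp only [map_smul]
    have h2 : polarBilin Q (oneSub Q g (b i)) (k j) = 0 := polar_moved_fixed Q g ⟨b i, rfl⟩ (hk j)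
    have h3 : wallMatrix Q g b i j = polarBilin Q (oneSub Q g (b i)) (∑ r, C j r • a r) := by
      show polarBilin Q (oneSub Q g (b i)) (b j) = _
      conv_lhs => rw [hbj j]
      rw [map_add, h2, add_zero]
    rw [h3, h1]
    simp only [map_sum, map_smul, LinearMap.sum_apply, LinearMap.smul_apply, smul_eq_mul,
      Matrix.mul_apply, Matrix.of_apply, Matrix.transpose_apply, wallMatrix, Finset.sum_mul,
      Finset.mul_sum]
    exact Finset.sum_congr rfl fun r _ => Finset.sum_congr rfl fun p _ => by ring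
  have hne := det_wallMatrix_ne_zero Q hQ hb
  rw [e, Matrix.det_mul, Matrix.det_mul, Matrix.det_transpose] at hne ⊢
  have hC : (Matrix.of C).det ≠ 0 := fun h => hne (by rw [h]; ring)
  conv_rhs => rw [mul_right_comm, sqClass_sq_mul _ hC]

/-- The spinor norm. -/
noncomputable def spinor (g : quadIsometries Q) : ℤˣ :=
  sqClass (wallMatrix Q g (exists_wallFrame Q g).choose).det

theorem spinor_eq (hQ : (polarBilin Q).Nondegenerate) {g : quadIsometries Q} {n : ℕ}
    {a : Fin n → V} (ha : IsWallFrame Q g a) : spinor Q g = sqClass (wallMatrix Q g a).det :=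
  sqClass_wallMatrix_eq Q hQ (exists_wallFrame Q g).choose_spec ha

theorem spinor_one (hQ : (polarBilin Q).Nondegenerate) : spinor Q (1 : quadIsometries Q) = 1 := by
  rw [spinor_eq Q hQ (a := (Fin.elim0 : Fin 0 → V))
    ⟨linearIndependent_empty_type, (moved_one Q).symm⟩, Matrix.det_isEmpty]
  exact sqClass_eq_one_iff.mpr IsSquare.one

theorem spinor_refl_mul_of_notMem [Finite F] (hQ : (polarBilin Q).Nondegenerate)
    (g : quadIsometries Q) {w : V} (hw : w ∉ movedSpace Q g) (hQw : Q w ≠ 0) :
    spinor Q (refl Q w * g) = sqClass (Q w) * spinor Q g := by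
  obtain ⟨x₀, hx₀, hwx₀⟩ : ∃ x ∈ fixedSpace Q g, polarBilin Q w x = 1 := by
    obtain ⟨u, hu, hu1⟩ := exists_perp_apply_eq_one (polarBilin Q) hQ (movedSpace Q g) hw
    refine ⟨u, ?_, by rw [quad_polar_comm]; exact hu1⟩
    rw [fixedSpace_eq_orthogonal Q hQ g]
    intro z hz
    show polarBilin Q z u = 0
    rw [quad_polar_comm]
    exact hu z hz
  obtain ⟨a, ha⟩ := exists_wallFrame Q g
  have hgx₀ := (mem_fixedSpace Q).mp hx₀
  let a' : Fin (finrank F (movedSpace Q g)) → V := fun i => a i - polarBilin Q w (a i) • x₀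
  have ha'w : ∀ i, polarBilin Q w (a' i) = 0 := fun i => by
    simp only [a', map_sub, map_smul, hwx₀, smul_eq_mul, mul_one, sub_self]
  have himg : ∀ i, oneSub Q g (a' i) = oneSub Q g (a i) := fun i => by
    simp only [a', map_sub, map_smul, LinearMap.mem_ker.mp hx₀, smul_zero, sub_zero]
  have ha' : IsWallFrame Q g a' := ⟨by simp only [himg]; exact ha.1, ha.2⟩
  have hform : ∀ x, oneSub Q (refl Q w * g) x =
      oneSub Q g x + ((Q w)⁻¹ * polarBilin Q w ((g : V ≃ₗ[F] V) x)) • w := fun x => by
    rw [oneSub_apply, oneSub_apply]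
    show x - (refl Q w : V ≃ₗ[F] V) ((g : V ≃ₗ[F] V) x) = _
    rw [refl_apply]
    abel
  have hx₀img : oneSub Q (refl Q w * g) x₀ = (Q w)⁻¹ • w := by
    rw [hform, LinearMap.mem_ker.mp hx₀, hgx₀, hwx₀, mul_one, zero_add]
  let c : Fin (finrank F (movedSpace Q g)) → F := fun i =>
    (Q w)⁻¹ * polarBilin Q w ((g : V ≃ₗ[F] V) (a' i))
  have hkey : ∀ (y : Fin (finrank F (movedSpace Q g)) → F) (t : F),
      (∑ i, y i • oneSub Q (refl Q w * g) (a' i)) + t • w = 0 → y = 0 := by
    intro y t h
    simp only [hform, smul_add, smul_smul, Finset.sum_add_distrib, ← Finset.sum_smul] at h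
    rw [add_assoc, ← add_smul] at h
    set s := (∑ i, y i * ((Q w)⁻¹ * polarBilin Q w ((g : V ≃ₗ[F] V) (a' i)))) + t
    have hs : s = 0 := by
      by_contra hs
      refine hw ((Submodule.smul_mem_iff _ hs).mp ?_)
      rw [eq_neg_of_add_eq_zero_right h]
      exact Submodule.neg_mem _ (Submodule.sum_mem _ fun i _ =>
        Submodule.smul_mem _ _ ⟨a' i, rfl⟩)
    rw [hs, zero_smul, add_zero] at h
    exact funext (Fintype.linearIndependent_iff.mp ha'.1 y h)
  have hframe : IsWallFrame Q (refl Q w * g) (Fin.cons x₀ a') := by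
    refine ⟨?_, (finrank_moved_refl_mul_of_notMem Q hQ g hw hQw).symm⟩
    have heq : (fun i => oneSub Q (refl Q w * g) ((Fin.cons x₀ a' : Fin _ → V) i)) =
        Fin.cons ((Q w)⁻¹ • w) (fun i => oneSub Q (refl Q w * g) (a' i)) := by
      funext i
      refine Fin.cases ?_ (fun j => ?_) i
      · simp [hx₀img]
      · simp
    rw [heq, linearIndependent_finCons]
    refine ⟨Fintype.linearIndependent_iff.mpr fun y hy i => ?_, fun hmem => ?_⟩
    · exact congrFun (hkey y 0 (by rw [zero_smul, add_zero]; exact hy)) i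
    · obtain ⟨y, hy⟩ := (Submodule.mem_span_range_iff_exists_fun F).mp hmem
      have hy0 := hkey y (-(Q w)⁻¹) (by rw [hy, neg_smul, add_neg_cancel])
      rw [hy0] at hy
      simp only [Pi.zero_apply, zero_smul, Finset.sum_const_zero] at hy
      rcases smul_eq_zero.mp hy.symm with h | h
      · exact inv_ne_zero hQw h
      · exact hQw (by rw [h, map_zero])
  rw [spinor_eq Q hQ hframe, spinor_eq Q hQ ha', Matrix.det_succ_row_zero,
    Fin.sum_univ_succ]
  have h00 : wallMatrix Q (refl Q w * g) (Fin.cons x₀ a') 0 0 = (Q w)⁻¹ := by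
    simp [wallMatrix, hx₀img, hwx₀]
  have h0j : ∀ j, wallMatrix Q (refl Q w * g) (Fin.cons x₀ a') 0 (Fin.succ j) = 0 := fun j => by
    simp [wallMatrix, hx₀img, ha'w]
  have hsub : (wallMatrix Q (refl Q w * g) (Fin.cons x₀ a')).submatrix Fin.succ (Fin.succAbove 0) =
      wallMatrix Q g a' := by
    ext i j
    simp [wallMatrix, hform, ha'w]
  simp only [h00, h0j, hsub, mul_zero, zero_mul, Finset.sum_const_zero, add_zero, Fin.val_zero,
    pow_zero, one_mul]
  rw [sqClass_mul (inv_ne_zero hQw) (det_wallMatrix_ne_zero Q hQ ha'), sqClass_inv]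

theorem spinor_refl_mul [Finite F] (hQ : (polarBilin Q).Nondegenerate) (g : quadIsometries Q)
    {v : V} (hv : Q v ≠ 0) : spinor Q (refl Q v * g) = sqClass (Q v) * spinor Q g := by
  by_cases h : v ∈ movedSpace Q g
  · have hlt := finrank_moved_refl_mul_of_mem Q g h hv
    have hnot : v ∉ movedSpace Q (refl Q v * g) := fun h' => by
      have := finrank_moved_refl_mul_of_mem Q (refl Q v * g) h' hv
      rw [← mul_assoc, refl_mul_self, one_mul] at this
      omega
    have h2 := spinor_refl_mul_of_notMem Q hQ (refl Q v * g) hnot hv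
    rw [← mul_assoc, refl_mul_self, one_mul] at h2
    rw [h2, ← mul_assoc, Int.units_mul_self, one_mul]
  · exact spinor_refl_mul_of_notMem Q hQ g h hv

/-- The Dickson invariant as a homomorphism. -/
noncomputable def dicksonHom (hQ : (polarBilin Q).Nondegenerate)
    (htop : Subgroup.closure {g : quadIsometries Q | ∃ v, Q v ≠ 0 ∧ g = refl Q v} = ⊤) :
    quadIsometries Q →* ℤˣ where
  toFun := dickson Q
  map_one' := dickson_one Q
  map_mul' := map_mul_of_refl_mul Q (dickson Q) (fun _ => -1) (dickson_one Q)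
    (fun v g hv => by rw [dickson_refl_mul Q hQ g hv, neg_one_mul]) htop

/-- The spinor norm as a homomorphism. -/
noncomputable def spinorHom [Finite F] (hQ : (polarBilin Q).Nondegenerate)
    (htop : Subgroup.closure {g : quadIsometries Q | ∃ v, Q v ≠ 0 ∧ g = refl Q v} = ⊤) :
    quadIsometries Q →* ℤˣ where
  toFun := spinor Q
  map_one' := spinor_one Q hQ
  map_mul' := map_mul_of_refl_mul Q (spinor Q) (fun v => sqClass (Q v)) (spinor_one Q hQ)
    (fun v g hv => spinor_refl_mul Q hQ g hv) htop

theorem dicksonHom_refl (hQ : (polarBilin Q).Nondegenerate)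
    (htop : Subgroup.closure {g : quadIsometries Q | ∃ v, Q v ≠ 0 ∧ g = refl Q v} = ⊤) {v : V}
    (hv : Q v ≠ 0) : dicksonHom Q hQ htop (refl Q v) = -1 := by
  show dickson Q (refl Q v) = -1
  rw [← mul_one (refl Q v), dickson_refl_mul Q hQ 1 hv, dickson_one]

theorem spinorHom_refl [Finite F] (hQ : (polarBilin Q).Nondegenerate)
    (htop : Subgroup.closure {g : quadIsometries Q | ∃ v, Q v ≠ 0 ∧ g = refl Q v} = ⊤) {v : V}
    (hv : Q v ≠ 0) : spinorHom Q hQ htop (refl Q v) = sqClass (Q v) := by
  show spinor Q (refl Q v) = sqClass (Q v)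
  rw [← mul_one (refl Q v), spinor_refl_mul Q hQ 1 hv, spinor_one Q hQ, mul_one]

/-- The spinor norm of `-1`. -/
theorem spinor_of_neg (hQ : (polarBilin Q).Nondegenerate) (h2 : (2 : F) ≠ 0)
    (g : quadIsometries Q) (hg : ∀ x, (g : V ≃ₗ[F] V) x = -x) {n : ℕ}
    (b : Module.Basis (Fin n) F V) :
    dickson Q g = (-1) ^ n ∧
      spinor Q g = sqClass (2 ^ n * (Matrix.of fun i j => polarBilin Q (b i) (b j)).det) := by
  have himg : ∀ x, oneSub Q g x = (2 : F) • x := fun x => by
    rw [oneSub_apply, hg, sub_neg_eq_add, two_smul]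
  have htop : movedSpace Q g = ⊤ := eq_top_iff.mpr fun x _ =>
    ⟨(2 : F)⁻¹ • x, by rw [himg, smul_smul, mul_inv_cancel₀ h2, one_smul]⟩
  have hn : finrank F (movedSpace Q g) = n := by
    rw [htop, finrank_top, Module.finrank_eq_card_basis b, Fintype.card_fin]
  refine ⟨by rw [dickson, hn], ?_⟩
  have hframe : IsWallFrame Q g (b : Fin n → V) := by
    refine ⟨?_, hn.symm⟩
    simp only [himg]
    exact b.linearIndependent.units_smul (fun _ => Units.mk0 2 h2)
  rw [spinor_eq Q hQ hframe]
  congr 1
  have e : wallMatrix Q g (b : Fin n → V) =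
      (2 : F) • Matrix.of fun i j => polarBilin Q (b i) (b j) := by
    ext i j
    simp [wallMatrix, himg]
  rw [e, Matrix.det_smul, Fintype.card_fin]

end Cfsg.Agent.Lib.Geometry
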