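import Mathlib.GroupTheory.Abelianization.Defs
import Mathlib.GroupTheory.Index
import Mathlib.GroupTheory.IndexNormal
import Mathlib.GroupTheory.SpecificGroups.Cyclic
import Mathlib.FieldTheory.Finite.Basic
import Mathlib.Algebra.Ring.Int.Units
import Cfsg.Agent.Lib.Geometry.Spinor

/-!
The commutator subgroup of the isometry group of a quadratic space over a finite field, through the
Dickson invariant and the spinor norm.
-/

set_option autoImplicit false

namespace Cfsg.Agent.Lib.Geometry

open QuadraticMap (polarBilin)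
open Module (finrank)

attribute [-simp] QuadraticMap.polarBilin_apply_apply

/-- The hom from `ℤˣ` sending `-1` to an involution. -/
def signHom {M : Type*} [Monoid M] (A : M) (hA : A * A = 1) : ℤˣ →* M where
  toFun x := if x = 1 then 1 else A
  map_one' := if_pos rfl
  map_mul' x y := by
    rcases Int.units_eq_one_or x with rfl | rfl <;> rcases Int.units_eq_one_or y with rfl | rfl <;>
      simp [hA]

theorem signHom_neg_one {M : Type*} [Monoid M] (A : M) (hA : A * A = 1) :
    signHom A hA (-1) = A := by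
  show (if (-1 : ℤˣ) = 1 then 1 else A) = A
  rw [if_neg (by decide)]

variable {F V : Type*} [Field F] [AddCommGroup V] [Module F V] [FiniteDimensional F V]
variable (Q : QuadraticForm F V)

theorem two_ne_zero_exc (h2 : (2 : F) ≠ 0) :
    (∃ a : F, a ≠ 0 ∧ a ≠ 1) ∨ finrank F V ≠ 4 :=
  Or.inl ⟨-1, neg_ne_zero.mpr one_ne_zero, fun h => h2 (by linear_combination -h)⟩

/-- Witt transitivity on vectors of one value. -/
theorem exists_isometry_apply_eq (hQ : (polarBilin Q).Nondegenerate) {v v' : V} (hv : v ≠ 0)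
    (hv' : v' ≠ 0) (h : Q v' = Q v) : ∃ g : quadIsometries Q, (g : V ≃ₗ[F] V) v = v' := by
  let φ : Submodule.span F {v} →ₗ[F] V :=
    LinearMap.toSpanSingleton F V v' ∘ₗ
      ((LinearEquiv.toSpanNonzeroSingleton F V v hv).symm : Submodule.span F {v} →ₗ[F] F)
  have hφ : ∀ x, ∀ c : F, (x : Submodule.span F {v}) = LinearEquiv.toSpanNonzeroSingleton F V v hv c →
      φ x = c • v' := by
    rintro x c rfl
    show ((LinearEquiv.toSpanNonzeroSingleton F V v hv).symm
      ((LinearEquiv.toSpanNonzeroSingleton F V v hv) c)) • v' = c • v'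
    rw [LinearEquiv.symm_apply_apply]
  obtain ⟨g, hg, hgx⟩ := witt_quadratic Q hQ (Submodule.span F {v}) φ
    (by
      show Function.Injective ((fun c : F => c • v') ∘
        (LinearEquiv.toSpanNonzeroSingleton F V v hv).symm)
      exact Function.Injective.comp (smul_left_injective F hv')
        (LinearEquiv.toSpanNonzeroSingleton F V v hv).symm.injective)
    (fun x => by
      obtain ⟨c, rfl⟩ := (LinearEquiv.toSpanNonzeroSingleton F V v hv).surjective x
      rw [hφ _ c rfl, quad_smul, h, LinearEquiv.toSpanNonzeroSingleton_apply, quad_smul])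
  refine ⟨⟨g, hg⟩, ?_⟩
  have h1 := hgx ⟨v, Submodule.mem_span_singleton_self v⟩
  rwa [hφ _ 1 (Subtype.ext (by simp)), one_smul] at h1

theorem map_refl_eq_of_class {M : Type*} [CommGroup M] (hQ : (polarBilin Q).Nondegenerate)
    (f : quadIsometries Q →* M) {v v' : V} {t : F} (hv' : Q v' ≠ 0) (h : Q v' = t * t * Q v) :
    f (refl Q v') = f (refl Q v) := by
  have ht : t ≠ 0 := fun h0 => hv' (by rw [h, h0]; ring)
  have hv : v ≠ 0 := fun h0 => hv' (by rw [h, h0, map_zero, mul_zero])
  have hv0 : v' ≠ 0 := fun h0 => hv' (by rw [h0, map_zero])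
  obtain ⟨g, hg⟩ := exists_isometry_apply_eq Q hQ (smul_ne_zero ht hv) hv0
    (by rw [quad_smul, h])
  rw [← refl_smul Q v ht, ← hg, ← refl_conj, map_mul, map_mul, map_inv,
    mul_comm (f g), mul_inv_cancel_right]

/-- Over a finite field of odd order a form in dimension at least two takes every non-zero value. -/
theorem exists_quad_eq [Finite F] (hQ : (polarBilin Q).Nondegenerate) (h2 : (2 : F) ≠ 0)
    (hn : 2 ≤ finrank F V) (c : F) (hc : c ≠ 0) : ∃ v, Q v = c := by
  classical
  haveI := Fintype.ofFinite F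
  haveI : Nontrivial V := Module.nontrivial_of_finrank_pos (R := F) (by omega)
  obtain ⟨e, he⟩ : ∃ e, Q e ≠ 0 := by
    by_contra hall
    push Not at hall
    obtain ⟨x, hx⟩ := exists_ne (0 : V)
    refine hx (hQ.1 x fun y => ?_)
    have h := quad_add Q x y
    rw [hall, hall, hall, zero_add, zero_add] at h
    exact h.symm
  obtain ⟨d, hde, hd⟩ : ∃ d, polarBilin Q e d = 0 ∧ Q d ≠ 0 := by
    by_contra hall
    push Not at hall
    have hproj : ∀ y : V,
        polarBilin Q e (y - (polarBilin Q e y / polarBilin Q e e) • e) = 0 := fun y => by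
      have hee : polarBilin Q e e ≠ 0 := by rw [quad_polar_self]; exact mul_ne_zero h2 he
      rw [map_sub, map_smul, smul_eq_mul, div_mul_cancel₀ _ hee, sub_self]
    obtain ⟨x, hx, hxe⟩ : ∃ x, polarBilin Q e x = 0 ∧ x ≠ 0 := by
      have h := LinearMap.finrank_range_add_finrank_ker (polarBilin Q e)
      have h' := Submodule.finrank_le (LinearMap.range (polarBilin Q e))
      rw [Module.finrank_self] at h'
      haveI : Nontrivial (LinearMap.ker (polarBilin Q e)) :=
        Module.nontrivial_of_finrank_pos (R := F) (by omega)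
      obtain ⟨⟨x, hx⟩, hx0⟩ := exists_ne (0 : LinearMap.ker (polarBilin Q e))
      exact ⟨x, hx, fun h0 => hx0 (Subtype.ext h0)⟩
    refine hxe (hQ.1 x fun y => ?_)
    set z := y - (polarBilin Q e y / polarBilin Q e e) • e with hz
    have hxz : polarBilin Q x z = 0 := by
      have h := quad_add Q x z
      rw [hall _ (by rw [map_add, hx, hproj y, add_zero]), hall x hx, hall z (hproj y), zero_add,
        zero_add] at h
      exact h.symm
    rw [hz, map_sub, map_smul, quad_polar_comm Q x e, hx, smul_zero, sub_zero] at hxz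
    exact hxz
  obtain ⟨a, b, hab⟩ := FiniteField.exists_root_sum_quadratic
    (f := Polynomial.C (Q e) * Polynomial.X ^ 2)
    (g := Polynomial.C (Q d) * Polynomial.X ^ 2 - Polynomial.C c)
    (Polynomial.degree_C_mul_X_pow 2 he)
    (by
      rw [Polynomial.degree_sub_eq_left_of_degree_lt, Polynomial.degree_C_mul_X_pow 2 hd]
      · rfl
      · rw [Polynomial.degree_C_mul_X_pow 2 hd]
        exact lt_of_le_of_lt Polynomial.degree_C_le (by decide : (0 : WithBot ℕ) < (2 : ℕ)))
    (FiniteField.odd_card_of_char_ne_two fun h => h2 (by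
      have h3 : ((2 : ℕ) : F) = 0 := by rw [← h]; exact ringChar.Nat.cast_ringChar
      exact_mod_cast h3))
  refine ⟨a • e + b • d, ?_⟩
  simp only [Polynomial.eval_mul, Polynomial.eval_C, Polynomial.eval_pow, Polynomial.eval_X,
    Polynomial.eval_sub] at hab
  rw [quad_add, quad_smul, quad_smul, map_smul, map_smul, LinearMap.smul_apply, hde]
  simp only [smul_zero, add_zero]
  linear_combination hab

theorem exists_quad_class_vectors [Finite F] (hQ : (polarBilin Q).Nondegenerate)
    (h2 : (2 : F) ≠ 0) (hn : 2 ≤ finrank F V) :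
    ∃ v w : V, Q v = 1 ∧ ¬ IsSquare (Q w) ∧ Q w ≠ 0 := by
  obtain ⟨α, hα⟩ := FiniteField.exists_nonsquare (F := F) (fun h => h2 (by
    have h3 : ((2 : ℕ) : F) = 0 := by rw [← h]; exact ringChar.Nat.cast_ringChar
    exact_mod_cast h3))
  have hα0 : α ≠ 0 := by
    rintro rfl
    exact hα IsSquare.zero
  obtain ⟨v, hv⟩ := exists_quad_eq Q hQ h2 hn 1 one_ne_zero
  obtain ⟨w, hw⟩ := exists_quad_eq Q hQ h2 hn α hα0
  exact ⟨v, w, hv, by rwa [hw], by rwa [hw]⟩

/-- Dickson invariant and spinor norm together. -/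
noncomputable def dickSpinHom [Finite F] (hQ : (polarBilin Q).Nondegenerate) (h2 : (2 : F) ≠ 0) :
    quadIsometries Q →* ℤˣ × ℤˣ :=
  (dicksonHom Q hQ (closure_refl_eq_top Q hQ (two_ne_zero_exc h2))).prod
    (spinorHom Q hQ (closure_refl_eq_top Q hQ (two_ne_zero_exc h2)))

theorem dickSpinHom_refl [Finite F] (hQ : (polarBilin Q).Nondegenerate) (h2 : (2 : F) ≠ 0) {v : V}
    (hv : Q v ≠ 0) : dickSpinHom Q hQ h2 (refl Q v) = (-1, sqClass (Q v)) := by
  show (_, _) = _
  rw [dicksonHom_refl Q hQ _ hv, spinorHom_refl Q hQ _ hv]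

theorem dickSpinHom_apply [Finite F] (hQ : (polarBilin Q).Nondegenerate) (h2 : (2 : F) ≠ 0)
    (g : quadIsometries Q) : dickSpinHom Q hQ h2 g = (dickson Q g, spinor Q g) :=
  rfl

theorem dickSpinHom_surjective [Finite F] (hQ : (polarBilin Q).Nondegenerate) (h2 : (2 : F) ≠ 0)
    (hn : 2 ≤ finrank F V) : Function.Surjective (dickSpinHom Q hQ h2) := by
  obtain ⟨v, w, hv, hw, hw0⟩ := exists_quad_class_vectors Q hQ h2 hn
  have h1 := dickSpinHom_refl Q hQ h2 (v := v) (by rw [hv]; exact one_ne_zero)
  have h1' := dickSpinHom_refl Q hQ h2 hw0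
  rw [hv, sqClass_eq_one_iff.mpr IsSquare.one] at h1
  rw [sqClass_eq_neg_one_iff.mpr hw] at h1'
  rintro ⟨x, y⟩
  rcases Int.units_eq_one_or x with rfl | rfl <;> rcases Int.units_eq_one_or y with rfl | rfl
  · exact ⟨1, map_one _⟩
  · exact ⟨refl Q v * refl Q w, by rw [map_mul, h1, h1']; rfl⟩
  · exact ⟨refl Q v, h1⟩
  · exact ⟨refl Q w, h1'⟩

/-- The commutator subgroup is the kernel of (Dickson, spinor), odd characteristic. -/
theorem commutator_eq_ker_dickSpinHom [Finite F] (hQ : (polarBilin Q).Nondegenerate)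
    (h2 : (2 : F) ≠ 0) (hn : 2 ≤ finrank F V) :
    commutator (quadIsometries Q) = (dickSpinHom Q hQ h2).ker := by
  refine le_antisymm (Abelianization.commutator_subset_ker _) fun g hg => ?_
  obtain ⟨v, w, hv, hw, hw0⟩ := exists_quad_class_vectors Q hQ h2 hn
  have hv0 : Q v ≠ 0 := by rw [hv]; exact one_ne_zero
  let f : quadIsometries Q →* Abelianization (quadIsometries Q) := Abelianization.of
  have hinv : ∀ u, f (refl Q u) * f (refl Q u) = 1 := fun u => by
    rw [← map_mul, refl_mul_self, map_one]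
  let φ : ℤˣ × ℤˣ →* Abelianization (quadIsometries Q) :=
    (signHom (f (refl Q v)) (hinv v)).coprod
      (signHom (f (refl Q v) * f (refl Q w))
        (by rw [mul_mul_mul_comm, hinv, hinv, one_mul]))
  have hgen : f = φ.comp (dickSpinHom Q hQ h2) := by
    refine MonoidHom.eq_of_eqOn_dense (closure_refl_eq_top Q hQ (two_ne_zero_exc h2)) ?_
    rintro _ ⟨u, hu, rfl⟩
    show f (refl Q u) = φ (dickSpinHom Q hQ h2 (refl Q u))
    rw [dickSpinHom_refl Q hQ h2 hu]
    by_cases hs : IsSquare (Q u)
    · rw [sqClass_eq_one_iff.mpr hs]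
      obtain ⟨t, ht⟩ := hs
      rw [MonoidHom.coprod_apply, map_one, mul_one, signHom_neg_one]
      exact map_refl_eq_of_class Q hQ f hu (by rw [ht, hv, mul_one])
    · rw [sqClass_eq_neg_one_iff.mpr hs]
      obtain ⟨t, ht⟩ := isSquare_mul_iff_of_not_isSquare hs hw
      rw [MonoidHom.coprod_apply, signHom_neg_one, signHom_neg_one, ← mul_assoc, hinv, one_mul]
      refine map_refl_eq_of_class Q hQ f hu (t := t / Q w) ?_
      field_simp
      linear_combination ht
  rw [MonoidHom.mem_ker] at hg
  rw [← Abelianization.ker_of, MonoidHom.mem_ker]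
  show f g = 1
  rw [hgen, MonoidHom.comp_apply, hg, map_one]

theorem index_commutator_odd [Finite F] (hQ : (polarBilin Q).Nondegenerate)
    (h2 : (2 : F) ≠ 0) (hn : 2 ≤ finrank F V) :
    (commutator (quadIsometries Q)).index = 4 := by
  rw [commutator_eq_ker_dickSpinHom Q hQ h2 hn, Subgroup.index_ker,
    MonoidHom.range_eq_top.mpr (dickSpinHom_surjective Q hQ h2 hn), Nat.card_congr
      Subgroup.topEquiv.toEquiv, Nat.card_prod]
  simp [Fintype.card_units_int]

theorem exists_quad_ne_zero_of_nondeg (hQ : (polarBilin Q).Nondegenerate)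
    (hn : 1 ≤ finrank F V) : ∃ v, Q v ≠ 0 := by
  haveI : Nontrivial V := Module.nontrivial_of_finrank_pos (R := F) (by omega)
  by_contra hall
  push Not at hall
  obtain ⟨x, hx⟩ := exists_ne (0 : V)
  refine hx (hQ.1 x fun y => ?_)
  have h := quad_add Q x y
  rw [hall, hall, hall, zero_add, zero_add] at h
  exact h.symm

/-- The commutator subgroup is the kernel of the Dickson invariant, characteristic two. -/
theorem commutator_eq_ker_dicksonHom [Finite F] [CharP F 2] (hQ : (polarBilin Q).Nondegenerate)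
    (hn : 1 ≤ finrank F V) (hexc : (∃ a : F, a ≠ 0 ∧ a ≠ 1) ∨ finrank F V ≠ 4) :
    commutator (quadIsometries Q) =
      (dicksonHom Q hQ (closure_refl_eq_top Q hQ hexc)).ker := by
  refine le_antisymm (Abelianization.commutator_subset_ker _) fun g hg => ?_
  obtain ⟨v, hv⟩ := exists_quad_ne_zero_of_nondeg Q hQ hn
  let f : quadIsometries Q →* Abelianization (quadIsometries Q) := Abelianization.of
  let φ := signHom (f (refl Q v)) (by rw [← map_mul, refl_mul_self, map_one])
  have hgen : f = φ.comp (dicksonHom Q hQ (closure_refl_eq_top Q hQ hexc)) := by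
    refine MonoidHom.eq_of_eqOn_dense (closure_refl_eq_top Q hQ hexc) ?_
    rintro _ ⟨u, hu, rfl⟩
    show f (refl Q u) = φ (dicksonHom Q hQ _ (refl Q u))
    rw [dicksonHom_refl Q hQ _ hu, signHom_neg_one]
    obtain ⟨t, ht⟩ := FiniteField.isSquare_of_char_two (ringChar.eq F 2) (Q u / Q v)
    exact map_refl_eq_of_class Q hQ f hu (by rw [← ht, div_mul_cancel₀ _ hv])
  rw [MonoidHom.mem_ker] at hg
  rw [← Abelianization.ker_of, MonoidHom.mem_ker]
  show f g = 1
  rw [hgen, MonoidHom.comp_apply, hg, map_one]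

theorem index_commutator_even [Finite F] [CharP F 2] (hQ : (polarBilin Q).Nondegenerate)
    (hn : 1 ≤ finrank F V) (hexc : (∃ a : F, a ≠ 0 ∧ a ≠ 1) ∨ finrank F V ≠ 4) :
    (commutator (quadIsometries Q)).index = 2 := by
  have hsurj : Function.Surjective (dicksonHom Q hQ (closure_refl_eq_top Q hQ hexc)) := by
    intro x
    rcases Int.units_eq_one_or x with rfl | rfl
    · exact ⟨1, map_one _⟩
    · obtain ⟨v, hv⟩ := exists_quad_ne_zero_of_nondeg Q hQ hn
      exact ⟨refl Q v, dicksonHom_refl Q hQ _ hv⟩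
  rw [commutator_eq_ker_dicksonHom Q hQ hn hexc, Subgroup.index_ker,
    MonoidHom.range_eq_top.mpr hsurj, Nat.card_congr Subgroup.topEquiv.toEquiv]
  simp [Fintype.card_units_int]

/-- A group with a surjection to `ℤˣ × ℤˣ` whose kernel lies in all index-two subgroups has
exactly three of them. -/
theorem card_index_two_of_surjective {G : Type*} [Group G] (ψ : G →* ℤˣ × ℤˣ)
    (hψ : Function.Surjective ψ) (hker : ψ.ker = commutator G) :
    Nat.card {H : Subgroup G // H.index = 2} = 3 := by
  classical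
  have hK : ∀ K : Subgroup (ℤˣ × ℤˣ), K.index = 2 ↔ Nat.card K = 2 := fun K => by
    have h := K.card_mul_index
    rw [Nat.card_eq_fintype_card (α := ℤˣ × ℤˣ), Fintype.card_prod, Fintype.card_units_int] at h
    constructor <;> intro hh <;> rw [hh] at h <;> omega
  let e : {H : Subgroup G // H.index = 2} ≃ {K : Subgroup (ℤˣ × ℤˣ) // K.index = 2} :=
    { toFun := fun H => ⟨H.1.map ψ, by
        have hle : ψ.ker ≤ H.1 := by
          rw [hker]
          haveI : H.1.Normal := Subgroup.normal_of_index_eq_two H.2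
          haveI : IsCyclic (G ⧸ H.1) :=
            isCyclic_of_prime_card (p := 2) (by rw [← Subgroup.index_eq_card]; exact H.2)
          letI : CommGroup (G ⧸ H.1) := IsCyclic.commGroup
          exact le_trans (Abelianization.commutator_subset_ker (QuotientGroup.mk' H.1))
            (le_of_eq (QuotientGroup.ker_mk' H.1))
        rw [Subgroup.index_map, sup_eq_left.mpr hle, MonoidHom.range_eq_top.mpr hψ,
          Subgroup.index_top, mul_one, H.2]⟩
      invFun := fun K => ⟨K.1.comap ψ, by rw [Subgroup.index_comap_of_surjective _ hψ, K.2]⟩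
      left_inv := fun H => Subtype.ext (by
        show (H.1.map ψ).comap ψ = H.1
        rw [Subgroup.comap_map_eq, sup_eq_left]
        rw [hker]
        haveI : H.1.Normal := Subgroup.normal_of_index_eq_two H.2
        haveI : IsCyclic (G ⧸ H.1) :=
          isCyclic_of_prime_card (p := 2) (by rw [← Subgroup.index_eq_card]; exact H.2)
        letI : CommGroup (G ⧸ H.1) := IsCyclic.commGroup
        exact le_trans (Abelianization.commutator_subset_ker (QuotientGroup.mk' H.1))
          (le_of_eq (QuotientGroup.ker_mk' H.1)))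
      right_inv := fun K => Subtype.ext (Subgroup.map_comap_eq_self_of_surjective hψ K.1) }
  rw [Nat.card_congr e]
  have hsq : ∀ x : ℤˣ × ℤˣ, x * x = 1 := by decide
  let toK : {x : ℤˣ × ℤˣ // x ≠ 1} → {K : Subgroup (ℤˣ × ℤˣ) // K.index = 2} := fun x =>
    ⟨Subgroup.zpowers x.1, (hK _).mpr (by
      rw [Nat.card_zpowers]
      exact orderOf_eq_prime (by rw [pow_two]; exact hsq _) x.2)⟩
  have hbij : Function.Bijective toK := by
    constructor
    · intro x y hxy
      have hxy' : Subgroup.zpowers x.1 = Subgroup.zpowers y.1 := congrArg Subtype.val hxy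
      have hm : x.1 ∈ Subgroup.zpowers y.1 := hxy' ▸ Subgroup.mem_zpowers x.1
      obtain ⟨k, hk⟩ := hm
      simp only at hk
      rcases Int.even_or_odd k with ⟨j, rfl⟩ | ⟨j, rfl⟩
      · exfalso
        rw [zpow_add, ← mul_zpow, hsq, one_zpow] at hk
        exact x.2 hk.symm
      · rw [zpow_add, zpow_one, two_mul, zpow_add, ← mul_zpow, hsq, one_zpow, one_mul] at hk
        exact Subtype.ext hk.symm
    · intro K
      have h2 := (hK _).mp K.2
      obtain ⟨x, hx⟩ : ∃ x : K.1, x ≠ 1 := by
        haveI : Nontrivial K.1 := Finite.one_lt_card_iff_nontrivial.mp (by omega)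
        exact exists_ne 1
      refine ⟨⟨x.1, fun h => hx (Subtype.ext h)⟩, Subtype.ext ?_⟩
      refine Subgroup.eq_of_le_of_card_ge ((Subgroup.zpowers_le).mpr x.2) ?_
      rw [h2, (hK _).mp (toK ⟨x.1, fun h => hx (Subtype.ext h)⟩).2]
  rw [← Nat.card_eq_of_bijective toK hbij, Nat.card_eq_fintype_card]
  decide

end Cfsg.Agent.Lib.Geometry
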