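import Cfsg.Agent.Lib.Geometry.OrthBridge
import Cfsg.Agent.Lib.Geometry.OrthQuotient

/-!
Transfer of the commutator subgroup results to `Cfsg.Omega`.
-/

set_option autoImplicit false

namespace Cfsg.Agent.Lib.Geometry

theorem map_commutator_of_equiv {G H : Type*} [Group G] [Group H] (e : G ≃* H) :
    (commutator G).map e.toMonoidHom = commutator H := by
  rw [commutator_def, Subgroup.map_commutator, Subgroup.map_top_of_surjective _ e.surjective,
    ← commutator_def]

theorem index_commutator_congr {G H : Type*} [Group G] [Group H] (e : G ≃* H) :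
    (commutator G).index = (commutator H).index := by
  rw [← map_commutator_of_equiv e]
  exact (Subgroup.index_map_equiv _ e).symm

theorem card_index_two_congr {G H : Type*} [Group G] [Group H] (e : G ≃* H) :
    Nat.card {K : Subgroup G // K.index = 2} = Nat.card {K : Subgroup H // K.index = 2} := by
  refine Nat.card_congr (Equiv.subtypeEquiv (e.mapSubgroup.toEquiv) fun K => ?_)
  show K.index = 2 ↔ (K.map e.toMonoidHom).index = 2
  rw [show (K.map e.toMonoidHom).index = K.index from Subgroup.index_map_equiv K e]

variable {F : Type*} [Field F] [Finite F] {ι : Type} [Fintype ι] [DecidableEq ι]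
variable (Q : QuadraticForm F (ι → F))

theorem mem_Omega_iff (hQ : (QuadraticMap.polarBilin Q).Nondegenerate) (h2 : (2 : F) ≠ 0)
    (hn : 2 ≤ Fintype.card ι) (g : Cfsg.isometryGroup F (⇑Q)) :
    g ∈ Cfsg.Omega F (⇑Q) ↔
      dickson Q (isometryEquiv Q g) = 1 ∧ spinor Q (isometryEquiv Q g) = 1 := by
  have h := commutator_eq_ker_dickSpinHom Q hQ h2 (by rwa [Module.finrank_fintype_fun_eq_card])
  have h' : isometryEquiv Q g ∈ commutator (quadIsometries Q) ↔ g ∈ Cfsg.Omega F (⇑Q) := by
    rw [← map_commutator_of_equiv (isometryEquiv Q), Subgroup.mem_map_equiv,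
      MulEquiv.symm_apply_apply]
  rw [← h', h, MonoidHom.mem_ker, dickSpinHom_apply, Prod.ext_iff]
  rfl

end Cfsg.Agent.Lib.Geometry
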