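import Mathlib.GroupTheory.Abelianization.Defs
import Mathlib.GroupTheory.Index
import Mathlib.GroupTheory.QuotientGroup.Basic
import Mathlib.GroupTheory.Commutator.Basic
import Mathlib.Tactic.Group

/-!
Small group-theoretic helpers for the geometry library.
-/

set_option autoImplicit false

open scoped commutatorElement

namespace Cfsg.Agent.Lib.Geometry

/-- If generators commute modulo a normal subgroup, it contains the commutator subgroup. -/
theorem commutator_le_of_generators {G : Type*} [Group G] (T : Set G)
    (hT : Subgroup.closure T = ⊤) (N : Subgroup G) [N.Normal]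
    (h : ∀ a ∈ T, ∀ b ∈ T, a * b * a⁻¹ * b⁻¹ ∈ N) : commutator G ≤ N := by
  rw [commutator_def, Subgroup.commutator_le]
  intro x hxt y hyt
  clear hxt hyt
  rw [← QuotientGroup.eq_one_iff]
  have hgen : ∀ x : G, x ∈ Subgroup.closure T := fun x => hT ▸ Subgroup.mem_top x
  have hcomm : ∀ a ∈ T, ∀ b ∈ T, Commute (QuotientGroup.mk' N a) (QuotientGroup.mk' N b) := by
    intro a ha b hb
    rw [← commutatorElement_eq_one_iff_commute, ← map_commutatorElement]
    exact (QuotientGroup.eq_one_iff _).mpr (by rw [commutatorElement_def]; exact h a ha b hb)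
  have h1 : ∀ b ∈ T, ∀ x : G, Commute (QuotientGroup.mk' N x) (QuotientGroup.mk' N b) := by
    intro b hb x
    have hx := hgen x
    induction hx using Subgroup.closure_induction with
    | mem a ha => exact hcomm a ha b hb
    | one => rw [map_one]; exact Commute.one_left _
    | mul p r _ _ hp hr => rw [map_mul]; exact Commute.mul_left hp hr
    | inv p _ hp => rw [map_inv]; exact Commute.inv_left hp
  have h2 : Commute (QuotientGroup.mk' N x) (QuotientGroup.mk' N y) := by
    have hy := hgen y
    induction hy using Subgroup.closure_induction with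
    | mem a ha => exact h1 a ha x
    | one => rw [map_one]; exact Commute.one_right _
    | mul p r _ _ hp hr => rw [map_mul]; exact Commute.mul_right hp hr
    | inv p _ hp => rw [map_inv]; exact Commute.inv_right hp
  show QuotientGroup.mk' N ⁅x, y⁆ = 1
  rw [map_commutatorElement]
  exact commutatorElement_eq_one_iff_commute.mpr h2

/-- A subgroup generated by a conjugation-invariant set is normal. -/
theorem closure_normal_of_conj_mem {G : Type*} [Group G] {T : Set G}
    (h : ∀ t ∈ T, ∀ g : G, g * t * g⁻¹ ∈ T) : (Subgroup.closure T).Normal := by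
  refine ⟨fun x hx g => ?_⟩
  induction hx using Subgroup.closure_induction with
  | mem t ht => exact Subgroup.subset_closure (h t ht g)
  | one => rw [mul_one, mul_inv_cancel]; exact Subgroup.one_mem _
  | mul p r _ _ hp hr =>
    have : g * (p * r) * g⁻¹ = g * p * g⁻¹ * (g * r * g⁻¹) := by group
    rw [this]; exact Subgroup.mul_mem _ hp hr
  | inv p _ hp =>
    have : g * p⁻¹ * g⁻¹ = (g * p * g⁻¹)⁻¹ := by group
    rw [this]; exact Subgroup.inv_mem _ hp

end Cfsg.Agent.Lib.Geometry
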