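import Mathlib.Tactic.Module
import Cfsg.Agent.Lib.Geometry.OrthTransfer
import Cfsg.Agent.Lib.Geometry.GroupAux

/-!
Siegel transformations: commutators, and generation of `Ω` (odd characteristic, dimension ≥ 5).
-/

set_option autoImplicit false

namespace Cfsg.Agent.Lib.Geometry

open QuadraticMap (polarBilin)
open Module (finrank)

attribute [-simp] QuadraticMap.polarBilin_apply_apply

variable {F V : Type*} [Field F] [AddCommGroup V] [Module F V] (Q : QuadraticForm F V)

/-- The Siegel map of two vectors. -/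
def siegelLin (u v : V) (c : F) : V →ₗ[F] V :=
  LinearMap.id + (c • polarBilin Q u).smulRight v - (c • polarBilin Q v).smulRight u

theorem siegelLin_apply (u v : V) (c : F) (x : V) :
    siegelLin Q u v c x = x + (c * polarBilin Q u x) • v - (c * polarBilin Q v x) • u :=
  rfl

/-- The Siegel elements of the isometry group. -/
def siegelSet : Set (quadIsometries Q) :=
  {g | ∃ (u v : V) (c : F), Q u = 0 ∧ Q v = 0 ∧ polarBilin Q u v = 0 ∧
    ((g : V ≃ₗ[F] V) : V →ₗ[F] V) = siegelLin Q u v c}

/-- The group they generate. -/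
def siegelGroup : Subgroup (quadIsometries Q) := Subgroup.closure (siegelSet Q)

instance siegelGroup_normal : (siegelGroup Q).Normal :=
  closure_normal_of_conj_mem (by
    rintro t ⟨u, v, c, hu, hv, huv, ht⟩ g
    refine ⟨(g : V ≃ₗ[F] V) u, (g : V ≃ₗ[F] V) v, c, by rw [mem_quadIsometries.mp g.2, hu],
      by rw [mem_quadIsometries.mp g.2, hv], by rw [iso_polar, huv], LinearMap.ext fun x => ?_⟩
    have ht' : ∀ y, (t : V ≃ₗ[F] V) y = siegelLin Q u v c y := fun y => LinearMap.congr_fun ht y
    show (g : V ≃ₗ[F] V) ((t : V ≃ₗ[F] V) ((g : V ≃ₗ[F] V).symm x)) = _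
    rw [ht', siegelLin_apply, siegelLin_apply, map_sub, map_add, map_smul, map_smul,
      LinearEquiv.apply_symm_apply]
    have h1 := iso_polar Q g u ((g : V ≃ₗ[F] V).symm x)
    have h2 := iso_polar Q g v ((g : V ≃ₗ[F] V).symm x)
    rw [LinearEquiv.apply_symm_apply] at h1 h2
    rw [h1, h2])

variable [FiniteDimensional F V]

theorem siegelLin_isometry {u v : V} (hu : Q u = 0) (hv : Q v = 0) (huv : polarBilin Q u v = 0)
    (c : F) (x : V) : Q (siegelLin Q u v c x) = Q x := by
  simp only [siegelLin_apply, quad_sub, quad_add, quad_smul, map_smul, map_add,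
    LinearMap.add_apply, LinearMap.smul_apply, smul_eq_mul, hu, hv, huv,
    quad_polar_comm Q x u, quad_polar_comm Q x v, quad_polar_comm Q v u]
  ring

theorem exists_siegel_mem (hQ : (polarBilin Q).Nondegenerate) {u v : V} (hu : Q u = 0)
    (hv : Q v = 0) (huv : polarBilin Q u v = 0) (c : F) :
    ∃ g ∈ siegelGroup Q, ∀ x, (g : V ≃ₗ[F] V) x = siegelLin Q u v c x := by
  obtain ⟨g, hg, hgv⟩ := exists_quad_equiv Q hQ (siegelLin Q u v c)
    (siegelLin_isometry Q hu hv huv c)
  exact ⟨⟨g, hg⟩, Subgroup.subset_closure ⟨u, v, c, hu, hv, huv, LinearMap.ext hgv⟩, hgv⟩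

/-- Every Siegel element is a commutator, in odd characteristic. -/
theorem siegel_mem_commutatorSet (hQ : (polarBilin Q).Nondegenerate) (h2 : (2 : F) ≠ 0)
    (g : quadIsometries Q) (hg : g ∈ siegelSet Q) : g ∈ commutatorSet (quadIsometries Q) := by
  obtain ⟨u, v, c, hu, hv, huv, hg⟩ := hg
  have hg' : ∀ y, (g : V ≃ₗ[F] V) y = siegelLin Q u v c y := fun y => LinearMap.congr_fun hg y
  by_cases htriv : ∀ y, siegelLin Q u v c y = y
  · refine ⟨1, 1, ?_⟩
    rw [commutatorElement_self]
    exact Subtype.ext (LinearEquiv.ext fun y => ((hg' y).trans (htriv y)).symm)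
  have hli : LinearIndependent F ![u, v] := by
    by_contra hdep
    rw [LinearIndependent.pair_iff] at hdep
    push Not at hdep
    obtain ⟨s, t, hst, hne⟩ := hdep
    refine htriv fun y => ?_
    rw [siegelLin_apply]
    by_cases ht : t = 0
    · subst ht
      have hs : s ≠ 0 := fun h => hne h rfl
      rw [zero_smul, add_zero] at hst
      have hu0 : u = 0 := (smul_eq_zero.mp hst).resolve_left hs
      simp [hu0]
    · have hv' : v = (-(s / t)) • u := by
        refine smul_right_injective V ht (show t • v = t • ((-(s / t)) • u) from ?_)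
        rw [smul_smul, mul_neg, mul_div_cancel₀ _ ht, neg_smul]
        exact eq_neg_of_add_eq_zero_right hst
      rw [hv', map_smul, LinearMap.smul_apply, smul_eq_mul, smul_smul, add_sub_assoc,
        ← sub_smul, add_eq_left, smul_eq_zero]
      left
      ring
  -- an isometry fixing `u` and negating `v`
  let f₀ : (Fin 2 → F) →ₗ[F] V := Fintype.linearCombination F ![u, v]
  let X : Submodule F V := Submodule.span F (Set.range ![u, v])
  let b := Module.Basis.span hli
  let φ : X →ₗ[F] V := b.constr F ![u, -v]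
  have hφ : ∀ x : X, φ x = b.equivFun x 0 • u + b.equivFun x 1 • -v := fun x => by
    simp [φ, Module.Basis.constr_apply_fintype, Fin.sum_univ_two]
  have hx : ∀ x : X, (x : V) = b.equivFun x 0 • u + b.equivFun x 1 • v := fun x => by
    conv_lhs => rw [← b.sum_equivFun x]
    simp [b, Fin.sum_univ_two, Module.Basis.span_apply]
  obtain ⟨h, hh, hhX⟩ := witt_quadratic Q hQ X φ
    (by
      rw [injective_iff_map_eq_zero]
      intro x h0
      rw [hφ, smul_neg] at h0
      have := (LinearIndependent.pair_iff.mp hli) (b.equivFun x 0) (-(b.equivFun x 1))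
        (by rw [neg_smul]; exact h0)
      refine b.equivFun.map_eq_zero_iff.mp (funext fun i => ?_)
      fin_cases i
      · exact this.1
      · exact neg_eq_zero.mp this.2)
    (fun x => by
      rw [hφ, hx x]
      simp only [smul_neg, quad_add, quad_smul, QuadraticMap.map_neg, map_neg, map_smul,
        LinearMap.smul_apply, LinearMap.neg_apply, smul_eq_mul, hu, hv, huv]
      ring)
  have hhu : h u = u := by
    have h1 := hhX (b 0)
    rw [show φ (b 0) = ![u, -v] 0 from Module.Basis.constr_basis _ _ _ _, Module.Basis.span_apply] at h1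
    simpa using h1
  have hhv : h v = -v := by
    have h1 := hhX (b 1)
    rw [show φ (b 1) = ![u, -v] 1 from Module.Basis.constr_basis _ _ _ _, Module.Basis.span_apply] at h1
    simpa using h1
  obtain ⟨e, -, he⟩ := exists_siegel_mem Q hQ hu hv huv (-c / 2)
  refine ⟨⟨h, hh⟩, e, ?_⟩
  rw [commutatorElement_def, mul_inv_eq_iff_eq_mul, mul_inv_eq_iff_eq_mul]
  refine Subtype.ext (LinearEquiv.ext fun x => ?_)
  show h ((e : V ≃ₗ[F] V) x) = (g : V ≃ₗ[F] V) ((e : V ≃ₗ[F] V) (h x))
  have hu' : polarBilin Q u (h x) = polarBilin Q u x := by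
    conv_lhs => rw [← hhu]
    exact iso_polar Q ⟨h, hh⟩ u x
  have hv' : polarBilin Q v (h x) = - polarBilin Q v x := by
    have h1 := iso_polar Q ⟨h, hh⟩ v x
    change polarBilin Q (h v) (h x) = _ at h1
    rw [hhv, map_neg, LinearMap.neg_apply] at h1
    linear_combination -h1
  simp only [he, hg', siegelLin_apply, map_add, map_sub, map_smul, hhu, hhv, hu', hv', smul_eq_mul,
    quad_polar_self, hu, hv, huv, quad_polar_comm Q v u]
  match_scalars <;> field_simp <;> ring

/-- A non-degenerate subspace of dimension at least two takes every non-zero value. -/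
theorem exists_quad_eq_mem [Finite F] (h2 : (2 : F) ≠ 0) (W : Submodule F V)
    (hnd : ∀ a ∈ W, (∀ b ∈ W, polarBilin Q a b = 0) → a = 0) (hdim : 2 ≤ finrank F W) (c : F)
    (hc : c ≠ 0) : ∃ v ∈ W, Q v = c := by
  have hnd' : (polarBilin (Q.comp W.subtype)).Nondegenerate := by
    have hleft : ∀ a : W, (∀ b : W, polarBilin (Q.comp W.subtype) a b = 0) → a = 0 := fun a ha =>
      Subtype.ext (hnd a a.2 fun b hb => by
        have h := ha ⟨b, hb⟩
        rw [QuadraticMap.polarBilin_apply_apply] at h ⊢
        exact h)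
    exact ⟨hleft, fun a ha => hleft a fun b => by rw [quad_polar_comm]; exact ha b⟩
  obtain ⟨v, hv⟩ := exists_quad_eq (Q.comp W.subtype) hnd' h2 hdim c hc
  exact ⟨v, v.2, hv⟩

/-- The perpendicular space of three vectors, with the projection. -/
theorem perp_three (hQ : (polarBilin Q).Nondegenerate) (x y z : V) {x' y' z' : V}
    (h11 : polarBilin Q x x' = 1) (h12 : polarBilin Q x y' = 0) (h13 : polarBilin Q x z' = 0)
    (h21 : polarBilin Q y x' = 0) (h22 : polarBilin Q y y' = 1) (h23 : polarBilin Q y z' = 0)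
    (h31 : polarBilin Q z x' = 0) (h32 : polarBilin Q z y' = 0) (h33 : polarBilin Q z z' = 1)
    (hx' : x' ∈ Submodule.span F ({x, y, z} : Set V)) (hy' : y' ∈ Submodule.span F ({x, y, z} : Set V))
    (hz' : z' ∈ Submodule.span F ({x, y, z} : Set V)) :
    (∀ a ∈ LinearMap.ker (polarBilin Q x) ⊓ LinearMap.ker (polarBilin Q y) ⊓
        LinearMap.ker (polarBilin Q z),
      (∀ b ∈ LinearMap.ker (polarBilin Q x) ⊓ LinearMap.ker (polarBilin Q y) ⊓
        LinearMap.ker (polarBilin Q z), polarBilin Q a b = 0) → a = 0) ∧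
    finrank F V ≤ finrank F ↥(LinearMap.ker (polarBilin Q x) ⊓ LinearMap.ker (polarBilin Q y) ⊓
        LinearMap.ker (polarBilin Q z)) + 3 := by
  refine ⟨fun a ha hab => hQ.1 a fun v => ?_, ?_⟩
  · set p := polarBilin Q x v • x' + polarBilin Q y v • y' + polarBilin Q z v • z' with hp
    have hv : v - p ∈ LinearMap.ker (polarBilin Q x) ⊓ LinearMap.ker (polarBilin Q y) ⊓
        LinearMap.ker (polarBilin Q z) := by
      refine ⟨⟨?_, ?_⟩, ?_⟩
      · show polarBilin Q x (v - p) = 0
        simp [hp, h11, h12, h13]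
      · show polarBilin Q y (v - p) = 0
        simp [hp, h21, h22, h23]
      · show polarBilin Q z (v - p) = 0
        simp [hp, h31, h32, h33]
    have hspan : ∀ s ∈ Submodule.span F ({x, y, z} : Set V), polarBilin Q a s = 0 := by
      intro s hs
      have hle : Submodule.span F ({x, y, z} : Set V) ≤ LinearMap.ker (polarBilin Q a) := by
        rw [Submodule.span_le]
        rintro s (rfl | rfl | rfl)
        · exact (quad_polar_comm Q a _).trans ha.1.1
        · exact (quad_polar_comm Q a _).trans ha.1.2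
        · exact (quad_polar_comm Q a _).trans ha.2
      exact hle hs
    have h0 := hab _ hv
    rw [map_sub, hp, map_add, map_add, map_smul, map_smul, map_smul, hspan x' hx', hspan y' hy',
      hspan z' hz', smul_zero, smul_zero, smul_zero, add_zero, add_zero, sub_zero] at h0
    exact h0
  · let T : V →ₗ[F] F × F × F :=
      LinearMap.prod (polarBilin Q x) (LinearMap.prod (polarBilin Q y) (polarBilin Q z))
    have h1 := LinearMap.finrank_range_add_finrank_ker T
    have h2 := Submodule.finrank_le (LinearMap.range T)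
    rw [Module.finrank_prod, Module.finrank_prod, Module.finrank_self] at h2
    have h3 : LinearMap.ker T = LinearMap.ker (polarBilin Q x) ⊓ LinearMap.ker (polarBilin Q y) ⊓
        LinearMap.ker (polarBilin Q z) := by
      rw [LinearMap.ker_prod, LinearMap.ker_prod, inf_assoc]
    rw [h3] at h1
    omega

/-- One step along a singular line orthogonal to the vector. -/
theorem exists_siegel_step [Finite F] (hQ : (polarBilin Q).Nondegenerate) (h2 : (2 : F) ≠ 0)
    (hn : 5 ≤ finrank F V) (x w : V) (hx : Q x ≠ 0) (hw : Q w = 0)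
    (hxw : polarBilin Q x w = 0) :
    ∃ g ∈ siegelGroup Q, (g : V ≃ₗ[F] V) x = x + w := by
  by_cases hw0 : w = 0
  · exact ⟨1, Subgroup.one_mem _, by rw [hw0, add_zero]; rfl⟩
  have hxx : polarBilin Q x x ≠ 0 := by rw [quad_polar_self]; exact mul_ne_zero h2 hx
  have hwX : w ∉ Submodule.span F {x} := fun h => by
    obtain ⟨s, hs⟩ := Submodule.mem_span_singleton.mp h
    rw [← hs, map_smul, smul_eq_mul, mul_eq_zero] at hxw
    exact hw0 (by rw [← hs, hxw.resolve_right hxx, zero_smul])
  obtain ⟨w', hw'0, hww', hw'x⟩ := exists_quad_partner Q hQ (Submodule.span F {x}) w hw hwX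
    (fun z hz => by
      obtain ⟨s, rfl⟩ := Submodule.mem_span_singleton.mp hz
      rw [map_smul, quad_polar_comm, hxw, smul_zero])
  have hxw' : polarBilin Q x w' = 0 := by
    rw [quad_polar_comm]; exact hw'x x (Submodule.mem_span_singleton_self x)
  have hwx : polarBilin Q w x = 0 := by rw [quad_polar_comm]; exact hxw
  have hw'x' : polarBilin Q w' x = 0 := hw'x x (Submodule.mem_span_singleton_self x)
  have hww : polarBilin Q w w = 0 := by rw [quad_polar_self, hw, mul_zero]
  have hw'w' : polarBilin Q w' w' = 0 := by rw [quad_polar_self, hw'0, mul_zero]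
  have hw'w : polarBilin Q w' w = 1 := by rw [quad_polar_comm]; exact hww'
  obtain ⟨hnd, hdim⟩ := perp_three Q hQ x w w' (x' := (polarBilin Q x x)⁻¹ • x) (y' := w') (z' := w)
    (by rw [map_smul, smul_eq_mul, inv_mul_cancel₀ hxx]) hxw' hxw
    (by rw [map_smul, hwx, smul_zero]) hww' hww
    (by rw [map_smul, hw'x', smul_zero]) hw'w' hw'w
    (Submodule.smul_mem _ _ (Submodule.subset_span (by simp))) (Submodule.subset_span (by simp))
    (Submodule.subset_span (by simp))
  obtain ⟨v, hv, hQv⟩ := exists_quad_eq_mem Q h2 _ hnd (by omega) (-Q x) (neg_ne_zero.mpr hx)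
  have hxv : polarBilin Q x v = 0 := hv.1.1
  have hwv : polarBilin Q w v = 0 := hv.1.2
  set u := (polarBilin Q x x)⁻¹ • (x + v) with hu
  have hQu : Q u = 0 := by rw [hu, quad_smul, quad_add, hQv, hxv]; ring
  have hwu : polarBilin Q w u = 0 := by rw [hu, map_smul, map_add, hwx, hwv, add_zero, smul_zero]
  have hux : polarBilin Q u x = 1 := by
    rw [quad_polar_comm, hu, map_smul, map_add, hxv, add_zero, smul_eq_mul, inv_mul_cancel₀ hxx]
  obtain ⟨g, hg, hgv⟩ := exists_siegel_mem Q hQ hQu hw (by rw [quad_polar_comm]; exact hwu) 1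
  refine ⟨g, hg, ?_⟩
  rw [hgv, siegelLin_apply, hux, hwx]
  simp

/-- The Siegel group is transitive on the vectors of a given non-zero value. -/
theorem exists_siegel_map [Finite F] (hQ : (polarBilin Q).Nondegenerate) (h2 : (2 : F) ≠ 0)
    (hn : 5 ≤ finrank F V) (x y : V) (hx : Q x ≠ 0) (hxy : Q y = Q x) :
    ∃ g ∈ siegelGroup Q, (g : V ≃ₗ[F] V) x = y := by
  have hxx : polarBilin Q x x ≠ 0 := by rw [quad_polar_self]; exact mul_ne_zero h2 hx
  set c := Q x with hc
  have hplane : ∀ p r, Q p = c → Q r = c → polarBilin Q p r ^ 2 ≠ 4 * c ^ 2 →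
      ∃ g ∈ siegelGroup Q, (g : V ≃ₗ[F] V) p = r := by
    intro p r hp hr hf
    set f := polarBilin Q p r with hfdef
    set D := 4 * c ^ 2 - f ^ 2 with hD
    have hD0 : D ≠ 0 := sub_ne_zero.mpr (Ne.symm hf)
    set s := (4 * c ^ 2 - 2 * c * f) / D with hs
    set z₀ := s • p + s • r with hz₀
    have hpz₀ : polarBilin Q p z₀ = 2 * c := by
      simp only [hz₀, map_add, map_smul, smul_eq_mul, quad_polar_self, hp, ← hfdef, hs]
      rw [div_mul_eq_mul_div, div_mul_eq_mul_div, ← add_div, div_eq_iff hD0, hD]
      ring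
    have hrz₀ : polarBilin Q r z₀ = 2 * c := by
      simp only [hz₀, map_add, map_smul, smul_eq_mul, quad_polar_self, hr, quad_polar_comm Q r p,
        ← hfdef, hs]
      rw [div_mul_eq_mul_div, div_mul_eq_mul_div, ← add_div, div_eq_iff hD0, hD]
      ring
    obtain ⟨q, hpq, hrq, hQq⟩ : ∃ q, polarBilin Q p q = 0 ∧ polarBilin Q r q = 0 ∧
        Q q = c - Q z₀ := by
      by_cases h0 : c - Q z₀ = 0
      · exact ⟨0, map_zero _, map_zero _, by rw [map_zero, h0]⟩
      let W : Submodule F V := LinearMap.ker (polarBilin Q p) ⊓ LinearMap.ker (polarBilin Q r)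
      have hW : ∀ v, ∃ a b : F, v - (a • p + b • r) ∈ W := by
        intro v
        refine ⟨(2 * c * polarBilin Q p v - f * polarBilin Q r v) / D,
          (2 * c * polarBilin Q r v - f * polarBilin Q p v) / D, ?_, ?_⟩
        · show polarBilin Q p _ = 0
          simp only [map_sub, map_add, map_smul, smul_eq_mul, quad_polar_self, hp, ← hfdef]
          rw [div_mul_eq_mul_div, div_mul_eq_mul_div, ← add_div, sub_eq_zero, eq_div_iff hD0, hD]
          ring
        · show polarBilin Q r _ = 0
          simp only [map_sub, map_add, map_smul, smul_eq_mul, quad_polar_self, hr,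
            quad_polar_comm Q r p, ← hfdef]
          rw [div_mul_eq_mul_div, div_mul_eq_mul_div, ← add_div, sub_eq_zero, eq_div_iff hD0, hD]
          ring
      have hndW : ∀ a ∈ W, (∀ b ∈ W, polarBilin Q a b = 0) → a = 0 := fun a ha hab => by
        refine hQ.1 a fun v => ?_
        obtain ⟨i, j, hv⟩ := hW v
        have h1 : polarBilin Q a p = 0 := (quad_polar_comm Q a p).trans ha.1
        have h2 : polarBilin Q a r = 0 := (quad_polar_comm Q a r).trans ha.2
        have h := hab _ hv
        simpa [h1, h2] using h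
      have hdimW : 2 ≤ finrank F W := by
        have hker : ∀ z, finrank F V ≤ finrank F (LinearMap.ker (polarBilin Q z)) + 1 := fun z => by
          have e3 := LinearMap.finrank_range_add_finrank_ker (polarBilin Q z)
          have e4 := Submodule.finrank_le (LinearMap.range (polarBilin Q z))
          rw [Module.finrank_self] at e4
          omega
        have e1 := Submodule.finrank_sup_add_finrank_inf_eq (LinearMap.ker (polarBilin Q p))
          (LinearMap.ker (polarBilin Q r))
        have e2 := Submodule.finrank_le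
          (LinearMap.ker (polarBilin Q p) ⊔ LinearMap.ker (polarBilin Q r))
        have := hker p
        have := hker r
        show 2 ≤ finrank F ↥(LinearMap.ker (polarBilin Q p) ⊓ LinearMap.ker (polarBilin Q r))
        omega
      obtain ⟨q, hq, hQq⟩ := exists_quad_eq_mem Q h2 W hndW hdimW _ h0
      exact ⟨q, hq.1, hq.2, hQq⟩
    set z := z₀ + q with hz
    have hz₀q : polarBilin Q z₀ q = 0 := by
      simp [hz₀, hpq, hrq]
    have hQz : Q z = c := by rw [hz, quad_add, hQq, hz₀q]; ring
    have hpz : polarBilin Q p z = 2 * c := by rw [hz, map_add, hpz₀, hpq, add_zero]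
    have hrz : polarBilin Q r z = 2 * c := by rw [hz, map_add, hrz₀, hrq, add_zero]
    have hc0 : c ≠ 0 := hx
    obtain ⟨g₁, hg₁, h₁⟩ := exists_siegel_step Q hQ h2 hn p (z - p) (by rw [hp]; exact hc0)
      (by rw [quad_sub, hQz, hp, quad_polar_comm Q z p, hpz]; ring)
      (by rw [map_sub, hpz, quad_polar_self, hp, sub_self])
    obtain ⟨g₂, hg₂, h₂⟩ := exists_siegel_step Q hQ h2 hn r (z - r) (by rw [hr]; exact hc0)
      (by rw [quad_sub, hQz, hr, quad_polar_comm Q z r, hrz]; ring)
      (by rw [map_sub, hrz, quad_polar_self, hr, sub_self])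
    refine ⟨g₂⁻¹ * g₁, Subgroup.mul_mem _ (Subgroup.inv_mem _ hg₂) hg₁, ?_⟩
    show (g₂ : V ≃ₗ[F] V).symm ((g₁ : V ≃ₗ[F] V) p) = r
    rw [h₁, add_sub_cancel, LinearEquiv.symm_apply_eq, h₂, add_sub_cancel]
  by_cases hf : polarBilin Q x y ^ 2 ≠ 4 * c ^ 2
  · exact hplane x y rfl hxy hf
  push Not at hf
  have h4c : (4 : F) * c ^ 2 ≠ 0 := by
    refine mul_ne_zero ?_ (pow_ne_zero _ hx)
    rw [show (4 : F) = 2 * 2 by norm_num]
    exact mul_ne_zero h2 h2
  obtain ⟨z, hz, hxz, hzy⟩ : ∃ z, Q z = c ∧ polarBilin Q x z = 0 ∧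
      polarBilin Q z y ^ 2 ≠ 4 * c ^ 2 := by
    set lam := polarBilin Q x y / polarBilin Q x x with hlam
    set e := y - lam • x with he
    have hxe : polarBilin Q x e = 0 := by
      rw [he, map_sub, map_smul, smul_eq_mul, hlam, div_mul_cancel₀ _ hxx, sub_self]
    have hlam2 : lam * lam = 1 := by
      rw [hlam, quad_polar_self, ← hc]
      field_simp
      linear_combination hf
    have hQe : Q e = 0 := by
      rw [he, quad_sub, quad_smul, map_smul, smul_eq_mul, quad_polar_comm Q y x, hxy, ← hc, hlam2]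
      rw [show polarBilin Q x y = lam * (2 * c) by
        rw [hlam, quad_polar_self, ← hc, div_mul_cancel₀ _ (mul_ne_zero h2 hx)]]
      linear_combination (-2 * c) * hlam2
    suffices h : ∃ z, Q z = c ∧ polarBilin Q x z = 0 ∧ polarBilin Q e z = 0 by
      obtain ⟨z, hz, hxz, hez⟩ := h
      refine ⟨z, hz, hxz, ?_⟩
      rw [quad_polar_comm, show y = e + lam • x by rw [he, sub_add_cancel], map_add, map_smul,
        LinearMap.add_apply, LinearMap.smul_apply, hez, hxz, smul_zero, add_zero,
        zero_pow two_ne_zero]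
      exact h4c.symm
    by_cases he0 : e = 0
    · have hndW : ∀ a ∈ LinearMap.ker (polarBilin Q x), (∀ b ∈ LinearMap.ker (polarBilin Q x),
          polarBilin Q a b = 0) → a = 0 := fun a ha hab => by
        refine hQ.1 a fun v => ?_
        have hv : v - (polarBilin Q x v / polarBilin Q x x) • x ∈ LinearMap.ker (polarBilin Q x) := by
          rw [LinearMap.mem_ker, map_sub, map_smul, smul_eq_mul, div_mul_cancel₀ _ hxx, sub_self]
        have h1 : polarBilin Q a x = 0 := (quad_polar_comm Q a x).trans ha
        simpa [h1] using hab _ hv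
      have hd : 2 ≤ finrank F (LinearMap.ker (polarBilin Q x)) := by
        have e3 := LinearMap.finrank_range_add_finrank_ker (polarBilin Q x)
        have e4 := Submodule.finrank_le (LinearMap.range (polarBilin Q x))
        rw [Module.finrank_self] at e4
        omega
      obtain ⟨z, hz, hQz⟩ := exists_quad_eq_mem Q h2 _ hndW hd c hx
      exact ⟨z, hQz, hz, by rw [he0, map_zero, LinearMap.zero_apply]⟩
    · have heX : e ∉ Submodule.span F {x} := fun h => by
        obtain ⟨s, hs⟩ := Submodule.mem_span_singleton.mp h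
        rw [← hs, map_smul, smul_eq_mul, mul_eq_zero] at hxe
        exact he0 (by rw [← hs, hxe.resolve_right hxx, zero_smul])
      obtain ⟨e', he'0, hee', he'x⟩ := exists_quad_partner Q hQ (Submodule.span F {x}) e hQe heX
        (fun z hz => by
          obtain ⟨s, rfl⟩ := Submodule.mem_span_singleton.mp hz
          rw [map_smul, quad_polar_comm, hxe, smul_zero])
      have he'x' : polarBilin Q e' x = 0 := he'x x (Submodule.mem_span_singleton_self x)
      obtain ⟨hnd, hdim⟩ := perp_three Q hQ x e e' (x' := (polarBilin Q x x)⁻¹ • x) (y' := e')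
        (z' := e)
        (by rw [map_smul, smul_eq_mul, inv_mul_cancel₀ hxx])
        (by rw [quad_polar_comm]; exact he'x') hxe
        (by rw [map_smul, quad_polar_comm Q e x, hxe, smul_zero]) hee'
        (by rw [quad_polar_self, hQe, mul_zero])
        (by rw [map_smul, he'x', smul_zero]) (by rw [quad_polar_self, he'0, mul_zero])
        (by rw [quad_polar_comm]; exact hee')
        (Submodule.smul_mem _ _ (Submodule.subset_span (by simp))) (Submodule.subset_span (by simp))
        (Submodule.subset_span (by simp))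
      obtain ⟨z, hz, hQz⟩ := exists_quad_eq_mem Q h2 _ hnd (by omega) c hx
      exact ⟨z, hQz, hz.1.1, hz.1.2⟩
  obtain ⟨g₁, hg₁, h₁⟩ := hplane x z rfl hz (by rw [hxz, zero_pow two_ne_zero]; exact h4c.symm)
  obtain ⟨g₂, hg₂, h₂⟩ := hplane z y hz hxy hzy
  exact ⟨g₂ * g₁, Subgroup.mul_mem _ hg₂ hg₁, by
    show (g₂ : V ≃ₗ[F] V) ((g₁ : V ≃ₗ[F] V) x) = y
    rw [h₁, h₂]⟩

/-- `Ω` is generated by Siegel transformations. -/
theorem commutator_eq_siegelGroup [Finite F] (hQ : (polarBilin Q).Nondegenerate) (h2 : (2 : F) ≠ 0)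
    (hn : 5 ≤ finrank F V) : commutator (quadIsometries Q) = siegelGroup Q := by
  refine le_antisymm ?_ ?_
  · obtain ⟨a, w, ha, hw, hw0⟩ := exists_quad_class_vectors Q hQ h2 (by omega)
    have hQa : Q a ≠ 0 := by rw [ha]; exact one_ne_zero
    have haa : polarBilin Q a a ≠ 0 := by rw [quad_polar_self]; exact mul_ne_zero h2 hQa
    have hndW : ∀ p ∈ LinearMap.ker (polarBilin Q a), (∀ b ∈ LinearMap.ker (polarBilin Q a),
        polarBilin Q p b = 0) → p = 0 := fun p hp hab => by
      refine hQ.1 p fun v => ?_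
      have hv : v - (polarBilin Q a v / polarBilin Q a a) • a ∈ LinearMap.ker (polarBilin Q a) := by
        rw [LinearMap.mem_ker, map_sub, map_smul, smul_eq_mul, div_mul_cancel₀ _ haa, sub_self]
      have h1 : polarBilin Q p a = 0 := (quad_polar_comm Q p a).trans hp
      simpa [h1] using hab _ hv
    have hd : 2 ≤ finrank F (LinearMap.ker (polarBilin Q a)) := by
      have e3 := LinearMap.finrank_range_add_finrank_ker (polarBilin Q a)
      have e4 := Submodule.finrank_le (LinearMap.range (polarBilin Q a))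
      rw [Module.finrank_self] at e4
      omega
    obtain ⟨b, hab, hQb⟩ := exists_quad_eq_mem Q h2 _ hndW hd (Q w) hw0
    have hab' : polarBilin Q a b = 0 := hab
    set S := siegelGroup Q with hS
    have hsame : ∀ u v : V, Q u ≠ 0 → sqClass (Q u) = sqClass (Q v) → Q v ≠ 0 →
        refl Q u * refl Q v ∈ S := by
      intro u v hu hs hv
      have h1 : sqClass (Q v / Q u) = 1 := by
        rw [div_eq_mul_inv, sqClass_mul hv (inv_ne_zero hu), sqClass_inv, hs, Int.units_mul_self]
      obtain ⟨t, ht⟩ := sqClass_eq_one_iff.mp h1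
      have ht0 : t ≠ 0 := by
        rintro rfl
        rw [mul_zero, div_eq_zero_iff] at ht
        exact ht.elim hv hu
      obtain ⟨s, hs', hsv⟩ := exists_siegel_map Q hQ h2 hn (t • u) v
        (by rw [quad_smul]; exact mul_ne_zero (mul_ne_zero ht0 ht0) hu)
        (by rw [quad_smul, ← ht, div_mul_cancel₀ _ hu])
      rw [← hsv, ← refl_conj, refl_smul Q u ht0, ← mul_assoc, ← mul_assoc]
      refine S.mul_mem ?_ (S.inv_mem hs')
      have h2 := (siegelGroup_normal Q).conj_mem s hs' (refl Q u)
      rwa [inv_eq_of_mul_eq_one_right (refl_mul_self Q u)] at h2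
    let T : Set (quadIsometries Q) := (S : Set (quadIsometries Q)) ∪ {refl Q a, refl Q b}
    have hTtop : Subgroup.closure T = ⊤ := by
      rw [eq_top_iff, ← closure_refl_eq_top Q hQ (two_ne_zero_exc h2), Subgroup.closure_le]
      rintro _ ⟨u, hu, rfl⟩
      by_cases hs : IsSquare (Q u)
      · have hmem := hsame u a hu (by
          rw [sqClass_eq_one_iff.mpr hs, ha, sqClass_eq_one_iff.mpr IsSquare.one]) hQa
        have h := (Subgroup.closure T).mul_mem (Subgroup.subset_closure (Or.inl hmem))
          (Subgroup.subset_closure (Or.inr (Or.inl rfl)) : refl Q a ∈ Subgroup.closure T)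
        rwa [mul_assoc, refl_mul_self, mul_one] at h
      · have hmem := hsame u b hu (by
          rw [sqClass_eq_neg_one_iff.mpr hs, hQb, sqClass_eq_neg_one_iff.mpr hw]) (by rwa [hQb])
        have h := (Subgroup.closure T).mul_mem (Subgroup.subset_closure (Or.inl hmem))
          (Subgroup.subset_closure (Or.inr (Or.inr rfl)) : refl Q b ∈ Subgroup.closure T)
        rwa [mul_assoc, refl_mul_self, mul_one] at h
    have hcomm : refl Q a * refl Q b = refl Q b * refl Q a := by
      have h := refl_conj Q (refl Q a) b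
      have hb : (refl Q a : V ≃ₗ[F] V) b = b := by
        rw [refl_apply, hab', mul_zero, zero_smul, sub_zero]
      rw [hb, mul_inv_eq_iff_eq_mul] at h
      exact h
    refine commutator_le_of_generators T hTtop S ?_
    rintro p (hp | hp) r (hr | hr)
    · exact S.mul_mem (S.mul_mem (S.mul_mem hp hr) (S.inv_mem hp)) (S.inv_mem hr)
    · have h1 := (siegelGroup_normal Q).conj_mem _ (S.inv_mem hp) r
      have h2 := S.mul_mem hp h1
      rwa [← mul_assoc, ← mul_assoc] at h2
    · exact S.mul_mem ((siegelGroup_normal Q).conj_mem _ hr p) (S.inv_mem hr)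
    · have hone : p * r = r * p := by
        rcases hp with rfl | rfl <;> rcases hr with rfl | rfl
        · rfl
        · exact hcomm
        · exact hcomm.symm
        · rfl
      rw [hone, mul_inv_cancel_right, mul_inv_cancel]
      exact S.one_mem
  · rw [siegelGroup, Subgroup.closure_le]
    intro g hg
    rw [commutator_eq_closure]
    exact Subgroup.subset_closure (siegel_mem_commutatorSet Q hQ h2 g hg)

end Cfsg.Agent.Lib.Geometry
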