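import Mathlib.LinearAlgebra.Matrix.BilinearForm
import Mathlib.LinearAlgebra.SymplecticGroup
import Cfsg.Agent.Lib.Geometry.OrthTransfer

/-!
Quadratic forms given by matrices, the standard forms `quadFormPlus`, `quadFormMinus`, and when
`-1` lies in `Ω`.
-/

set_option autoImplicit false

namespace Cfsg.Agent.Lib.Geometry

open Matrix
open QuadraticMap (polarBilin)

variable {F : Type*} [Field F] {ι : Type} [Fintype ι] [DecidableEq ι]

/-- The quadratic form `x ↦ xᵀ M x`. -/
def matQuad (M : Matrix ι ι F) : QuadraticForm F (ι → F) :=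
  LinearMap.BilinMap.toQuadraticMap (Matrix.toBilin' M)

theorem matQuad_apply (M : Matrix ι ι F) (x : ι → F) : matQuad M x = x ⬝ᵥ (M *ᵥ x) :=
  Matrix.toBilin'_apply' M x x

theorem polarBilin_matQuad (M : Matrix ι ι F) :
    polarBilin (matQuad M) = Matrix.toBilin' (M + Mᵀ) := by
  refine LinearMap.ext fun x => LinearMap.ext fun y => ?_
  rw [QuadraticMap.polarBilin_apply_apply, matQuad, LinearMap.BilinMap.polar_toQuadraticMap,
    map_add, LinearMap.add_apply, LinearMap.add_apply]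
  congr 1
  rw [Matrix.toBilin'_apply', Matrix.toBilin'_apply', Matrix.mulVec_transpose,
    Matrix.dotProduct_mulVec, dotProduct_comm]

theorem polarBilin_matQuad_nondegenerate {M : Matrix ι ι F} (h : (M + Mᵀ).det ≠ 0) :
    (polarBilin (matQuad M)).Nondegenerate := by
  rw [polarBilin_matQuad]
  exact Matrix.nondegenerate_toBilin'_iff.mpr (Matrix.nondegenerate_of_det_ne_zero h)

theorem polarBilin_matQuad_single (M : Matrix ι ι F) (i j : ι) :
    polarBilin (matQuad M) (Pi.single i 1) (Pi.single j 1) = (M + Mᵀ) i j := by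
  rw [polarBilin_matQuad, Matrix.toBilin'_single]

/-- When `-1` lies in `Ω`. -/
theorem neg_one_mem_Omega_iff [Finite F] (Q : QuadraticForm F (ι → F))
    (hQ : (polarBilin Q).Nondegenerate) (h2 : (2 : F) ≠ 0) (hn : 2 ≤ Fintype.card ι) :
    (∃ g : Cfsg.isometryGroup F (⇑Q), g ∈ Cfsg.Omega F (⇑Q) ∧
      ((g : Matrix.GeneralLinearGroup ι F) : Matrix ι ι F) = -1) ↔
    (-1 : ℤˣ) ^ Fintype.card ι = 1 ∧ sqClass ((2 : F) ^ Fintype.card ι *
      (Matrix.of fun i j => polarBilin Q (Pi.single i 1) (Pi.single j 1)).det) = 1 := by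
  let g₀ : Cfsg.isometryGroup F (⇑Q) :=
    ⟨-1, mem_isometryGroup_iff.mpr fun x => by
      rw [Units.val_neg, Units.val_one, Matrix.neg_mulVec, Matrix.one_mulVec,
        QuadraticMap.map_neg]⟩
  let e := Fintype.equivFin ι
  obtain ⟨hd, hs⟩ := spinor_of_neg Q hQ h2 (isometryEquiv Q g₀)
    (fun x => by
      rw [isometryEquiv_apply]
      show ((-1 : Matrix.GeneralLinearGroup ι F) : Matrix ι ι F) *ᵥ x = -x
      rw [Units.val_neg, Units.val_one, Matrix.neg_mulVec, Matrix.one_mulVec])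
    ((Pi.basisFun F ι).reindex e)
  have hdet : (Matrix.of fun i j => polarBilin Q (((Pi.basisFun F ι).reindex e) i)
      (((Pi.basisFun F ι).reindex e) j)).det =
      (Matrix.of fun i j => polarBilin Q (Pi.single i 1) (Pi.single j 1)).det := by
    rw [← Matrix.det_submatrix_equiv_self e.symm
      (Matrix.of fun i j => polarBilin Q (Pi.single i 1) (Pi.single j 1))]
    congr 1
    ext i j
    simp [Module.Basis.reindex_apply, Pi.basisFun_apply]
  rw [hdet] at hs
  rw [← hd, ← hs, ← mem_Omega_iff Q hQ h2 hn]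
  constructor
  · rintro ⟨g, hg, hg1⟩
    have : g = g₀ := Subtype.ext (Units.ext (by rw [hg1]; rfl))
    rwa [← this]
  · exact fun h => ⟨g₀, h, rfl⟩

/-- The matrix of `quadFormPlus`. -/
def plusMatrix (m : ℕ) (F : Type*) [Field F] : Matrix (Fin m ⊕ Fin m) (Fin m ⊕ Fin m) F :=
  Matrix.fromBlocks 0 1 0 0

theorem quadFormPlus_eq (m : ℕ) :
    Cfsg.quadFormPlus m F = ⇑(matQuad (plusMatrix m F)) := by
  funext v
  rw [matQuad_apply, plusMatrix, Matrix.fromBlocks_mulVec]
  simp [Cfsg.quadFormPlus, dotProduct, Fintype.sum_sum_type]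

theorem det_plusGram (m : ℕ) :
    (plusMatrix m F + (plusMatrix m F)ᵀ).det = (-1) ^ m := by
  have h : plusMatrix m F + (plusMatrix m F)ᵀ =
      Matrix.J (Fin m) F * Matrix.fromBlocks 1 0 0 (-1) := by
    simp [plusMatrix, Matrix.J, Matrix.fromBlocks_transpose, Matrix.fromBlocks_add,
      Matrix.fromBlocks_multiply]
  rw [h, Matrix.det_mul, SymplecticGroup.det_eq_one (SymplecticGroup.J_mem (Fin m) F), one_mul,
    Matrix.det_fromBlocks_zero₂₁, Matrix.det_one, one_mul, Matrix.det_neg, Matrix.det_one,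
    Fintype.card_fin, mul_one]

/-- The matrix of `quadFormMinus`. -/
def minusMatrix (m : ℕ) (a b : F) :
    Matrix ((Fin m ⊕ Fin m) ⊕ Fin 2) ((Fin m ⊕ Fin m) ⊕ Fin 2) F :=
  Matrix.fromBlocks (plusMatrix m F) 0 0 !![1, a; 0, b]

theorem quadFormMinus_eq (m : ℕ) (a b : F) :
    Cfsg.quadFormMinus m F a b = ⇑(matQuad (minusMatrix m a b)) := by
  funext v
  rw [matQuad_apply, minusMatrix, Matrix.fromBlocks_mulVec]
  have h : (v ∘ Sum.inl) ⬝ᵥ (plusMatrix m F *ᵥ (v ∘ Sum.inl)) =
      ∑ i : Fin m, v (.inl (.inl i)) * v (.inl (.inr i)) := by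
    rw [← matQuad_apply, ← quadFormPlus_eq]
    rfl
  simp only [Matrix.zero_mulVec, add_zero, zero_add]
  rw [dotProduct, Fintype.sum_sum_type]
  simp only [Sum.elim_inl, Sum.elim_inr]
  unfold Cfsg.quadFormMinus
  rw [← h]
  congr 1
  simp [Matrix.mulVec, dotProduct, Fin.sum_univ_two]
  ring

theorem det_minusGram (m : ℕ) (a b : F) :
    (minusMatrix m a b + (minusMatrix m a b)ᵀ).det = (-1) ^ m * (4 * b - a ^ 2) := by
  rw [minusMatrix, Matrix.fromBlocks_transpose, Matrix.fromBlocks_add, Matrix.transpose_zero,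
    Matrix.transpose_zero]
  simp only [add_zero]
  rw [Matrix.det_fromBlocks_zero₂₁, det_plusGram, Matrix.det_fin_two]
  simp only [Matrix.add_apply, Matrix.transpose_apply, Matrix.of_apply, Matrix.cons_val',
    Matrix.cons_val_zero, Matrix.cons_val_one, Matrix.empty_val', Matrix.cons_val_fin_one]
  ring

theorem discr_not_isSquare (h2 : (2 : F) ≠ 0) {a b : F}
    (hab : ∀ z₁ z₂ : F, z₁ ^ 2 + a * z₁ * z₂ + b * z₂ ^ 2 = 0 → z₁ = 0 ∧ z₂ = 0) :
    ¬ IsSquare (a ^ 2 - 4 * b) := by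
  rintro ⟨r, hr⟩
  have := hab ((-a + r) / 2) 1 (by field_simp; linear_combination -hr)
  exact one_ne_zero this.2

theorem sqClass_neg_one_pow [Fintype F] (hodd : Odd (Fintype.card F)) (m : ℕ) :
    sqClass ((-1 : F) ^ m) = 1 ↔ Fintype.card F ^ m % 4 = 1 := by
  obtain ⟨k, hk⟩ := hodd
  rw [sqClass_eq_one_iff, Nat.pow_mod]
  rcases Nat.even_or_odd m with hm | hm
  · rw [hm.neg_one_pow]
    simp only [IsSquare.one, true_iff]
    obtain ⟨j, rfl⟩ := hm
    rw [← two_mul, pow_mul, Nat.pow_mod]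
    have : (Fintype.card F % 4) ^ 2 % 4 = 1 := by
      have : Fintype.card F % 4 = 1 ∨ Fintype.card F % 4 = 3 := by omega
      rcases this with h | h <;> rw [h] <;> norm_num
    rw [this, one_pow, Nat.one_mod_eq_one.mpr (by norm_num)]
  · rw [hm.neg_one_pow, FiniteField.isSquare_neg_one_iff]
    obtain ⟨j, rfl⟩ := hm
    rw [pow_succ, Nat.mul_mod, pow_mul, Nat.pow_mod]
    have h13 : Fintype.card F % 4 = 1 ∨ Fintype.card F % 4 = 3 := by omega
    rcases h13 with h | h <;> rw [h] <;> norm_num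

theorem two_ne_zero_of_odd_card [Fintype F] (hodd : Odd (Fintype.card F)) : (2 : F) ≠ 0 := by
  intro h
  have hchar : ringChar F = 2 := CharP.ringChar_of_prime_eq_zero Nat.prime_two (by exact_mod_cast h)
  haveI := (ringChar.charP F)
  have := FiniteField.even_card_iff_char_two.mp hchar
  obtain ⟨k, hk⟩ := hodd
  omega

end Cfsg.Agent.Lib.Geometry
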