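import Mathlib.LinearAlgebra.Matrix.BilinearForm
import Cfsg.Agent.Lib.Geometry.OrthSiegel
import Cfsg.Agent.Lib.Geometry.OrthNegOne

/-!
Symmetric bilinear forms over finite fields of odd order: orthogonal bases, the structure
(hyperbolic pairs, at most an anisotropic plane) of even-dimensional forms, and discriminants.
-/

set_option autoImplicit false

namespace Cfsg.Agent.Lib.Geometry

open Module (finrank)

variable {F V : Type*} [Field F] [AddCommGroup V] [Module F V] [FiniteDimensional F V]
variable (B : LinearMap.BilinForm F V)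

theorem symm_toQuad_apply (x : V) : LinearMap.BilinMap.toQuadraticMap B x = B x x := rfl

theorem symm_toQuad_polar (hS : B.IsSymm) (x y : V) :
    QuadraticMap.polarBilin (LinearMap.BilinMap.toQuadraticMap B) x y = 2 * B x y := by
  rw [QuadraticMap.polarBilin_apply_apply, LinearMap.BilinMap.polar_toQuadraticMap, hS.eq y x,
    two_mul]

/-- A non-degenerate subspace of dimension at least two takes every non-zero value. -/
theorem exists_symm_eq_mem [Finite F] (hS : B.IsSymm) (h2 : (2 : F) ≠ 0) (W : Submodule F V)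
    (hnd : ∀ a ∈ W, (∀ b ∈ W, B a b = 0) → a = 0) (hdim : 2 ≤ finrank F W) (c : F) (hc : c ≠ 0) :
    ∃ v ∈ W, B v v = c :=
  exists_quad_eq_mem (LinearMap.BilinMap.toQuadraticMap B) h2 W
    (fun a ha hab => hnd a ha fun b hb => by
      have h := hab b hb
      rw [symm_toQuad_polar B hS] at h
      exact (mul_eq_zero.mp h).resolve_left h2) hdim c hc

/-- Orthogonal families of norm one. -/
theorem exists_orth_unit_family [Finite F] (hS : B.IsSymm) (hB : B.Nondegenerate)
    (h2 : (2 : F) ≠ 0) : ∀ k, k + 1 ≤ finrank F V →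
      ∃ e : Fin k → V, ∀ i j, B (e i) (e j) = if i = j then 1 else 0 := by
  intro k
  induction k with
  | zero => exact fun _ => ⟨Fin.elim0, fun i => i.elim0⟩
  | succ k ih =>
    intro hk
    obtain ⟨e, he⟩ := ih (by omega)
    let T : V →ₗ[F] (Fin k → F) := LinearMap.pi fun i => B (e i)
    have hT : ∀ x, x ∈ LinearMap.ker T ↔ ∀ i, B (e i) x = 0 := fun x => by
      simp only [LinearMap.mem_ker, T]
      exact funext_iff
    have hnd : ∀ a ∈ LinearMap.ker T, (∀ b ∈ LinearMap.ker T, B a b = 0) → a = 0 := by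
      intro a ha hab
      refine hB.1 a fun v => ?_
      have hv : v - ∑ i, B (e i) v • e i ∈ LinearMap.ker T := by
        rw [hT]
        intro i
        simp [map_sub, map_sum, map_smul, he]
      have hae : ∀ i, B a (e i) = 0 := fun i => by rw [hS.eq a (e i)]; exact (hT a).mp ha i
      simpa [map_sub, map_sum, map_smul, hae] using hab _ hv
    have hdim : 2 ≤ finrank F (LinearMap.ker T) := by
      have h := LinearMap.finrank_range_add_finrank_ker T
      have h' := Submodule.finrank_le (LinearMap.range T)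
      rw [Module.finrank_fintype_fun_eq_card, Fintype.card_fin] at h'
      omega
    obtain ⟨v, hv, hvv⟩ := exists_symm_eq_mem B hS h2 _ hnd hdim 1 one_ne_zero
    have hev : ∀ i, B (e i) v = 0 := (hT v).mp hv
    refine ⟨Fin.cons v e, fun i j => ?_⟩
    refine Fin.cases ?_ (fun i' => ?_) i <;> refine Fin.cases ?_ (fun j' => ?_) j
    · rw [if_pos rfl, Fin.cons_zero, hvv]
    · rw [if_neg (Fin.succ_ne_zero j').symm, Fin.cons_zero, Fin.cons_succ, hS.eq v _, hev]
    · rw [if_neg (Fin.succ_ne_zero i'), Fin.cons_zero, Fin.cons_succ, hev]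
    · simp only [Fin.cons_succ, he, Fin.succ_inj]

/-- An orthogonal basis with all norms one, except possibly the last which is one or `α`. -/
theorem exists_orth_basis_one_or_nonsquare [Finite F] (hS : B.IsSymm) (hB : B.Nondegenerate)
    (h2 : (2 : F) ≠ 0) {n : ℕ} (hn : finrank F V = n + 1) (α : F) (hα : ¬ IsSquare α) :
    ∃ b : Module.Basis (Fin (n + 1)) F V, (∀ i j, i ≠ j → B (b i) (b j) = 0) ∧
      (∀ i, i ≠ Fin.last n → B (b i) (b i) = 1) ∧
      (B (b (Fin.last n)) (b (Fin.last n)) = 1 ∨ B (b (Fin.last n)) (b (Fin.last n)) = α) := by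
  obtain ⟨e, he⟩ := exists_orth_unit_family B hS hB h2 n (by omega)
  let T : V →ₗ[F] (Fin n → F) := LinearMap.pi fun i => B (e i)
  obtain ⟨w, hw, hw0⟩ : ∃ w, (∀ i, B (e i) w = 0) ∧ B w w ≠ 0 := by
    obtain ⟨⟨x, hx⟩, hx0⟩ : ∃ x : LinearMap.ker T, x ≠ 0 := by
      haveI : Nontrivial (LinearMap.ker T) := by
        refine Module.nontrivial_of_finrank_pos (R := F) ?_
        have h := LinearMap.finrank_range_add_finrank_ker T
        have h' := Submodule.finrank_le (LinearMap.range T)
        rw [Module.finrank_fintype_fun_eq_card, Fintype.card_fin] at h'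
        omega
      exact exists_ne 0
    have hex : ∀ i, B (e i) x = 0 := fun i => congrFun (LinearMap.mem_ker.mp hx) i
    refine ⟨x, hex, fun hxx => ?_⟩
    -- `e` and `x` span
    have hli : LinearIndependent F (Fin.cons x e : Fin (n + 1) → V) := by
      rw [linearIndependent_finCons]
      refine ⟨Fintype.linearIndependent_iff.mpr fun g hg i => ?_, fun hmem => ?_⟩
      · simpa [map_sum, map_smul, he] using congrArg (B (e i)) hg
      · obtain ⟨g, hg⟩ := (Submodule.mem_span_range_iff_exists_fun F).mp hmem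
        have hg0 : ∀ i, g i = 0 := fun i => by
          have h := congrArg (B (e i)) hg
          simpa [map_sum, map_smul, he, hex] using h
        simp [hg0] at hg
        exact hx0 (Subtype.ext hg.symm)
    have hspan := hli.span_eq_top_of_card_eq_finrank (by rw [Fintype.card_fin, hn])
    refine hx0 (Subtype.ext (hB.1 x fun v => ?_))
    have hle : Submodule.span F (Set.range (Fin.cons x e : Fin (n + 1) → V)) ≤ LinearMap.ker (B x) := by
      rw [Submodule.span_le]
      rintro _ ⟨i, rfl⟩
      refine Fin.cases ?_ (fun i => ?_) i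
      · simpa using hxx
      · show B x _ = 0
        rw [Fin.cons_succ, hS.eq x (e i), hex]
    exact hle (hspan ▸ Submodule.mem_top)
  obtain ⟨t, ht0, ht⟩ : ∃ t : F, t ≠ 0 ∧ (t * t * B w w = 1 ∨ t * t * B w w = α) := by
    by_cases hs : IsSquare (B w w)
    · obtain ⟨r, hr⟩ := hs
      have hr0 : r ≠ 0 := fun h => hw0 (by rw [hr, h, mul_zero])
      exact ⟨r⁻¹, inv_ne_zero hr0, Or.inl (by rw [hr]; field_simp)⟩
    · obtain ⟨r, hr⟩ := isSquare_mul_iff_of_not_isSquare hs hα
      have hα0 : α ≠ 0 := fun h => hα (h ▸ IsSquare.zero)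
      have hr0 : r ≠ 0 := fun h => (mul_ne_zero hw0 hα0) (by rw [hr, h, mul_zero])
      refine ⟨α / r, div_ne_zero hα0 hr0, Or.inr ?_⟩
      field_simp
      linear_combination hr
  have hlast : ∀ i, B (e i) (t • w) = 0 := fun i => by rw [map_smul, hw, smul_zero]
  have hval : B (t • w) (t • w) = t * t * B w w := by
    simp [map_smul, mul_assoc]
  set f : Fin (n + 1) → V := Fin.snoc e (t • w) with hf
  have hoff : ∀ i j, i ≠ j → B (f i) (f j) = 0 := by
    intro i j
    refine Fin.lastCases ?_ (fun i' => ?_) i <;> refine Fin.lastCases ?_ (fun j' => ?_) j <;>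
      intro hij <;> simp only [hf, Fin.snoc_last, Fin.snoc_castSucc]
    · exact absurd rfl hij
    · rw [hS.eq, hlast]
    · exact hlast i'
    · rw [he, if_neg (fun h => hij (congrArg Fin.castSucc h))]
  have hon : ∀ i, i ≠ Fin.last n → B (f i) (f i) = 1 := by
    intro i
    refine Fin.lastCases ?_ (fun i' => ?_) i
    · exact fun h => absurd rfl h
    · intro _
      simp only [hf, Fin.snoc_castSucc, he, if_true]
  have hlastv : B (f (Fin.last n)) (f (Fin.last n)) = 1 ∨ B (f (Fin.last n)) (f (Fin.last n)) = α := by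
    simp only [hf, Fin.snoc_last, hval]
    exact ht
  have hne : ∀ i, B (f i) (f i) ≠ 0 := by
    intro i
    by_cases hi : i = Fin.last n
    · subst hi
      rcases hlastv with h | h <;> rw [h]
      · exact one_ne_zero
      · exact fun h' => hα (h' ▸ IsSquare.zero)
    · rw [hon i hi]; exact one_ne_zero
  have hli : LinearIndependent F f := by
    rw [Fintype.linearIndependent_iff]
    intro g hg i
    have h := congrArg (B (f i)) hg
    rw [map_sum, map_zero, Finset.sum_eq_single i
      (fun j _ hji => by rw [map_smul, hoff i j (Ne.symm hji), smul_zero])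
      (fun h => absurd (Finset.mem_univ i) h), map_smul, smul_eq_mul] at h
    exact (mul_eq_zero.mp h).resolve_right (hne i)
  refine ⟨basisOfLinearIndependentOfCardEqFinrank' f hli (by rw [Fintype.card_fin, hn]), ?_⟩
  simp only [coe_basisOfLinearIndependentOfCardEqFinrank']
  exact ⟨hoff, hon, hlastv⟩

/-- A hyperbolic frame of a symmetric form. -/
def IsHypFrame {j : ℕ} (p : Fin j → V × V) : Prop :=
  ∀ a b, B (p a).1 (p b).1 = 0 ∧ B (p a).2 (p b).2 = 0 ∧
    B (p a).1 (p b).2 = if a = b then 1 else 0

/-- The orthogonal space of a frame. -/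
def hypPerp {j : ℕ} (p : Fin j → V × V) : Submodule F V :=
  LinearMap.ker (LinearMap.pi fun a => B (p a).1) ⊓ LinearMap.ker (LinearMap.pi fun a => B (p a).2)

theorem mem_hypPerp {j : ℕ} {p : Fin j → V × V} {x : V} :
    x ∈ hypPerp B p ↔ ∀ a, B (p a).1 x = 0 ∧ B (p a).2 x = 0 := by
  simp only [hypPerp, Submodule.mem_inf, LinearMap.mem_ker]
  exact ⟨fun h a => ⟨congrFun h.1 a, congrFun h.2 a⟩,
    fun h => ⟨funext fun a => (h a).1, funext fun a => (h a).2⟩⟩

theorem hypPerp_proj (hS : B.IsSymm) {j : ℕ} {p : Fin j → V × V} (hp : IsHypFrame B p) (v : V) :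
    v - ((∑ a, B (p a).2 v • (p a).1) + ∑ a, B (p a).1 v • (p a).2) ∈ hypPerp B p := by
  have h21 : ∀ a b, B (p a).2 (p b).1 = if b = a then 1 else 0 := fun a b => by
    rw [hS.eq, (hp b a).2.2]
  rw [mem_hypPerp]
  intro a
  constructor
  · simp [map_sub, map_sum, map_smul, (hp a _).1, (hp a _).2.2]
  · simp [map_sub, map_sum, map_smul, (hp a _).2.1, h21]

theorem hypPerp_nondeg (hS : B.IsSymm) (hB : B.Nondegenerate) {j : ℕ} {p : Fin j → V × V}
    (hp : IsHypFrame B p) :
    ∀ a ∈ hypPerp B p, (∀ b ∈ hypPerp B p, B a b = 0) → a = 0 := by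
  intro x hx hxy
  refine hB.1 x fun v => ?_
  have h1 : ∀ a, B x (p a).1 = 0 := fun a => by rw [hS.eq]; exact ((mem_hypPerp B).mp hx a).1
  have h2 : ∀ a, B x (p a).2 = 0 := fun a => by rw [hS.eq]; exact ((mem_hypPerp B).mp hx a).2
  simpa [map_sub, map_sum, map_smul, h1, h2] using hxy _ (hypPerp_proj B hS hp v)

theorem finrank_hypPerp_ge {j : ℕ} (p : Fin j → V × V) :
    finrank F V ≤ finrank F (hypPerp B p) + 2 * j := by
  let S : V →ₗ[F] (Fin j → F) × (Fin j → F) :=
    LinearMap.prod (LinearMap.pi fun a => B (p a).1) (LinearMap.pi fun a => B (p a).2)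
  have h1 := LinearMap.finrank_range_add_finrank_ker S
  have h2 := Submodule.finrank_le (LinearMap.range S)
  rw [Module.finrank_prod, Module.finrank_fintype_fun_eq_card, Fintype.card_fin] at h2
  have h3 : LinearMap.ker S = hypPerp B p := by rw [LinearMap.ker_prod]; rfl
  rw [h3] at h1
  omega

theorem exists_hypFrame [Finite F] (hS : B.IsSymm) (hB : B.Nondegenerate) (h2 : (2 : F) ≠ 0) :
    ∀ j, 2 * j + 1 ≤ finrank F V → ∃ p : Fin j → V × V, IsHypFrame B p := by
  intro j
  induction j with
  | zero => exact fun _ => ⟨Fin.elim0, fun a => a.elim0⟩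
  | succ j ih =>
    intro hj
    obtain ⟨p, hp⟩ := ih (by omega)
    set W := hypPerp B p with hW
    have hnd := hypPerp_nondeg B hS hB hp
    have hdim : 3 ≤ finrank F W := by
      have := finrank_hypPerp_ge B p
      rw [hW]
      omega
    obtain ⟨a, haW, ha⟩ := exists_symm_eq_mem B hS h2 W hnd (by omega) 1 one_ne_zero
    let W₁ : Submodule F V := W ⊓ LinearMap.ker (B a)
    have hnd₁ : ∀ x ∈ W₁, (∀ b ∈ W₁, B x b = 0) → x = 0 := fun x hx hxb => hnd x hx.1 fun b hb => by
      have hmem : b - B a b • a ∈ W₁ := ⟨W.sub_mem hb (W.smul_mem _ haW), by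
        show B a (b - B a b • a) = 0
        simp [map_sub, map_smul, ha]⟩
      have hxa : B x a = 0 := by rw [hS.eq]; exact hx.2
      simpa [hxa] using hxb _ hmem
    have hdim₁ : 2 ≤ finrank F W₁ := by
      have e1 := Submodule.finrank_sup_add_finrank_inf_eq W (LinearMap.ker (B a))
      have e2 := Submodule.finrank_le (W ⊔ LinearMap.ker (B a))
      have e3 := LinearMap.finrank_range_add_finrank_ker (B a)
      have e4 := Submodule.finrank_le (LinearMap.range (B a))
      rw [Module.finrank_self] at e4
      show 2 ≤ finrank F ↥(W ⊓ LinearMap.ker (B a))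
      omega
    obtain ⟨c, hc, hcc⟩ := exists_symm_eq_mem B hS h2 W₁ hnd₁ hdim₁ (-1) (neg_ne_zero.mpr one_ne_zero)
    have hac : B a c = 0 := hc.2
    have hca : B c a = 0 := by rw [hS.eq]; exact hac
    set u := a + c with hu
    set v := (2 : F)⁻¹ • (a - c) with hv
    have huW : u ∈ W := W.add_mem haW hc.1
    have hvW : v ∈ W := W.smul_mem _ (W.sub_mem haW hc.1)
    have huu : B u u = 0 := by simp [hu, ha, hcc, hac, hca]
    have hvv : B v v = 0 := by simp [hv, ha, hcc, hac, hca]
    have huv : B u v = 1 := by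
      simp only [hu, hv, map_smul, map_sub, map_add, LinearMap.add_apply, smul_eq_mul, ha, hcc,
        hac, hca]
      field_simp
      norm_num
    have hu' := (mem_hypPerp B).mp huW
    have hv' := (mem_hypPerp B).mp hvW
    refine ⟨Fin.snoc p (u, v), fun x y => ?_⟩
    refine Fin.lastCases ?_ (fun x' => ?_) x <;> refine Fin.lastCases ?_ (fun y' => ?_) y <;>
      simp only [Fin.snoc_last, Fin.snoc_castSucc]
    · exact ⟨huu, hvv, by simpa using huv⟩
    · refine ⟨by rw [hS.eq]; exact (hu' y').1, by rw [hS.eq]; exact (hv' y').2, ?_⟩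
      rw [if_neg (Fin.castSucc_lt_last y').ne', hS.eq]
      exact (hu' y').2
    · refine ⟨(hu' x').1, (hv' x').2, ?_⟩
      rw [if_neg (Fin.castSucc_lt_last x').ne]
      exact (hv' x').1
    · refine ⟨(hp x' y').1, (hp x' y').2.1, ?_⟩
      rw [(hp x' y').2.2]
      simp only [Fin.castSucc_inj]

/-- In even dimension there is a maximal totally isotropic subspace of half the dimension, or a
basis of hyperbolic pairs and an anisotropic plane. -/
theorem exists_half_isotropic_or_minus [Finite F] (hS : B.IsSymm) (hB : B.Nondegenerate)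
    (h2 : (2 : F) ≠ 0) {k : ℕ} (hk : 1 ≤ k) (hn : finrank F V = 2 * k) :
    (∃ X : Submodule F V, finrank F X = k ∧ ∀ x ∈ X, ∀ y ∈ X, B x y = 0) ∨
    ∃ (b : Module.Basis ((Fin (k - 1) ⊕ Fin (k - 1)) ⊕ Fin 2) F V) (r s : F),
      ¬ IsSquare (-(r * s)) ∧ LinearMap.BilinForm.toMatrix b B =
        Matrix.fromBlocks (Matrix.fromBlocks 0 1 1 0) 0 0 (Matrix.diagonal ![r, s]) := by
  obtain ⟨p, hp⟩ := exists_hypFrame B hS hB h2 (k - 1) (by omega)
  set W := hypPerp B p with hW
  have hnd := hypPerp_nondeg B hS hB hp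
  have hdim : 2 ≤ finrank F W := by
    have := finrank_hypPerp_ge B p
    rw [hW]
    omega
  obtain ⟨a, haW, ha⟩ := exists_symm_eq_mem B hS h2 W hnd hdim 1 one_ne_zero
  obtain ⟨c, hcW, hac, hc⟩ : ∃ c ∈ W, B a c = 0 ∧ B c c ≠ 0 := by
    obtain ⟨⟨x, hx⟩, hx0⟩ : ∃ x : ↥(W ⊓ LinearMap.ker (B a)), x ≠ 0 := by
      haveI : Nontrivial ↥(W ⊓ LinearMap.ker (B a)) := by
        refine Module.nontrivial_of_finrank_pos (R := F) ?_
        have e1 := Submodule.finrank_sup_add_finrank_inf_eq W (LinearMap.ker (B a))
        have e2 := Submodule.finrank_le (W ⊔ LinearMap.ker (B a))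
        have e3 := LinearMap.finrank_range_add_finrank_ker (B a)
        have e4 := Submodule.finrank_le (LinearMap.range (B a))
        rw [Module.finrank_self] at e4
        omega
      exact exists_ne 0
    by_contra hall
    push Not at hall
    refine hx0 (Subtype.ext (hnd x hx.1 fun b hb => ?_))
    have hmem : b - B a b • a ∈ W := W.sub_mem hb (W.smul_mem _ haW)
    have hab : B a (b - B a b • a) = 0 := by simp [map_sub, map_smul, ha]
    have hax : B a x = 0 := hx.2
    have h := hall (x + (b - B a b • a)) (W.add_mem hx.1 hmem) (by rw [map_add, hab, hax, add_zero])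
    rw [map_add, map_add, LinearMap.add_apply, LinearMap.add_apply, hall x hx.1 hax,
      hall _ hmem hab, hS.eq (b - B a b • a) x, zero_add, add_zero, ← two_mul] at h
    have h' := (mul_eq_zero.mp h).resolve_left h2
    have hxa : B x a = 0 := by rw [hS.eq]; exact hax
    simpa [map_sub, map_smul, hxa] using h'
  set r := B a a
  set s := B c c
  have ha' := (mem_hypPerp B).mp haW
  have hc' := (mem_hypPerp B).mp hcW
  have hca : B c a = 0 := by rw [hS.eq]; exact hac
  by_cases hsq : IsSquare (-(r * s))
  · left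
    obtain ⟨t, ht⟩ := hsq
    set u := t • a + r • c with hu
    have huu : B u u = 0 := by
      simp only [hu, map_add, map_smul, LinearMap.add_apply, LinearMap.smul_apply, smul_eq_mul,
        hac, hca]
      linear_combination -r * ht
    have huW : u ∈ W := W.add_mem (W.smul_mem _ haW) (W.smul_mem _ hcW)
    have hu' := (mem_hypPerp B).mp huW
    have hu0 : u ≠ 0 := fun h => by
      have h1 := congrArg (B c) h
      simp only [hu, map_add, map_smul, smul_eq_mul, hca, mul_zero, zero_add, map_zero] at h1
      rcases mul_eq_zero.mp h1 with h' | h'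
      · exact one_ne_zero (ha.symm.trans h')
      · exact hc h'
    let e : Fin (k - 1) ⊕ Unit → V := Sum.elim (fun a => (p a).1) (fun _ => u)
    have hli : LinearIndependent F e := by
      rw [Fintype.linearIndependent_iff]
      intro g hg
      simp only [Fintype.sum_sum_type, e, Sum.elim_inl, Sum.elim_inr, Finset.univ_unique,
        PUnit.default_eq_unit, Finset.sum_singleton] at hg
      have h1 : ∀ i, g (Sum.inl i) = 0 := fun i => by
        have h21 : ∀ b, B (p i).2 (p b).1 = if b = i then 1 else 0 := fun b => by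
          rw [hS.eq, (hp b i).2.2]
        have h := congrArg (B (p i).2) hg
        simpa [map_sum, map_smul, h21, (hu' i).2] using h
      rintro (i | ⟨⟩)
      · exact h1 i
      · simp only [h1, zero_smul, Finset.sum_const_zero, zero_add] at hg
        exact (smul_eq_zero.mp hg).resolve_right hu0
    refine ⟨Submodule.span F (Set.range e), ?_, ?_⟩
    · rw [finrank_span_eq_card hli, Fintype.card_sum, Fintype.card_fin, Fintype.card_unit]
      omega
    · have hgen : ∀ i j, B (e i) (e j) = 0 := by
        rintro (i | ⟨⟩) (j | ⟨⟩) <;> simp only [e, Sum.elim_inl, Sum.elim_inr]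
        · exact (hp i j).1
        · exact (hu' i).1
        · rw [hS.eq]; exact (hu' j).1
        · exact huu
      intro x hx y hy
      have hx' : ∀ i, B (e i) y = 0 := fun i => by
        have hle : Submodule.span F (Set.range e) ≤ LinearMap.ker (B (e i)) := by
          rw [Submodule.span_le]
          rintro _ ⟨j, rfl⟩
          exact hgen i j
        exact hle hy
      have hle : Submodule.span F (Set.range e) ≤ LinearMap.ker (B y) := by
        rw [Submodule.span_le]
        rintro _ ⟨i, rfl⟩
        show B y (e i) = 0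
        rw [hS.eq, hx' i]
      rw [hS.eq]
      exact hle hx
  · right
    let e : (Fin (k - 1) ⊕ Fin (k - 1)) ⊕ Fin 2 → V :=
      Sum.elim (Sum.elim (fun a => (p a).1) (fun a => (p a).2)) ![a, c]
    have h21 : ∀ i b, B (p i).2 (p b).1 = if b = i then 1 else 0 := fun i b => by
      rw [hS.eq, (hp b i).2.2]
    have h1a : ∀ i, B a (p i).1 = 0 := fun i => by rw [hS.eq]; exact (ha' i).1
    have h2a : ∀ i, B a (p i).2 = 0 := fun i => by rw [hS.eq]; exact (ha' i).2
    have h1c : ∀ i, B c (p i).1 = 0 := fun i => by rw [hS.eq]; exact (hc' i).1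
    have h2c : ∀ i, B c (p i).2 = 0 := fun i => by rw [hS.eq]; exact (hc' i).2
    have hr0 : r ≠ 0 := ha.trans_ne one_ne_zero
    have hli : LinearIndependent F e := by
      rw [Fintype.linearIndependent_iff]
      intro g hg
      simp only [Fintype.sum_sum_type, e, Sum.elim_inl, Sum.elim_inr, Fin.sum_univ_two,
        Matrix.cons_val_zero, Matrix.cons_val_one] at hg
      rintro ((i | i) | i)
      · simpa [map_sum, map_smul, (hp i _).2.1, h21, (ha' i).2, (hc' i).2] using
          congrArg (B (p i).2) hg
      · simpa [map_sum, map_smul, (hp i _).1, (hp i _).2.2, (ha' i).1, (hc' i).1] using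
          congrArg (B (p i).1) hg
      · have e0 := congrArg (B a) hg
        have e1 := congrArg (B c) hg
        simp [map_sum, map_smul, h1a, h2a, hac, hca, h1c, h2c] at e0 e1
        fin_cases i
        · exact e0.resolve_right hr0
        · exact e1.resolve_right hc
    refine ⟨basisOfLinearIndependentOfCardEqFinrank' e hli (by
      simp only [Fintype.card_sum, Fintype.card_fin]; omega), r, s, hsq, ?_⟩
    ext i j
    rw [LinearMap.BilinForm.toMatrix_apply]
    simp only [coe_basisOfLinearIndependentOfCardEqFinrank']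
    rcases i with (i | i) | i <;> rcases j with (j | j) | j <;>
      simp only [e, Sum.elim_inl, Sum.elim_inr, Matrix.fromBlocks_apply₁₁, Matrix.fromBlocks_apply₁₂,
        Matrix.fromBlocks_apply₂₁, Matrix.fromBlocks_apply₂₂, Matrix.zero_apply, Matrix.one_apply]
    · exact (hp i j).1
    · exact (hp i j).2.2
    · fin_cases j
      · exact (ha' i).1
      · exact (hc' i).1
    · rw [h21]; simp only [eq_comm]
    · exact (hp i j).2.1
    · fin_cases j
      · exact (ha' i).2
      · exact (hc' i).2
    · fin_cases i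
      · exact h1a j
      · exact h1c j
    · fin_cases i
      · exact h2a j
      · exact h2c j
    · fin_cases i <;> fin_cases j
      · simp [Matrix.diagonal, r]
      · simpa [Matrix.diagonal] using hac
      · simpa [Matrix.diagonal] using hca
      · simp [Matrix.diagonal, s]

theorem det_fromBlocks_swap (k : ℕ) :
    (Matrix.fromBlocks (0 : Matrix (Fin k) (Fin k) F) (1 : Matrix (Fin k) (Fin k) F)
      (1 : Matrix (Fin k) (Fin k) F) 0).det = (-1) ^ k := by
  have h := det_plusGram (F := F) k
  simp only [plusMatrix, Matrix.fromBlocks_transpose, Matrix.fromBlocks_add, Matrix.transpose_zero,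
    Matrix.transpose_one, add_zero, zero_add] at h
  exact h

/-- A subspace of half the dimension that is totally isotropic makes `(-1)^k` times the
discriminant a square. -/
theorem isSquare_discr_of_half_isotropic (hS : B.IsSymm) {k : ℕ} (hn : finrank F V = 2 * k)
    (X : Submodule F V) (hX : finrank F X = k) (hX0 : ∀ x ∈ X, ∀ y ∈ X, B x y = 0)
    {ι : Type*} [Fintype ι] [DecidableEq ι] (b : Module.Basis ι F V) :
    IsSquare ((-1) ^ k * (LinearMap.BilinForm.toMatrix b B).det) := by
  obtain ⟨Y, hY⟩ := X.exists_isCompl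
  have hYd : finrank F Y = k := by
    have := Submodule.finrank_add_eq_of_isCompl hY
    omega
  let c : Module.Basis (Fin k ⊕ Fin k) F V :=
    ((Module.finBasisOfFinrankEq F X hX).prod (Module.finBasisOfFinrankEq F Y hYd)).map
      (Submodule.prodEquivOfIsCompl X Y hY)
  have hcl : ∀ i, c (Sum.inl i) ∈ X := fun i => by
    simp [c]
  set M := LinearMap.BilinForm.toMatrix c B with hM
  have hblock : M = Matrix.fromBlocks 0 M.toBlocks₁₂ M.toBlocks₁₂.transpose M.toBlocks₂₂ := by
    conv_lhs => rw [← Matrix.fromBlocks_toBlocks M]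
    congr 1
    · ext i j
      show M (Sum.inl i) (Sum.inl j) = 0
      rw [hM, LinearMap.BilinForm.toMatrix_apply]
      exact hX0 _ (hcl i) _ (hcl j)
    · ext i j
      show M (Sum.inr i) (Sum.inl j) = M (Sum.inl j) (Sum.inr i)
      rw [hM, LinearMap.BilinForm.toMatrix_apply, LinearMap.BilinForm.toMatrix_apply]
      exact hS.eq _ _
  have hdet : M.det = M.toBlocks₁₂.det * M.toBlocks₁₂.det * (-1) ^ k := by
    have hprod : M = Matrix.fromBlocks M.toBlocks₁₂ 0 M.toBlocks₂₂ M.toBlocks₁₂.transpose *
        Matrix.fromBlocks 0 1 1 0 := by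
      rw [Matrix.fromBlocks_multiply]
      simpa using hblock
    conv_lhs => rw [hprod, Matrix.det_mul, Matrix.det_fromBlocks_zero₁₂, Matrix.det_transpose,
      det_fromBlocks_swap]
  let e : ι ≃ Fin k ⊕ Fin k := b.indexEquiv c
  have hb : (LinearMap.BilinForm.toMatrix b B).det =
      (c.toMatrix (b.reindex e)).det * (c.toMatrix (b.reindex e)).det * M.det := by
    have h1 : (LinearMap.BilinForm.toMatrix b B).det =
        (LinearMap.BilinForm.toMatrix (b.reindex e) B).det := by
      rw [← Matrix.det_submatrix_equiv_self e.symm (LinearMap.BilinForm.toMatrix b B)]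
      congr 1
      ext i j
      simp [LinearMap.BilinForm.toMatrix_apply, Module.Basis.reindex_apply]
    rw [h1, ← LinearMap.BilinForm.toMatrix_mul_basis_toMatrix c (b.reindex e) B, Matrix.det_mul,
      Matrix.det_mul, Matrix.det_transpose, hM]
    ring
  refine ⟨(c.toMatrix (b.reindex e)).det * M.toBlocks₁₂.det * (-1) ^ k, ?_⟩
  rw [hb, hdet]
  ring

/-- The square class of the discriminant decides the Witt index in even dimension. -/
theorem half_isotropic_iff [Finite F] (hS : B.IsSymm) (hB : B.Nondegenerate) (h2 : (2 : F) ≠ 0)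
    {k : ℕ} (hk : 1 ≤ k) (hn : finrank F V = 2 * k) {ι : Type*} [Fintype ι] [DecidableEq ι]
    (b : Module.Basis ι F V) :
    (∃ X : Submodule F V, finrank F X = k ∧ ∀ x ∈ X, ∀ y ∈ X, B x y = 0) ↔
      IsSquare ((-1) ^ k * (LinearMap.BilinForm.toMatrix b B).det) := by
  constructor
  · rintro ⟨X, hX, hX0⟩
    exact isSquare_discr_of_half_isotropic B hS hn X hX hX0 b
  · intro hsq
    rcases exists_half_isotropic_or_minus B hS hB h2 hk hn with h | ⟨c, r, s, hrs, hc⟩
    · exact h
    exfalso
    apply hrs
    let e := b.indexEquiv c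
    have h1 : (LinearMap.BilinForm.toMatrix b B).det =
        (LinearMap.BilinForm.toMatrix (b.reindex e) B).det := by
      rw [← Matrix.det_submatrix_equiv_self e.symm (LinearMap.BilinForm.toMatrix b B)]
      congr 1
      ext i j
      simp [LinearMap.BilinForm.toMatrix_apply, Module.Basis.reindex_apply]
    set P := (c.toMatrix (b.reindex e)).det
    have hP : P ≠ 0 := by
      haveI := c.invertibleToMatrix (b.reindex e)
      exact (Matrix.isUnit_det_of_invertible _).ne_zero
    have h3 : (LinearMap.BilinForm.toMatrix b B).det = P * P * ((-1) ^ (k - 1) * (r * s)) := by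
      rw [h1, ← LinearMap.BilinForm.toMatrix_mul_basis_toMatrix c (b.reindex e) B, Matrix.det_mul,
        Matrix.det_mul, Matrix.det_transpose, hc, Matrix.det_fromBlocks_zero₂₁, det_fromBlocks_swap,
        Matrix.det_diagonal, Fin.prod_univ_two]
      simp only [Matrix.cons_val_zero, Matrix.cons_val_one]
      ring
    obtain ⟨t, ht⟩ := hsq
    obtain ⟨j, rfl⟩ : ∃ j, k = j + 1 := ⟨k - 1, by omega⟩
    rw [h3, Nat.add_sub_cancel, pow_succ] at ht
    have hj : ((-1 : F) ^ j) * (-1) ^ j = 1 := by rw [← mul_pow]; simp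
    refine ⟨t / P, ?_⟩
    field_simp
    linear_combination ht + r * s * P ^ 2 * hj

end Cfsg.Agent.Lib.Geometry
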