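import Mathlib.LinearAlgebra.BilinearForm.TensorProduct
import Mathlib.LinearAlgebra.TensorProduct.Basis
import Mathlib.LinearAlgebra.Matrix.Kronecker
import Cfsg.Agent.Lib.Geometry.SymmBasis

/-!
Discriminants: change of basis, isometry of forms with the same discriminant class, and
tensor products of bilinear forms.
-/

set_option autoImplicit false

namespace Cfsg.Agent.Lib.Geometry

open Module (finrank)
open scoped Kronecker

variable {F V : Type*} [Field F] [AddCommGroup V] [Module F V] [FiniteDimensional F V]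

/-- Changing the basis multiplies the discriminant by a non-zero square. -/
theorem det_toMatrix_basis_change (B : LinearMap.BilinForm F V) {ι κ : Type*} [Fintype ι]
    [DecidableEq ι] [Fintype κ] [DecidableEq κ] (b : Module.Basis ι F V) (c : Module.Basis κ F V) :
    ∃ P : F, P ≠ 0 ∧ (LinearMap.BilinForm.toMatrix b B).det =
      P * P * (LinearMap.BilinForm.toMatrix c B).det := by
  let e := b.indexEquiv c
  haveI := c.invertibleToMatrix (b.reindex e)
  refine ⟨(c.toMatrix (b.reindex e)).det, (Matrix.isUnit_det_of_invertible _).ne_zero, ?_⟩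
  have h1 : (LinearMap.BilinForm.toMatrix b B).det =
      (LinearMap.BilinForm.toMatrix (b.reindex e) B).det := by
    rw [← Matrix.det_submatrix_equiv_self e.symm (LinearMap.BilinForm.toMatrix b B)]
    congr 1
    ext i j
    simp [LinearMap.BilinForm.toMatrix_apply, Module.Basis.reindex_apply]
  rw [h1, ← LinearMap.BilinForm.toMatrix_mul_basis_toMatrix c (b.reindex e) B, Matrix.det_mul,
    Matrix.det_mul, Matrix.det_transpose]
  ring

/-- Symmetric forms of the same dimension and discriminant class are isometric. -/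
theorem exists_isometry_of_isSquare_det_mul [Finite F] (h2 : (2 : F) ≠ 0)
    (B B' : LinearMap.BilinForm F V) (hS : B.IsSymm) (hS' : B'.IsSymm) (hB : B.Nondegenerate)
    (hB' : B'.Nondegenerate) {ι : Type*} [Fintype ι] [DecidableEq ι] (c : Module.Basis ι F V)
    (h : IsSquare ((LinearMap.BilinForm.toMatrix c B).det *
      (LinearMap.BilinForm.toMatrix c B').det)) :
    ∃ g : V ≃ₗ[F] V, ∀ u v, B' (g u) (g v) = B u v := by
  rcases Nat.eq_zero_or_pos (finrank F V) with h0 | hpos
  · haveI := Module.finrank_zero_iff.mp h0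
    exact ⟨LinearEquiv.refl F V, fun u v => by simp [Subsingleton.elim u 0]⟩
  obtain ⟨n, hn⟩ := Nat.exists_eq_succ_of_ne_zero hpos.ne'
  obtain ⟨α, hα⟩ := FiniteField.exists_nonsquare
    (F := F) (fun hc => h2 (by haveI := (ringChar.eq_iff).mp hc; exact CharTwo.two_eq_zero))
  obtain ⟨b, hb0, hb1, hb2⟩ := exists_orth_basis_one_or_nonsquare B hS hB h2 hn α hα
  obtain ⟨b', hb0', hb1', hb2'⟩ := exists_orth_basis_one_or_nonsquare B' hS' hB' h2 hn α hα
  set d := B (b (Fin.last n)) (b (Fin.last n)) with hd
  set d' := B' (b' (Fin.last n)) (b' (Fin.last n)) with hd'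
  have hdet : ∀ (C : LinearMap.BilinForm F V) (e : Module.Basis (Fin (n + 1)) F V),
      (∀ i j, i ≠ j → C (e i) (e j) = 0) → (∀ i, i ≠ Fin.last n → C (e i) (e i) = 1) →
      (LinearMap.BilinForm.toMatrix e C).det = C (e (Fin.last n)) (e (Fin.last n)) := by
    intro C e hC hC1
    have hdiag : LinearMap.BilinForm.toMatrix e C = Matrix.diagonal fun i => C (e i) (e i) := by
      ext i j
      rw [LinearMap.BilinForm.toMatrix_apply]
      by_cases hij : i = j
      · subst hij; simp
      · simp [hij, hC i j hij]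
    rw [hdiag, Matrix.det_diagonal, Finset.prod_eq_single (Fin.last n) (fun i _ hi => hC1 i hi)
      (fun hi => absurd (Finset.mem_univ _) hi)]
  have hdd : d = d' := by
    obtain ⟨P, hP, hPe⟩ := det_toMatrix_basis_change B c b
    obtain ⟨P', hP', hPe'⟩ := det_toMatrix_basis_change B' c b'
    rw [hdet B b hb0 hb1] at hPe
    rw [hdet B' b' hb0' hb1'] at hPe'
    rw [hPe, hPe'] at h
    obtain ⟨r, hr⟩ := h
    have hsq : IsSquare (d * d') := by
      refine ⟨r / (P * P'), ?_⟩
      field_simp
      linear_combination hr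
    rcases hb2 with h1 | h1 <;> rcases hb2' with h1' | h1' <;> rw [h1, h1'] at hsq ⊢
    · exact absurd (by simpa using hsq) hα
    · exact absurd (by simpa using hsq) hα
  refine ⟨b.equiv b' (Equiv.refl _), fun u v => ?_⟩
  have hcomp : B'.comp (b.equiv b' (Equiv.refl _)).toLinearMap (b.equiv b' (Equiv.refl _)).toLinearMap = B := by
    refine LinearMap.BilinForm.ext_basis b fun i j => ?_
    simp only [LinearMap.BilinForm.comp_apply, LinearEquiv.coe_coe, Module.Basis.equiv_apply,
      Equiv.refl_apply]
    by_cases hij : i = j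
    · subst hij
      by_cases hi : i = Fin.last n
      · subst hi; exact hdd.symm
      · rw [hb1 i hi, hb1' i hi]
    · rw [hb0 i j hij, hb0' i j hij]
  exact LinearMap.congr_fun (LinearMap.congr_fun hcomp u) v

variable {U W : Type*} [AddCommGroup U] [Module F U] [AddCommGroup W] [Module F W]

theorem toMatrix_tmul (B₁ : LinearMap.BilinForm F U) (B₂ : LinearMap.BilinForm F W) {ι κ : Type*}
    [Fintype ι] [DecidableEq ι] [Fintype κ] [DecidableEq κ] (b : Module.Basis ι F U)
    (c : Module.Basis κ F W) :
    LinearMap.BilinForm.toMatrix (b.tensorProduct c) (B₁.tmul B₂) =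
      LinearMap.BilinForm.toMatrix b B₁ ⊗ₖ LinearMap.BilinForm.toMatrix c B₂ := by
  ext ⟨i, a⟩ ⟨j, d⟩
  simp [LinearMap.BilinForm.toMatrix_apply, Module.Basis.tensorProduct_apply, mul_comm]

theorem det_toMatrix_tmul (B₁ : LinearMap.BilinForm F U) (B₂ : LinearMap.BilinForm F W)
    {ι κ : Type*} [Fintype ι] [DecidableEq ι] [Fintype κ] [DecidableEq κ]
    (b : Module.Basis ι F U) (c : Module.Basis κ F W) :
    (LinearMap.BilinForm.toMatrix (b.tensorProduct c) (B₁.tmul B₂)).det =
      (LinearMap.BilinForm.toMatrix b B₁).det ^ Fintype.card κ *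
        (LinearMap.BilinForm.toMatrix c B₂).det ^ Fintype.card ι := by
  rw [toMatrix_tmul, Matrix.det_kronecker]

theorem tmul_nondegenerate [FiniteDimensional F U] [FiniteDimensional F W]
    {B₁ : LinearMap.BilinForm F U} {B₂ : LinearMap.BilinForm F W}
    (h₁ : B₁.Nondegenerate) (h₂ : B₂.Nondegenerate) : (B₁.tmul B₂).Nondegenerate := by
  refine (LinearMap.BilinForm.nondegenerate_iff_det_ne_zero
    ((Module.finBasis F U).tensorProduct (Module.finBasis F W))).mpr ?_
  rw [det_toMatrix_tmul]
  exact mul_ne_zero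
    (pow_ne_zero _ ((LinearMap.BilinForm.nondegenerate_iff_det_ne_zero _).mp h₁))
    (pow_ne_zero _ ((LinearMap.BilinForm.nondegenerate_iff_det_ne_zero _).mp h₂))

end Cfsg.Agent.Lib.Geometry
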