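import Cfsg.Agent.Lib.Geometry.OrthTransfer
import Cfsg.Agent.Lib.Geometry.GroupAux

/-!
Reflections in vectors of one norm class generate a subgroup of index two.
-/

set_option autoImplicit false

namespace Cfsg.Agent.Lib.Geometry

open QuadraticMap (polarBilin)
open Module (finrank)

attribute [-simp] QuadraticMap.polarBilin_apply_apply

variable {F V : Type*} [Field F] [AddCommGroup V] [Module F V] (Q : QuadraticForm F V)

/-- The moved space of a product. -/
theorem movedSpace_mul_le (g h : quadIsometries Q) :
    movedSpace Q (g * h) ≤ movedSpace Q g ⊔ movedSpace Q h := by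
  rintro _ ⟨x, rfl⟩
  have e : oneSub Q (g * h) x = oneSub Q g ((h : V ≃ₗ[F] V) x) + oneSub Q h x := by
    rw [oneSub_apply, oneSub_apply, oneSub_apply]
    show x - (g : V ≃ₗ[F] V) ((h : V ≃ₗ[F] V) x) = _
    abel
  rw [e]
  exact Submodule.add_mem_sup ⟨_, rfl⟩ ⟨_, rfl⟩

theorem movedSpace_refl_le (v : V) : movedSpace Q (refl Q v) ≤ Submodule.span F {v} := by
  rintro _ ⟨x, rfl⟩
  rw [oneSub_apply, refl_apply, sub_sub_cancel]
  exact Submodule.smul_mem _ _ (Submodule.mem_span_singleton_self v)

/-- `a x² + b y²` takes every value over a finite field of odd order. -/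
theorem exists_sq_add_sq_eq [Finite F] (h2 : (2 : F) ≠ 0) {a b : F} (ha : a ≠ 0) (hb : b ≠ 0)
    (c : F) : ∃ x y : F, a * x ^ 2 + b * y ^ 2 = c := by
  haveI := Fintype.ofFinite F
  obtain ⟨x, y, hxy⟩ := FiniteField.exists_root_sum_quadratic
    (f := Polynomial.C a * Polynomial.X ^ 2)
    (g := Polynomial.C b * Polynomial.X ^ 2 - Polynomial.C c)
    (Polynomial.degree_C_mul_X_pow 2 ha)
    (by
      rw [Polynomial.degree_sub_eq_left_of_degree_lt, Polynomial.degree_C_mul_X_pow 2 hb]
      · rfl
      · rw [Polynomial.degree_C_mul_X_pow 2 hb]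
        exact lt_of_le_of_lt Polynomial.degree_C_le (by decide : (0 : WithBot ℕ) < (2 : ℕ)))
    (FiniteField.odd_card_of_char_ne_two fun h => h2 (by
      have h3 : ((2 : ℕ) : F) = 0 := by rw [← h]; exact ringChar.Nat.cast_ringChar
      exact_mod_cast h3))
  refine ⟨x, y, ?_⟩
  simp only [Polynomial.eval_mul, Polynomial.eval_C, Polynomial.eval_pow, Polynomial.eval_X,
    Polynomial.eval_sub] at hxy
  linear_combination hxy

variable [FiniteDimensional F V]

/-- In a large space there is a vector of given norm orthogonal to two given vectors. -/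
theorem exists_quad_eq_orthogonal [Finite F] (hQ : (polarBilin Q).Nondegenerate)
    (h2 : (2 : F) ≠ 0) (hn : 6 ≤ finrank F V) (w w' : V) (c : F) :
    ∃ x, polarBilin Q x w = 0 ∧ polarBilin Q x w' = 0 ∧ Q x = c := by
  let U : Submodule F V := LinearMap.ker (polarBilin Q w) ⊓ LinearMap.ker (polarBilin Q w')
  have hker : ∀ z, finrank F V ≤ finrank F (LinearMap.ker (polarBilin Q z)) + 1 := fun z => by
    have e3 := LinearMap.finrank_range_add_finrank_ker (polarBilin Q z)
    have e4 := Submodule.finrank_le (LinearMap.range (polarBilin Q z))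
    rw [Module.finrank_self] at e4
    omega
  have hinf : ∀ S T : Submodule F V, finrank F V ≤ finrank F T + 1 →
      finrank F S ≤ finrank F ↥(S ⊓ T) + 1 := fun S T hT => by
    have e1 := Submodule.finrank_sup_add_finrank_inf_eq S T
    have e2 := Submodule.finrank_le (S ⊔ T)
    omega
  have hU : finrank F V ≤ finrank F U + 2 := by
    have := hinf (LinearMap.ker (polarBilin Q w)) (LinearMap.ker (polarBilin Q w')) (hker w')
    have := hker w
    show _ ≤ finrank F ↥(LinearMap.ker (polarBilin Q w) ⊓ LinearMap.ker (polarBilin Q w')) + 2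
    omega
  have hts : ∀ T : Submodule F V, (∀ z ∈ T, Q z = 0) →
      T ≤ LinearMap.BilinForm.orthogonal (polarBilin Q) T := fun T hT p hp r hr => by
    show polarBilin Q r p = 0
    have h := quad_add Q r p
    rw [hT _ (T.add_mem hr hp), hT r hr, hT p hp, zero_add, zero_add] at h
    exact h.symm
  have horth := fun T => LinearMap.BilinForm.finrank_orthogonal hQ T
  obtain ⟨a, haU, ha⟩ : ∃ a ∈ U, Q a ≠ 0 := by
    by_contra hall
    push Not at hall
    have h := Submodule.finrank_mono (hts U hall)
    rw [horth] at h
    omega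
  obtain ⟨b, hbU, hab, hb⟩ : ∃ b ∈ U, polarBilin Q a b = 0 ∧ Q b ≠ 0 := by
    by_contra hall
    push Not at hall
    let T : Submodule F V := U ⊓ LinearMap.ker (polarBilin Q a)
    have hTts : ∀ z ∈ T, Q z = 0 := fun z hz => hall z hz.1 hz.2
    have hle : T ≤ LinearMap.BilinForm.orthogonal (polarBilin Q) U := by
      intro t ht u hu
      show polarBilin Q u t = 0
      have haa : polarBilin Q a a ≠ 0 := by rw [quad_polar_self]; exact mul_ne_zero h2 ha
      set s := polarBilin Q a u / polarBilin Q a a
      have hmem : u - s • a ∈ T := ⟨U.sub_mem hu (U.smul_mem s haU), by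
        show polarBilin Q a (u - s • a) = 0
        rw [map_sub, map_smul, smul_eq_mul, div_mul_cancel₀ _ haa, sub_self]⟩
      have h := hts T hTts ht (u - s • a) hmem
      have h' : polarBilin Q (u - s • a) t = 0 := h
      have hat : polarBilin Q a t = 0 := ht.2
      rw [map_sub, map_smul, LinearMap.sub_apply, LinearMap.smul_apply, hat, smul_zero,
        sub_zero] at h'
      exact h'
    have h := Submodule.finrank_mono hle
    rw [horth] at h
    have h3 := hinf U (LinearMap.ker (polarBilin Q a)) (hker a)
    change finrank F U ≤ finrank F T + 1 at h3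
    omega
  obtain ⟨x, y, hxy⟩ := exists_sq_add_sq_eq h2 ha hb c
  have haw : polarBilin Q w a = 0 := haU.1
  have haw' : polarBilin Q w' a = 0 := haU.2
  have hbw : polarBilin Q w b = 0 := hbU.1
  have hbw' : polarBilin Q w' b = 0 := hbU.2
  refine ⟨x • a + y • b, ?_, ?_, ?_⟩
  · rw [quad_polar_comm, map_add, map_smul, map_smul, haw, hbw, smul_zero, smul_zero, add_zero]
  · rw [quad_polar_comm, map_add, map_smul, map_smul, haw', hbw', smul_zero, smul_zero, add_zero]
  · rw [quad_add, quad_smul, quad_smul, map_smul, LinearMap.map_smul₂, hab, smul_zero,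
      smul_zero, add_zero]
    linear_combination hxy

/-- The reflections of one class generate the kernel of a twist of the spinor norm. -/
theorem closure_class_reflections_index [Fintype F] (hQ : (polarBilin Q).Nondegenerate)
    (h2 : (2 : F) ≠ 0) (hn : 2 ≤ finrank F V) (heven : Even (finrank F V))
    (h43 : ¬ (finrank F V = 4 ∧ Fintype.card F = 3)) (c : F) (hc : c ≠ 0) :
    (Subgroup.closure {g : quadIsometries Q | ∃ (v : V) (t : F), t ≠ 0 ∧ Q v = c * t ^ 2 ∧
      g = refl Q v}).index = 2 := by
  classical
  set K := Subgroup.closure {g : quadIsometries Q | ∃ (v : V) (t : F), t ≠ 0 ∧ Q v = c * t ^ 2 ∧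
      g = refl Q v} with hK
  haveI hKn : K.Normal := closure_normal_of_conj_mem (by
    rintro _ ⟨v, t, ht, hv, rfl⟩ g
    exact ⟨(g : V ≃ₗ[F] V) v, t, ht, by rw [mem_quadIsometries.mp g.2, hv], refl_conj Q g v⟩)
  have hexc : (∃ a : F, a ≠ 0 ∧ a ≠ 1) ∨ finrank F V ≠ 4 := two_ne_zero_exc h2
  have htop := closure_refl_eq_top Q hQ hexc
  -- membership of a class reflection
  have hclass : ∀ v, Q v ≠ 0 → sqClass (Q v) = sqClass c → refl Q v ∈ K := by
    intro v hv hs
    have h1 : sqClass (Q v / c) = 1 := by
      rw [div_eq_mul_inv, sqClass_mul hv (inv_ne_zero hc), sqClass_inv, hs, Int.units_mul_self]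
    obtain ⟨t, ht⟩ := sqClass_eq_one_iff.mp h1
    refine Subgroup.subset_closure ⟨v, t, ?_, ?_, rfl⟩
    · rintro rfl
      rw [mul_zero, div_eq_zero_iff] at ht
      exact ht.elim hv hc
    · field_simp at ht
      linear_combination ht
  obtain ⟨d, hd0, hdc⟩ : ∃ d : F, d ≠ 0 ∧ sqClass d = - sqClass c := by
    obtain ⟨α, hα⟩ := FiniteField.exists_nonsquare (F := F) (fun h => h2 (by
      have h3 : ((2 : ℕ) : F) = 0 := by rw [← h]; exact ringChar.Nat.cast_ringChar
      exact_mod_cast h3))
    have hα0 : α ≠ 0 := by
      rintro rfl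
      exact hα IsSquare.zero
    exact ⟨α * c, mul_ne_zero hα0 hc, by
      rw [sqClass_mul hα0 hc, sqClass_eq_neg_one_iff.mpr hα, neg_one_mul]⟩
  -- two vectors of the other norm spanning a non-degenerate plane
  have hplane : ∀ w w', Q w = d → Q w' = d → polarBilin Q w w' ^ 2 ≠ 4 * d ^ 2 →
      refl Q w * refl Q w' ∈ K := by
    intro w w' hw hw' hf
    set f := polarBilin Q w w' with hfdef
    set e := w' - (f / (2 * d)) • w with he
    have hwe : polarBilin Q w e = 0 := by
      rw [he, map_sub, map_smul, smul_eq_mul, quad_polar_self, hw, ← hfdef]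
      field_simp
      ring
    have hQe : Q e ≠ 0 := by
      have : Q e * (4 * d) = 4 * d ^ 2 - f ^ 2 := by
        rw [he, quad_sub, quad_smul, map_smul, smul_eq_mul, quad_polar_comm Q w' w, hw, hw', ← hfdef]
        field_simp
        ring
      intro h0
      rw [h0, zero_mul] at this
      exact hf (by linear_combination this)
    obtain ⟨x, y, hxy⟩ := exists_sq_add_sq_eq h2 hd0 hQe c
    set z := x • w + y • e with hz
    have hQz : Q z = c := by
      rw [hz, quad_add, quad_smul, quad_smul, map_smul, LinearMap.map_smul₂, hwe, hw, smul_zero,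
        smul_zero, add_zero]
      linear_combination hxy
    have hz0 : Q z ≠ 0 := by rw [hQz]; exact hc
    set g := refl Q z * (refl Q w * refl Q w') with hg
    have hD : dickson Q g = -1 := by
      rw [hg, dickson_refl_mul Q hQ _ hz0, dickson_refl_mul Q hQ _ (by rw [hw]; exact hd0),
        ← mul_one (refl Q w'), dickson_refl_mul Q hQ _ (by rw [hw']; exact hd0), dickson_one,
        neg_neg]
    have hsp : spinor Q g = sqClass c := by
      rw [hg, spinor_refl_mul Q hQ _ hz0, spinor_refl_mul Q hQ _ (by rw [hw]; exact hd0),
        ← mul_one (refl Q w'), spinor_refl_mul Q hQ _ (by rw [hw']; exact hd0), spinor_one Q hQ,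
        mul_one, hQz, hw, hw', Int.units_mul_self, mul_one]
    have hmle : movedSpace Q g ≤ Submodule.span F ({w, w'} : Set V) := by
      refine (movedSpace_mul_le Q _ _).trans (sup_le ?_ ((movedSpace_mul_le Q _ _).trans
        (sup_le ?_ ?_)))
      · refine (movedSpace_refl_le Q z).trans ((Submodule.span_singleton_le_iff_mem _ _).mpr ?_)
        rw [hz, he]
        refine Submodule.add_mem _ (Submodule.smul_mem _ _ (Submodule.subset_span (by simp)))
          (Submodule.smul_mem _ _ (Submodule.sub_mem _ (Submodule.subset_span (by simp))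
            (Submodule.smul_mem _ _ (Submodule.subset_span (by simp)))))
      · exact (movedSpace_refl_le Q w).trans (Submodule.span_mono (by simp))
      · exact (movedSpace_refl_le Q w').trans (Submodule.span_mono (by simp))
    have hdim : finrank F (movedSpace Q g) ≤ 2 := by
      refine (Submodule.finrank_mono hmle).trans ?_
      refine (finrank_span_le_card ({w, w'} : Set V)).trans ?_
      rw [Set.toFinset_insert, Set.toFinset_singleton]
      exact Finset.card_le_two
    have hodd : Odd (finrank F (movedSpace Q g)) := by
      rcases Nat.even_or_odd (finrank F (movedSpace Q g)) with h | h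
      · rw [dickson, h.neg_one_pow] at hD
        exact absurd hD (by decide)
      · exact h
    have h1 : finrank F (movedSpace Q g) = 1 := by
      obtain ⟨k, hk⟩ := hodd
      omega
    obtain ⟨u, hu, hQu⟩ : ∃ u ∈ movedSpace Q g, Q u ≠ 0 := by
      by_contra hall
      push Not at hall
      have := two_le_finrank_moved_of_singular Q hQ g (by omega) hall
      omega
    have h0 := finrank_moved_refl_mul_of_mem Q g hu hQu
    have hone := eq_one_of_finrank_moved_eq_zero Q (refl Q u * g) (by omega)
    have hgu : g = refl Q u := by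
      calc g = refl Q u * (refl Q u * g) := by rw [← mul_assoc, refl_mul_self, one_mul]
        _ = refl Q u := by rw [hone, mul_one]
    have hsu : sqClass (Q u) = sqClass c := by
      rw [← hsp, hgu, ← mul_one (refl Q u), spinor_refl_mul Q hQ 1 hQu, spinor_one Q hQ, mul_one]
    have e : refl Q w * refl Q w' = refl Q z * refl Q u := by
      rw [← hgu, hg, ← mul_assoc (refl Q z) (refl Q z), refl_mul_self, one_mul]
    rw [e]
    exact K.mul_mem (hclass z hz0 (by rw [hQz])) (hclass u hQu hsu)
  have hpair : ∀ w w', Q w = d → Q w' = d → refl Q w * refl Q w' ∈ K := by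
    intro w w' hw hw'
    by_cases hf : polarBilin Q w w' ^ 2 = 4 * d ^ 2
    swap
    · exact hplane w w' hw hw' hf
    -- normalise the sign
    obtain ⟨w₁, hw₁, hf₁, hr⟩ : ∃ w₁, Q w₁ = d ∧ polarBilin Q w w₁ = 2 * d ∧
        refl Q w₁ = refl Q w' := by
      have h4 : (polarBilin Q w w' - 2 * d) * (polarBilin Q w w' + 2 * d) = 0 := by
        linear_combination hf
      rcases mul_eq_zero.mp h4 with h | h
      · exact ⟨w', hw', sub_eq_zero.mp h, rfl⟩
      · refine ⟨(-1 : F) • w', by rw [quad_smul, hw']; ring, ?_,
          refl_smul Q w' (neg_ne_zero.mpr one_ne_zero)⟩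
        rw [map_smul, smul_eq_mul]
        linear_combination -h
    rw [← hr]
    set e := w₁ - w with he
    by_cases he0 : e = 0
    · rw [sub_eq_zero] at he0
      rw [he0, refl_mul_self]
      exact K.one_mem
    have hQe : Q e = 0 := by
      rw [he, quad_sub, hw₁, hw, quad_polar_comm Q w₁ w, hf₁]; ring
    have hwe : polarBilin Q w e = 0 := by
      rw [he, map_sub, hf₁, quad_polar_self, hw, sub_self]
    have hne : e ∉ Submodule.span F {w} := fun h => by
      obtain ⟨s, hs⟩ := Submodule.mem_span_singleton.mp h
      rw [← hs, quad_smul, hw] at hQe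
      rcases mul_eq_zero.mp hQe with h' | h'
      · exact he0 (by rw [← hs, mul_self_eq_zero.mp h', zero_smul])
      · exact hd0 h'
    obtain ⟨e', he'0, hee', he'w⟩ := exists_quad_partner Q hQ (Submodule.span F {w}) e hQe hne
      (fun z hz => by
        obtain ⟨s, rfl⟩ := Submodule.mem_span_singleton.mp hz
        rw [map_smul, quad_polar_comm, hwe, smul_zero])
    have he'w' : polarBilin Q w e' = 0 := by
      rw [quad_polar_comm]; exact he'w w (Submodule.mem_span_singleton_self w)
    -- an intermediate vector
    obtain ⟨x, hx, hxw, hxw₁⟩ : ∃ x, Q x = d ∧ polarBilin Q w x ^ 2 ≠ 4 * d ^ 2 ∧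
        polarBilin Q x w₁ ^ 2 ≠ 4 * d ^ 2 := by
      have h4d : (4 : F) * d ^ 2 ≠ 0 := by
        refine mul_ne_zero ?_ (pow_ne_zero _ hd0)
        rw [show (4 : F) = 2 * 2 by norm_num]
        exact mul_ne_zero h2 h2
      by_cases h6 : 6 ≤ finrank F V
      · obtain ⟨x, hx1, hx2, hx3⟩ := exists_quad_eq_orthogonal Q hQ h2 h6 w w₁ d
        refine ⟨x, hx3, ?_, ?_⟩
        · rw [quad_polar_comm, hx1, zero_pow two_ne_zero]; exact h4d.symm
        · rw [hx2, zero_pow two_ne_zero]; exact h4d.symm
      · -- then the dimension is four and there are at least five field elements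
        have h3 : 3 ≤ finrank F V := by
          have hli : LinearIndependent F ![w, e, e'] := by
            rw [Fintype.linearIndependent_iff]
            intro g hg
            simp only [Fin.sum_univ_three, Matrix.cons_val_zero, Matrix.cons_val_one,
              Matrix.cons_val] at hg
            have hee : polarBilin Q e e = 0 := by rw [quad_polar_self, hQe, mul_zero]
            have he'e' : polarBilin Q e' e' = 0 := by rw [quad_polar_self, he'0, mul_zero]
            have hww : polarBilin Q w w ≠ 0 := by
              rw [quad_polar_self, hw]; exact mul_ne_zero h2 hd0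
            have a1 := congrArg (polarBilin Q w) hg
            have a2 := congrArg (polarBilin Q e) hg
            have a3 := congrArg (polarBilin Q e') hg
            simp only [map_add, map_smul, smul_eq_mul, map_zero, hwe, he'w', hee', hee, he'e',
              quad_polar_comm Q e w, quad_polar_comm Q e' w, quad_polar_comm Q e' e, mul_zero,
              add_zero, zero_add, mul_one] at a1 a2 a3
            intro i
            fin_cases i
            · exact (mul_eq_zero.mp a1).resolve_right hww
            · exact a3
            · exact a2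
          simpa using hli.fintype_card_le_finrank
        have h4 : finrank F V = 4 := by
          obtain ⟨k, hk⟩ := heven
          omega
        have hq : 3 < Fintype.card F := by
          have h1 := FiniteField.odd_card_of_char_ne_two (F := F) (fun h => h2 (by
            have h3 : ((2 : ℕ) : F) = 0 := by rw [← h]; exact ringChar.Nat.cast_ringChar
            exact_mod_cast h3))
          have h1' : 1 < Fintype.card F := Fintype.one_lt_card
          have h1'' : Fintype.card F ≠ 3 := fun h => h43 ⟨h4, h⟩
          omega
        obtain ⟨r, -, hr⟩ := Finset.exists_mem_notMem_of_card_lt_card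
          (s := ({0, 2 * d, -(2 * d)} : Finset F)) (t := Finset.univ)
          (lt_of_le_of_lt Finset.card_le_three (by rwa [Finset.card_univ]))
        simp only [Finset.mem_insert, Finset.mem_singleton, not_or] at hr
        refine ⟨(d / r) • e + r • e', ?_, ?_, ?_⟩
        · rw [quad_add, quad_smul, quad_smul, hQe, he'0, map_smul, LinearMap.map_smul₂, hee']
          have := hr.1
          simp only [smul_eq_mul]
          field_simp
          ring
        · rw [map_add, map_smul, map_smul, hwe, he'w', smul_zero, smul_zero, add_zero,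
            zero_pow two_ne_zero]
          exact h4d.symm
        · have hw₁e : w₁ = w + e := by rw [he, add_sub_cancel]
          have hval : polarBilin Q ((d / r) • e + r • e') w₁ = r := by
            rw [quad_polar_comm, hw₁e]
            simp only [map_add, map_smul, LinearMap.add_apply, smul_eq_mul, hwe, he'w', hee',
              quad_polar_self, hQe]
            ring
          rw [hval]
          intro h
          have : (r - 2 * d) * (r + 2 * d) = 0 := by linear_combination h
          rcases mul_eq_zero.mp this with h' | h'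
          · exact hr.2.1 (sub_eq_zero.mp h')
          · exact hr.2.2 (eq_neg_of_add_eq_zero_left h')
    have := K.mul_mem (hplane w x hw hx hxw) (hplane x w₁ hx hw₁ hxw₁)
    rwa [mul_assoc (refl Q w), ← mul_assoc (refl Q x), refl_mul_self, one_mul] at this
  obtain ⟨w, hw⟩ := exists_quad_eq Q hQ h2 hn d hd0
  -- every isometry is in `K` or in `refl w * K`
  have hcover : ∀ g : quadIsometries Q, g ∈ K ∨ refl Q w * g ∈ K := by
    have hrefl : ∀ v, Q v ≠ 0 → refl Q v ∈ K ∨ refl Q w * refl Q v ∈ K := by
      intro v hv
      by_cases hs : sqClass (Q v) = sqClass c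
      · exact Or.inl (hclass v hv hs)
      · right
        have hsd : sqClass (d / Q v) = 1 := by
          rw [div_eq_mul_inv, sqClass_mul hd0 (inv_ne_zero hv), sqClass_inv, hdc]
          rcases Int.units_eq_one_or (sqClass (Q v)) with h | h <;>
            rcases Int.units_eq_one_or (sqClass c) with h' | h' <;>
            rw [h, h'] at hs ⊢ <;> first | exact absurd rfl hs | decide
        obtain ⟨t, ht⟩ := sqClass_eq_one_iff.mp hsd
        have ht0 : t ≠ 0 := by
          rintro rfl
          rw [mul_zero, div_eq_zero_iff] at ht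
          exact ht.elim hd0 hv
        rw [← refl_smul Q v ht0]
        refine hpair w (t • v) hw ?_
        rw [quad_smul, ← ht, div_mul_cancel₀ _ hv]
    have hwinv : (refl Q w)⁻¹ = refl Q w := inv_eq_of_mul_eq_one_right (refl_mul_self Q w)
    have step : ∀ v, Q v ≠ 0 → ∀ y, (y ∈ K ∨ refl Q w * y ∈ K) →
        (refl Q v * y ∈ K ∨ refl Q w * (refl Q v * y) ∈ K) := by
      intro v hv y hy
      have hmove : ∀ k, k ∈ K → refl Q w * k * refl Q w ∈ K := fun k hk => by
        have := hKn.conj_mem k hk (refl Q w)
        rwa [hwinv] at this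
      rcases hrefl v hv with h | h <;> rcases hy with h' | h'
      · exact Or.inl (K.mul_mem h h')
      · right
        have := K.mul_mem (hmove _ h) h'
        rwa [show refl Q w * refl Q v * refl Q w * (refl Q w * y) =
          refl Q w * (refl Q v * y) by
            rw [mul_assoc (refl Q w * refl Q v), ← mul_assoc (refl Q w) (refl Q w), refl_mul_self,
              one_mul, mul_assoc]] at this
      · right
        rw [← mul_assoc]
        exact K.mul_mem h h'
      · left
        have := K.mul_mem (hmove _ h) h'
        rwa [show refl Q w * (refl Q w * refl Q v) * refl Q w * (refl Q w * y) = refl Q v * y by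
            rw [← mul_assoc (refl Q w) (refl Q w), refl_mul_self, one_mul,
              mul_assoc (refl Q v), ← mul_assoc (refl Q w) (refl Q w), refl_mul_self,
              one_mul]] at this
    intro g
    have hgm := htop ▸ Subgroup.mem_top g
    induction hgm using Subgroup.closure_induction_left with
    | one => exact Or.inl K.one_mem
    | mul_left x hx y _ ih =>
      obtain ⟨v, hv, rfl⟩ := hx
      exact step v hv y ih
    | inv_mul_cancel x hx y _ ih =>
      obtain ⟨v, hv, rfl⟩ := hx
      rw [inv_eq_of_mul_eq_one_right (refl_mul_self Q v)]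
      exact step v hv y ih
  -- a homomorphism killing `K` but not `refl w`
  let χ : quadIsometries Q →* ℤˣ := spinorHom Q hQ htop *
    (signHom (sqClass c) (Int.units_mul_self _)).comp (dicksonHom Q hQ htop)
  have hχ : ∀ v, Q v ≠ 0 → χ (refl Q v) = sqClass (Q v) * sqClass c := by
    intro v hv
    show spinorHom Q hQ htop (refl Q v) *
      signHom (sqClass c) (Int.units_mul_self _) (dicksonHom Q hQ htop (refl Q v)) = _
    rw [spinorHom_refl Q hQ htop hv, dicksonHom_refl Q hQ htop hv, signHom_neg_one]
  have hKker : K ≤ χ.ker := by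
    rw [hK, Subgroup.closure_le]
    rintro _ ⟨v, t, ht, hv, rfl⟩
    rw [SetLike.mem_coe, MonoidHom.mem_ker, hχ v (by rw [hv]; exact mul_ne_zero hc (pow_ne_zero _ ht)),
      hv, show c * t ^ 2 = t * t * c by ring, sqClass_sq_mul t ht, Int.units_mul_self]
  have hwK : refl Q w ∉ K := fun h => by
    have h1 := hKker h
    rw [MonoidHom.mem_ker, hχ w (by rw [hw]; exact hd0), hw, hdc] at h1
    rcases Int.units_eq_one_or (sqClass c) with h' | h' <;> rw [h'] at h1 <;>
      exact absurd h1 (by decide)
  rw [Subgroup.index_eq_two_iff]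
  refine ⟨refl Q w, fun b => ?_⟩
  rcases hcover b with h | h
  · refine Or.inr ⟨h, fun h' => hwK ?_⟩
    exact (Subgroup.mul_mem_cancel_left _ h).mp h'
  · refine Or.inl ⟨?_, fun h' => hwK ?_⟩
    · have := hKn.conj_mem _ h (refl Q w)
      rwa [← mul_assoc (refl Q w) (refl Q w), refl_mul_self, one_mul,
        inv_eq_of_mul_eq_one_right (refl_mul_self Q w)] at this
    · exact (Subgroup.mul_mem_cancel_right _ h').mp h

end Cfsg.Agent.Lib.Geometry
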