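import Cfsg.Prelude.Def_ClassicalGeometry
import Cfsg.Agent.Lib.Geometry.WittAlternating

/-!
Basic facts about `Cfsg.sympForm`, the symplectic group as the isometry group of that form, and
symplectic transvections.
-/

set_option autoImplicit false

namespace Cfsg.Agent.Lib.Geometry

open Matrix

variable {F : Type*} [CommRing F] {m : ℕ}

/-- `sympForm` as a bilinear map. -/
def sympBilin (m : ℕ) (F : Type*) [CommRing F] : LinearMap.BilinForm F (Fin m ⊕ Fin m → F) :=
  Matrix.toBilin' (Matrix.J (Fin m) F)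

theorem sympBilin_apply (u v : Fin m ⊕ Fin m → F) :
    sympBilin m F u v = Cfsg.sympForm m F u v :=
  Matrix.toBilin'_apply' _ u v

theorem sympForm_eq_sum (u v : Fin m ⊕ Fin m → F) :
    Cfsg.sympForm m F u v =
      ∑ i : Fin m, (u (Sum.inr i) * v (Sum.inl i) - u (Sum.inl i) * v (Sum.inr i)) := by
  unfold Cfsg.sympForm Matrix.J
  rw [Matrix.fromBlocks_mulVec]
  simp only [dotProduct, Fintype.sum_sum_type, Sum.elim_inl, Sum.elim_inr, Finset.sum_sub_distrib,
    Matrix.zero_mulVec, Matrix.one_mulVec, Matrix.neg_mulVec, zero_add, add_zero, Pi.neg_apply,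
    Function.comp_apply, mul_neg, Finset.sum_neg_distrib]
  ring

theorem sympForm_self (u : Fin m ⊕ Fin m → F) : Cfsg.sympForm m F u u = 0 := by
  rw [sympForm_eq_sum]
  exact Finset.sum_eq_zero fun i _ => by ring

theorem sympBilin_isAlt : (sympBilin m F).IsAlt := fun u => by
  rw [sympBilin_apply, sympForm_self]

theorem sympForm_swap (u v : Fin m ⊕ Fin m → F) :
    Cfsg.sympForm m F u v = - Cfsg.sympForm m F v u := by
  rw [sympForm_eq_sum, sympForm_eq_sum, ← Finset.sum_neg_distrib]
  exact Finset.sum_congr rfl fun i _ => by ring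

theorem sympBilin_nondegenerate (F : Type*) [Field F] (m : ℕ) :
    (sympBilin m F).Nondegenerate :=
  Matrix.nondegenerate_toBilin'_iff.mpr
    (Matrix.nondegenerate_of_det_ne_zero (Matrix.isUnit_det_J (Fin m) F).ne_zero)

theorem sympForm_mulVec (A : Matrix (Fin m ⊕ Fin m) (Fin m ⊕ Fin m) F)
    (u v : Fin m ⊕ Fin m → F) :
    Cfsg.sympForm m F (A *ᵥ u) (A *ᵥ v) = u ⬝ᵥ ((Aᵀ * Matrix.J (Fin m) F * A) *ᵥ v) := by
  unfold Cfsg.sympForm
  rw [← Matrix.mulVec_mulVec, ← Matrix.mulVec_mulVec, Matrix.dotProduct_mulVec (A := Aᵀ),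
    Matrix.vecMul_transpose]

/-- Membership in the symplectic group is preservation of `sympForm`. -/
theorem mem_symplecticGroup_iff_form {A : Matrix (Fin m ⊕ Fin m) (Fin m ⊕ Fin m) F} :
    A ∈ Matrix.symplecticGroup (Fin m) F ↔
      ∀ u v, Cfsg.sympForm m F (A *ᵥ u) (A *ᵥ v) = Cfsg.sympForm m F u v := by
  rw [SymplecticGroup.mem_iff']
  constructor
  · intro h u v
    rw [sympForm_mulVec, h]
    rfl
  · intro h
    ext i j
    have := h (Pi.single i 1) (Pi.single j 1)
    rw [sympForm_mulVec] at this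
    simpa [Cfsg.sympForm, Matrix.mulVec_single_one, single_one_dotProduct] using this

/-- The transvection matrix acts as `x ↦ x + c f(x,v) v`. -/
theorem sympTransvection_mulVec (v : Fin m ⊕ Fin m → F) (c : F) (x : Fin m ⊕ Fin m → F) :
    Cfsg.sympTransvection m v c *ᵥ x = x + (c * Cfsg.sympForm m F x v) • v := by
  unfold Cfsg.sympTransvection Cfsg.sympForm
  rw [Matrix.add_mulVec, Matrix.one_mulVec, Matrix.smul_mulVec, Matrix.vecMulVec_mulVec,
    dotProduct_comm (Matrix.J (Fin m) F *ᵥ v) x, op_smul_eq_smul, smul_smul]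

theorem sympTransvection_mem (v : Fin m ⊕ Fin m → F) (c : F) :
    Cfsg.sympTransvection m v c ∈ Matrix.symplecticGroup (Fin m) F := by
  rw [mem_symplecticGroup_iff_form]
  intro a b
  simp only [sympTransvection_mulVec, ← sympBilin_apply, map_add, map_smul,
    LinearMap.add_apply, LinearMap.smul_apply, smul_eq_mul]
  rw [sympBilin_isAlt v]
  simp only [sympBilin_apply, sympForm_swap v b]
  ring

theorem sympTransvection_mul (v : Fin m ⊕ Fin m → F) (c d : F) :
    Cfsg.sympTransvection m v c * Cfsg.sympTransvection m v d =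
      Cfsg.sympTransvection m v (c + d) := by
  refine Matrix.toLin'.injective (LinearMap.ext fun x => ?_)
  simp only [Matrix.toLin'_apply, ← Matrix.mulVec_mulVec, sympTransvection_mulVec]
  have h : Cfsg.sympForm m F (x + (d * Cfsg.sympForm m F x v) • v) v =
      Cfsg.sympForm m F x v := by
    simp only [← sympBilin_apply, map_add, map_smul, LinearMap.add_apply, LinearMap.smul_apply]
    rw [sympBilin_isAlt v, smul_zero, add_zero]
  rw [h, add_mul, add_smul]
  abel

end Cfsg.Agent.Lib.Geometry
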