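import Cfsg.Agent.Lib.Classical.SympCard

/-!
Symplectic bases of alternating forms, with radical.
-/

set_option autoImplicit false

namespace Cfsg.Agent.Lib.Geometry

open Cfsg.Agent.Lib.Classical (IsSympFrame frameVal frameVal_apply frameSolve frameVal_frameSolve)

variable {F V : Type*} [Field F] [AddCommGroup V] [Module F V] [FiniteDimensional F V]
variable (B : LinearMap.BilinForm F V)

/-- Extending a frame by a hyperbolic pair orthogonal to it. -/
theorem isSympFrame_snoc_of (hA : B.IsAlt) {j : ℕ} (p : Fin j → V × V) (u v : V)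
    (hp : IsSympFrame B p) (hu : frameVal (B := B) p u = 0) (hv : frameVal (B := B) p v = 0)
    (huv : B u v = 1) : IsSympFrame B (Fin.snoc p (u, v) : Fin (j + 1) → V × V) := by
  have hu1 : ∀ a, B (p a).1 u = 0 := fun a => congrFun (congrArg Prod.fst hu) a
  have hu2 : ∀ a, B (p a).2 u = 0 := fun a => congrFun (congrArg Prod.snd hu) a
  have hv1 : ∀ a, B (p a).1 v = 0 := fun a => congrFun (congrArg Prod.fst hv) a
  have hv2 : ∀ a, B (p a).2 v = 0 := fun a => congrFun (congrArg Prod.snd hv) a
  intro a b
  induction a using Fin.lastCases with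
  | last =>
    induction b using Fin.lastCases with
    | last => simp only [Fin.snoc_last]; exact ⟨hA _, hA _, by simp [huv]⟩
    | cast b =>
      simp only [Fin.snoc_last, Fin.snoc_castSucc]
      refine ⟨?_, ?_, ?_⟩
      · rw [← hA.neg_eq, hu1, neg_zero]
      · rw [← hA.neg_eq, hv2, neg_zero]
      · rw [if_neg (Fin.castSucc_lt_last b).ne', ← hA.neg_eq, hu2, neg_zero]
  | cast a =>
    induction b using Fin.lastCases with
    | last =>
      simp only [Fin.snoc_last, Fin.snoc_castSucc]
      exact ⟨hu1 a, hv2 a, by rw [if_neg (Fin.castSucc_lt_last a).ne]; exact hv1 a⟩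
    | cast b =>
      simp only [Fin.snoc_castSucc, Fin.castSucc_inj]
      exact hp a b

/-- A frame with totally isotropic orthogonal space exists. -/
theorem exists_maximal_sympFrame (hA : B.IsAlt) :
    ∀ (n j : ℕ) (p : Fin j → V × V), IsSympFrame B p →
      Module.finrank F (LinearMap.ker (frameVal (B := B) p)) = n →
      ∃ (m : ℕ) (q : Fin m → V × V), IsSympFrame B q ∧
        ∀ u ∈ LinearMap.ker (frameVal (B := B) q), ∀ v ∈ LinearMap.ker (frameVal (B := B) q),
          B u v = 0 := by
  intro n
  induction n using Nat.strong_induction_on with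
  | _ n ih =>
    intro j p hp hn
    by_cases h : ∀ u ∈ LinearMap.ker (frameVal (B := B) p),
        ∀ v ∈ LinearMap.ker (frameVal (B := B) p), B u v = 0
    · exact ⟨j, p, hp, h⟩
    push Not at h
    obtain ⟨u, hu, v, hv, huv⟩ := h
    set v' := (B u v)⁻¹ • v with hv'
    have h1 : B u v' = 1 := by rw [hv', map_smul, smul_eq_mul, inv_mul_cancel₀ huv]
    have hv'm : v' ∈ LinearMap.ker (frameVal (B := B) p) := Submodule.smul_mem _ _ hv
    have hframe : IsSympFrame B (Fin.snoc p (u, v') : Fin (j + 1) → V × V) :=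
      isSympFrame_snoc_of B hA p u v' hp (LinearMap.mem_ker.mp hu) (LinearMap.mem_ker.mp hv'm) h1
    have hle : LinearMap.ker (frameVal (B := B) (Fin.snoc p (u, v') : Fin (j + 1) → V × V)) <
        LinearMap.ker (frameVal (B := B) p) := by
      refine lt_of_le_of_ne (fun x hx => ?_) fun heq => ?_
      · rw [LinearMap.mem_ker] at hx ⊢
        refine Prod.ext (funext fun a => ?_) (funext fun a => ?_)
        · have h := congrFun (congrArg Prod.fst hx) a.castSucc
          simpa [frameVal_apply] using h
        · have h := congrFun (congrArg Prod.snd hx) a.castSucc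
          simpa [frameVal_apply] using h
      · have hu' := hu
        rw [← heq, LinearMap.mem_ker] at hu'
        have h := congrFun (congrArg Prod.snd hu') (Fin.last j)
        simp only [frameVal_apply, Fin.snoc_last, Prod.snd_zero, Pi.zero_apply] at h
        rw [← hA.neg_eq, h1] at h
        exact one_ne_zero (neg_eq_zero.mp h)
    exact ih _ (hn ▸ Submodule.finrank_lt_finrank_of_lt hle) _ _ hframe rfl

/-- Symplectic basis with radical. -/
theorem exists_sympBasis (hA : B.IsAlt) :
    ∃ (m k : ℕ) (b : Module.Basis ((Fin m ⊕ Fin m) ⊕ Fin k) F V),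
      (∀ i j : Fin m, B (b (Sum.inl (Sum.inl i))) (b (Sum.inl (Sum.inr j))) = if i = j then 1 else 0) ∧
      (∀ i j : Fin m, B (b (Sum.inl (Sum.inl i))) (b (Sum.inl (Sum.inl j))) = 0) ∧
      (∀ i j : Fin m, B (b (Sum.inl (Sum.inr i))) (b (Sum.inl (Sum.inr j))) = 0) ∧
      (∀ (j : Fin k) (v : V), B (b (Sum.inr j)) v = 0) := by
  obtain ⟨m, q, hq, hker⟩ := exists_maximal_sympFrame B hA _ 0 Fin.elim0 (fun a => a.elim0) rfl
  set W := LinearMap.ker (frameVal (B := B) q) with hW
  let c := Module.finBasis F W
  have hrad : ∀ w ∈ W, ∀ v, B w v = 0 := by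
    intro w hw v
    have hmem : v - frameSolve q (frameVal (B := B) q v) ∈ W := by
      rw [hW, LinearMap.mem_ker, map_sub, frameVal_frameSolve hA hq, sub_self]
    have h := hker w hw _ hmem
    rwa [map_sub, Cfsg.Agent.Lib.Classical.frameSolve_perp (LinearMap.mem_ker.mp hw) hA,
      sub_zero] at h
  let e : (Fin m ⊕ Fin m) ⊕ Fin (Module.finrank F W) → V :=
    Sum.elim (Sum.elim (fun a => (q a).1) (fun a => (q a).2)) (fun i => (c i : V))
  have h21 : ∀ b a, B (q b).2 (q a).1 = if a = b then -1 else 0 := by
    intro b a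
    rw [← hA.neg_eq, (hq a b).2.2]
    split_ifs <;> simp
  have hqw : ∀ a i, B (q a).1 (c i : V) = 0 ∧ B (q a).2 (c i : V) = 0 := fun a i => by
    constructor <;> rw [← hA.neg_eq, hrad _ (c i).2, neg_zero]
  have hli : LinearIndependent F e := by
    rw [Fintype.linearIndependent_iff]
    intro g hg
    simp only [Fintype.sum_sum_type, e, Sum.elim_inl, Sum.elim_inr] at hg
    have h1 : ∀ a, g (Sum.inl (Sum.inr a)) = 0 := fun a => by
      have h := congrArg (B (q a).1) hg
      simpa [map_sum, map_smul, (hq a _).1, (hq a _).2.2, (hqw a _).1] using h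
    have h2 : ∀ a, g (Sum.inl (Sum.inl a)) = 0 := fun a => by
      have h := congrArg (B (q a).2) hg
      simpa [map_sum, map_smul, (hq a _).2.1, h21, (hqw a _).2] using h
    have h3 : ∑ i, g (Sum.inr i) • c i = 0 := by
      apply Subtype.ext
      rw [Submodule.coe_sum]
      simpa [h1, h2] using hg
    rintro ((a | a) | i)
    · exact h2 a
    · exact h1 a
    · exact Fintype.linearIndependent_iff.mp c.linearIndependent _ h3 i
  have hspan : ⊤ ≤ Submodule.span F (Set.range e) := by
    intro v _
    have hv : v = frameSolve q (frameVal (B := B) q v) + (v - frameSolve q (frameVal (B := B) q v)) :=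
      (add_sub_cancel _ _).symm
    rw [hv]
    refine Submodule.add_mem _ ?_ ?_
    · unfold frameSolve
      refine Submodule.sub_mem _ (Submodule.sum_mem _ fun a _ => Submodule.smul_mem _ _ ?_)
        (Submodule.sum_mem _ fun a _ => Submodule.smul_mem _ _ ?_)
      · exact Submodule.subset_span ⟨Sum.inl (Sum.inr a), rfl⟩
      · exact Submodule.subset_span ⟨Sum.inl (Sum.inl a), rfl⟩
    · have hmem : v - frameSolve q (frameVal (B := B) q v) ∈ W := by
        rw [hW, LinearMap.mem_ker, map_sub, frameVal_frameSolve hA hq, sub_self]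
      have h : v - frameSolve q (frameVal (B := B) q v) =
          ∑ i, c.repr ⟨_, hmem⟩ i • (c i : V) := by
        conv_lhs => rw [show v - frameSolve q (frameVal (B := B) q v) =
          ((⟨_, hmem⟩ : W) : V) from rfl, ← c.sum_repr ⟨_, hmem⟩]
        rw [Submodule.coe_sum]
        rfl
      rw [h]
      exact Submodule.sum_mem _ fun i _ =>
        Submodule.smul_mem _ _ (Submodule.subset_span ⟨Sum.inr i, rfl⟩)
  refine ⟨m, _, Module.Basis.mk hli hspan, ?_, ?_, ?_, ?_⟩ <;> intros <;>
    simp only [Module.Basis.mk_apply, e, Sum.elim_inl, Sum.elim_inr]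
  · exact (hq _ _).2.2
  · exact (hq _ _).1
  · exact (hq _ _).2.1
  · exact hrad _ (c _).2 _

end Cfsg.Agent.Lib.Geometry
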