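import Cfsg.Agent.Lib.Geometry.SympBasis
import Cfsg.Agent.Lib.Geometry.WittQuadratic

/-!
Orthogonal spaces of subspaces and totally singular subspaces of maximal dimension.
-/

set_option autoImplicit false

namespace Cfsg.Agent.Lib.Geometry

open Module (finrank)
open QuadraticMap (polarBilin)

variable {F V : Type*} [Field F] [AddCommGroup V] [Module F V] [FiniteDimensional F V]

theorem even_finrank_sub_ker (B : LinearMap.BilinForm F V) (hA : B.IsAlt) :
    Even (finrank F V + finrank F (LinearMap.ker B)) := by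
  obtain ⟨m, k, b, hef, hee, hff, hrad⟩ := exists_sympBasis B hA
  have hk : LinearMap.ker B = Submodule.span F (Set.range (b ∘ Sum.inr)) := by
    refine le_antisymm (fun x hx => ?_) ?_
    · have hx' : ∀ v, B x v = 0 := fun v => by rw [LinearMap.mem_ker.mp hx]; rfl
      have hfe : ∀ i j : Fin m, B (b (Sum.inl (Sum.inr i))) (b (Sum.inl (Sum.inl j))) =
          if i = j then -1 else 0 := fun i j => by
        rw [← hA.neg_eq, hef]; simp only [eq_comm]; split_ifs <;> simp
      have hr : ∀ (i : Fin k) v, B (b (Sum.inr i)) v = 0 := hrad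
      obtain ⟨c, hc⟩ : ∃ c : _ → F, ∑ i, c i • b i = x := ⟨_, b.sum_repr x⟩
      have h1 : ∀ i, c (Sum.inl (Sum.inl i)) = 0 := fun i => by
        have h := hx' (b (Sum.inl (Sum.inr i)))
        rw [← hc] at h
        simpa [map_sum, map_smul, Fintype.sum_sum_type, hef, hff, hr] using h
      have h2 : ∀ i, c (Sum.inl (Sum.inr i)) = 0 := fun i => by
        have h := hx' (b (Sum.inl (Sum.inl i)))
        rw [← hc] at h
        simpa [map_sum, map_smul, Fintype.sum_sum_type, hee, hfe, hr] using h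
      rw [← hc, Fintype.sum_sum_type, Fintype.sum_sum_type]
      simp only [h1, h2, zero_smul, Finset.sum_const_zero, zero_add]
      exact Submodule.sum_mem _ fun i _ => Submodule.smul_mem _ _ (Submodule.subset_span ⟨i, rfl⟩)
    · rw [Submodule.span_le]
      rintro _ ⟨i, rfl⟩
      exact LinearMap.ext (hrad i)
  rw [hk, finrank_span_eq_card (b.linearIndependent.comp _ Sum.inr_injective), Module.finrank_eq_card_basis b]
  simp only [Fintype.card_sum, Fintype.card_fin]
  exact ⟨m + k, by ring⟩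

variable (Q : QuadraticForm F V)

theorem polar_eq_zero_of_singular {U : Submodule F V} (hU : ∀ u ∈ U, Q u = 0) :
    ∀ u ∈ U, ∀ v ∈ U, polarBilin Q u v = 0 := by
  intro u hu v hv
  have h := quad_add Q u v
  rw [hU u hu, hU v hv, hU _ (U.add_mem hu hv), zero_add, zero_add] at h
  exact h.symm

/-- Orthogonal space for the polar form. -/
def polarPerp (U : Submodule F V) : Submodule F V := LinearMap.BilinForm.orthogonal (polarBilin Q) U

theorem mem_polarPerp {U : Submodule F V} {x : V} :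
    x ∈ polarPerp Q U ↔ ∀ u ∈ U, polarBilin Q u x = 0 := Iff.rfl

theorem polarPerp_isRefl : LinearMap.BilinForm.IsRefl (polarBilin Q) := fun x y h => by
  rw [quad_polar_comm]; exact h

theorem finrank_polarPerp (hQ : (polarBilin Q).Nondegenerate) (U : Submodule F V) :
    finrank F (polarPerp Q U) = finrank F V - finrank F U :=
  LinearMap.BilinForm.finrank_orthogonal hQ U

theorem polarPerp_polarPerp (hQ : (polarBilin Q).Nondegenerate) (U : Submodule F V) :
    polarPerp Q (polarPerp Q U) = U :=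
  LinearMap.BilinForm.orthogonal_orthogonal hQ (polarPerp_isRefl Q) U

theorem polarPerp_sup (U W : Submodule F V) :
    polarPerp Q (U ⊔ W) = polarPerp Q U ⊓ polarPerp Q W := by
  refine le_antisymm (le_inf (fun x hx u hu => hx u (Submodule.mem_sup_left hu))
    (fun x hx u hu => hx u (Submodule.mem_sup_right hu))) ?_
  rintro x ⟨hx1, hx2⟩ u hu
  obtain ⟨a, ha, b, hb, rfl⟩ := Submodule.mem_sup.mp hu
  show polarBilin Q (a + b) x = 0
  rw [map_add, LinearMap.add_apply, show polarBilin Q a x = 0 from hx1 a ha,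
    show polarBilin Q b x = 0 from hx2 b hb, add_zero]

theorem polarPerp_inf (hQ : (polarBilin Q).Nondegenerate) (U W : Submodule F V) :
    polarPerp Q (U ⊓ W) = polarPerp Q U ⊔ polarPerp Q W := by
  conv_lhs => rw [← polarPerp_polarPerp Q hQ U, ← polarPerp_polarPerp Q hQ W, ← polarPerp_sup]
  rw [polarPerp_polarPerp Q hQ]

theorem polarPerp_eq_self (hQ : (polarBilin Q).Nondegenerate) {m : ℕ} (hn : finrank F V = 2 * m)
    {U : Submodule F V} (hU : finrank F U = m) (hU0 : ∀ u ∈ U, Q u = 0) : polarPerp Q U = U := by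
  refine (Submodule.eq_of_le_of_finrank_eq (fun u hu => (mem_polarPerp Q).mpr fun v hv =>
    polar_eq_zero_of_singular Q hU0 v hv u hu) ?_).symm
  rw [finrank_polarPerp Q hQ, hn, hU]
  omega

/-- The parity rule for three maximal totally singular subspaces. -/
theorem even_codim_sum (hQ : (polarBilin Q).Nondegenerate) {m : ℕ} (hn : finrank F V = 2 * m)
    {U W X : Submodule F V} (hU : finrank F U = m) (hU0 : ∀ u ∈ U, Q u = 0)
    (hW : finrank F W = m) (hW0 : ∀ u ∈ W, Q u = 0) (hX : finrank F X = m) (hX0 : ∀ u ∈ X, Q u = 0) :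
    Even ((m - finrank F ↥(U ⊓ W)) + (m - finrank F ↥(W ⊓ X)) + (m - finrank F ↥(U ⊓ X))) := by
  have hUU := polarPerp_eq_self Q hQ hn hU hU0
  have hWW := polarPerp_eq_self Q hQ hn hW hW0
  have hXX := polarPerp_eq_self Q hQ hn hX hX0
  obtain ⟨s, hs⟩ : ∃ s : ↥(U ⊔ W) →ₗ[F] ↥U, ∀ x : ↥(U ⊔ W), (x : V) - (s x : V) ∈ W := by
    obtain ⟨r, hr⟩ := LinearMap.exists_rightInverse_of_surjective
      ((U.subtype.coprod W.subtype).codRestrict (U ⊔ W) (fun p => Submodule.add_mem _
        (Submodule.mem_sup_left p.1.2) (Submodule.mem_sup_right p.2.2))) (by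
        rw [LinearMap.range_eq_top]
        rintro ⟨x, hx⟩
        obtain ⟨a, ha, b, hb, rfl⟩ := Submodule.mem_sup.mp hx
        exact ⟨(⟨a, ha⟩, ⟨b, hb⟩), rfl⟩)
    refine ⟨(LinearMap.fst F U W).comp r, fun x => ?_⟩
    have h : ((r x).1 : V) + ((r x).2 : V) = (x : V) := congrArg Subtype.val (LinearMap.congr_fun hr x)
    have hw : (x : V) - ((r x).1 : V) = ((r x).2 : V) := by rw [← h, add_sub_cancel_left]
    show (x : V) - ((r x).1 : V) ∈ W
    rw [hw]
    exact (r x).2.2
  let A : Submodule F V := X ⊓ (U ⊔ W)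
  let ι : A →ₗ[F] V := A.subtype
  let S : A →ₗ[F] V := U.subtype.comp (s.comp (Submodule.inclusion (inf_le_right : A ≤ U ⊔ W)))
  have hSU : ∀ x, S x ∈ U := fun x => (s _).2
  have hSW : ∀ x : A, (x : V) - S x ∈ W := fun x =>
    hs (Submodule.inclusion (inf_le_right : A ≤ U ⊔ W) x)
  let B : LinearMap.BilinForm F A := (polarBilin Q).compl₁₂ S (ι - S)
  have hB : ∀ x y : A, B x y = polarBilin Q (S x) ((y : V) - S y) := fun x y => rfl
  have halt : B.IsAlt := fun x => by
    have h := quad_add Q (S x) ((x : V) - S x)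
    rw [add_sub_cancel, hX0 _ x.2.1, hU0 _ (hSU x), hW0 _ (hSW x), zero_add, zero_add] at h
    exact h.symm
  have hUWperp : ∀ t ∈ U ⊓ W, ∀ w ∈ W, polarBilin Q t w = 0 := fun t ht w hw =>
    polar_eq_zero_of_singular Q hW0 t ht.2 w hw
  have hker : (LinearMap.ker B).map A.subtype = (X ⊓ U) ⊔ (X ⊓ W) := by
    refine le_antisymm ?_ (sup_le ?_ ?_)
    · rintro _ ⟨x, hx, rfl⟩
      have hx' : ∀ y, B x y = 0 := fun y => by rw [LinearMap.mem_ker.mp hx]; rfl
      have hmem : S x ∈ polarPerp Q (W ⊓ (X ⊔ U)) := by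
        rintro w ⟨hwW, hwXU⟩
        obtain ⟨x', hx'X, u, hu, rfl⟩ := Submodule.mem_sup.mp hwXU
        have hx'A : x' ∈ A := ⟨hx'X, by
          rw [show x' = -u + (x' + u) by abel]
          exact Submodule.add_mem _ (Submodule.mem_sup_left (U.neg_mem hu)) (Submodule.mem_sup_right hwW)⟩
        have h1 := hx' ⟨x', hx'A⟩
        rw [hB] at h1
        have h2 : polarBilin Q (S x) (u + S ⟨x', hx'A⟩) = 0 :=
          polar_eq_zero_of_singular Q hU0 _ (hSU x) _ (U.add_mem hu (hSU _))
        show polarBilin Q (x' + u) (S x) = 0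
        rw [quad_polar_comm, show x' + u = (x' - S ⟨x', hx'A⟩) + (u + S ⟨x', hx'A⟩) by abel, map_add,
          h1, h2, add_zero]
      rw [polarPerp_inf Q hQ, polarPerp_sup, hWW, hXX, hUU] at hmem
      obtain ⟨w, hw, p, hp, hwp⟩ := Submodule.mem_sup.mp hmem
      show (x : V) ∈ (X ⊓ U) ⊔ (X ⊓ W)
      rw [← add_sub_cancel p (x : V)]
      refine Submodule.add_mem _ (Submodule.mem_sup_left hp) (Submodule.mem_sup_right ⟨X.sub_mem x.2.1 hp.1, ?_⟩)
      rw [show (x : V) - p = ((x : V) - S x) + w by rw [← hwp]; abel]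
      exact W.add_mem (hSW x) hw
    · rintro v ⟨hvX, hvU⟩
      refine ⟨⟨v, hvX, Submodule.mem_sup_left hvU⟩, LinearMap.mem_ker.mpr (LinearMap.ext fun y => ?_), rfl⟩
      set x : A := ⟨v, hvX, Submodule.mem_sup_left hvU⟩
      have ht : v - S x ∈ U ⊓ W := ⟨U.sub_mem hvU (hSU x), hSW x⟩
      show polarBilin Q (S x) ((y : V) - S y) = 0
      have h3 : polarBilin Q v ((y : V) - S y) = 0 := by
        rw [map_sub, polar_eq_zero_of_singular Q hX0 v hvX _ y.2.1,
          polar_eq_zero_of_singular Q hU0 v hvU _ (hSU y), sub_zero]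
      have h4 := hUWperp _ ht _ (hSW y)
      rw [show polarBilin Q (v - S x) = polarBilin Q v - polarBilin Q (S x) from map_sub _ _ _,
        LinearMap.sub_apply, h3, zero_sub, neg_eq_zero] at h4
      exact h4
    · rintro v ⟨hvX, hvW⟩
      refine ⟨⟨v, hvX, Submodule.mem_sup_right hvW⟩, LinearMap.mem_ker.mpr (LinearMap.ext fun y => ?_), rfl⟩
      set x : A := ⟨v, hvX, Submodule.mem_sup_right hvW⟩
      have hSxW : S x ∈ W := by
        have := W.sub_mem hvW (hSW x)
        rwa [show v - ((x : V) - S x) = S x from sub_sub_cancel _ _] at this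
      exact hUWperp _ ⟨hSU x, hSxW⟩ _ (hSW y)
  have hev := even_finrank_sub_ker B halt
  have hk : finrank F (LinearMap.ker B) = finrank F ↥((X ⊓ U) ⊔ (X ⊓ W)) :=
    (Submodule.equivMapOfInjective A.subtype A.injective_subtype (LinearMap.ker B)).finrank_eq.trans
      (congrArg (fun Z : Submodule F V => finrank F Z) hker)
  have e1 : finrank F ↥((X ⊓ U) ⊔ (X ⊓ W)) + finrank F ↥((X ⊓ U) ⊓ (X ⊓ W)) =
      finrank F ↥(X ⊓ U) + finrank F ↥(X ⊓ W) := Submodule.finrank_sup_add_finrank_inf_eq _ _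
  have e2 : finrank F ↥(U ⊔ W) + finrank F ↥(U ⊓ W) = finrank F U + finrank F W :=
    Submodule.finrank_sup_add_finrank_inf_eq _ _
  have e3 : finrank F ↥(X ⊔ (U ⊔ W)) + finrank F A = finrank F X + finrank F ↥(U ⊔ W) :=
    Submodule.finrank_sup_add_finrank_inf_eq _ _
  have e4 : finrank F ↥(polarPerp Q (X ⊔ (U ⊔ W))) = finrank F V - finrank F ↥(X ⊔ (U ⊔ W)) :=
    finrank_polarPerp Q hQ _
  have e5 : finrank F ↥(polarPerp Q (X ⊔ (U ⊔ W))) = finrank F ↥((X ⊓ U) ⊓ (X ⊓ W)) := by
    rw [polarPerp_sup, polarPerp_sup, hXX, hUU, hWW, inf_inf_distrib_left]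
  have e6 := Submodule.finrank_le (X ⊔ (U ⊔ W))
  have e7 : finrank F ↥(U ⊓ W) ≤ m := hU ▸ Submodule.finrank_mono inf_le_left
  have e8 : finrank F ↥(W ⊓ X) ≤ m := hW ▸ Submodule.finrank_mono inf_le_left
  have e9 : finrank F ↥(U ⊓ X) ≤ m := hU ▸ Submodule.finrank_mono inf_le_left
  have c1 : finrank F ↥(X ⊓ U) = finrank F ↥(U ⊓ X) := by rw [inf_comm]
  have c2 : finrank F ↥(X ⊓ W) = finrank F ↥(W ⊓ X) := by rw [inf_comm]
  rw [hk] at hev
  rw [Nat.even_iff] at hev ⊢
  omega

end Cfsg.Agent.Lib.Geometry
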