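import Mathlib.LinearAlgebra.Determinant
import Mathlib.LinearAlgebra.Matrix.SchurComplement
import Mathlib.LinearAlgebra.Matrix.ToLin
import Mathlib.GroupTheory.QuotientGroup.Basic
import Mathlib.Tactic.Module
import Cfsg.Agent.Lib.Geometry.HermBasis
import Cfsg.Agent.Lib.Geometry.GroupAux

/-!
The determinant-one isometries of a Hermitian space over a finite field are products of unitary
transvections (dimension at least 3, except dimension 3 over the field with four elements).
-/

set_option autoImplicit false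

namespace Cfsg.Agent.Lib.Geometry

variable {F V : Type*} [Field F] [AddCommGroup V] [Module F V] {σ : F →+* F}

theorem det_id_add_smulRight [FiniteDimensional F V] (φ : V →ₗ[F] F) (w : V) :
    LinearMap.det (LinearMap.id + φ.smulRight w) = 1 + φ w := by
  classical
  let b := Module.finBasis F V
  rw [← LinearMap.det_toMatrix b]
  have h : LinearMap.toMatrix b b (LinearMap.id + φ.smulRight w) =
      1 + Matrix.replicateCol Unit (b.repr w : Fin _ → F) *
        Matrix.replicateRow Unit (fun j => φ (b j)) := by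
    ext i j
    rw [LinearMap.toMatrix_apply]
    simp [Matrix.mul_apply, Matrix.one_apply, Finsupp.single_apply, eq_comm, mul_comm]
  rw [h, Matrix.det_one_add_replicateCol_mul_replicateRow]
  congr 1
  conv_rhs => rw [← b.sum_repr w, map_sum]
  simp only [map_smul, smul_eq_mul, dotProduct]
  exact Finset.sum_congr rfl fun i _ => mul_comm _ _

variable (B : V →ₛₗ[σ] V →ₗ[F] F)

/-- Unitary transvections. -/
def uTransvections : Set (sesqIsometries B) :=
  {g | ∃ (w : V) (c : F), B w w = 0 ∧ ∀ x, (g : V ≃ₗ[F] V) x = x + (c * B w x) • w}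

/-- The subgroup they generate. -/
def uTransvectionGroup : Subgroup (sesqIsometries B) := Subgroup.closure (uTransvections B)

theorem sesq_inv_apply (g : sesqIsometries B) (x : V) :
    (g : V ≃ₗ[F] V) (((g⁻¹ : sesqIsometries B) : V ≃ₗ[F] V) x) = x :=
  LinearEquiv.apply_symm_apply _ x

theorem sesq_mul_apply (g h : sesqIsometries B) (x : V) :
    ((g * h : sesqIsometries B) : V ≃ₗ[F] V) x = (g : V ≃ₗ[F] V) ((h : V ≃ₗ[F] V) x) :=
  rfl

instance uTransvectionGroup_normal : (uTransvectionGroup B).Normal :=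
  closure_normal_of_conj_mem (by
    rintro t ⟨w, c, hw, ht⟩ g
    refine ⟨(g : V ≃ₗ[F] V) w, c, by rw [mem_sesqIsometries.mp g.2, hw], fun x => ?_⟩
    rw [sesq_mul_apply, sesq_mul_apply, ht, map_add, map_smul, sesq_inv_apply]
    congr 3
    conv_rhs => rw [← sesq_inv_apply B g x, mem_sesqIsometries.mp g.2]
    )

variable [FiniteDimensional F V]

theorem exists_uTransvection_map (hS : B.IsSymm) (hB : B.Nondegenerate) (x y : V)
    (hxy : B y y = B x x) (hw : B (y - x) (y - x) = 0) (hne : B (y - x) x ≠ 0) :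
    ∃ g ∈ uTransvectionGroup B, (g : V ≃ₗ[F] V) x = y := by
  have hne' : B x (y - x) ≠ 0 := fun h => hne (by rw [← hS.eq x (y - x), h, map_zero])
  have hsum : B x (y - x) + B (y - x) x = 0 := by
    have h := hxy
    rw [show y = x + (y - x) by abel] at h
    simp only [map_add, LinearMap.add_apply, hw] at h
    linear_combination h
  obtain ⟨g, hg, hgv⟩ := exists_sesq_quasireflection B hS hB (y - x) (B (y - x) x)⁻¹ (by
    rw [hw, mul_zero, add_zero, map_inv₀, hS.eq (y - x) x]
    field_simp
    linear_combination hsum)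
  refine ⟨⟨g, hg⟩, Subgroup.subset_closure ⟨y - x, _, hw, hgv⟩, ?_⟩
  show g x = y
  rw [hgv, inv_mul_cancel₀ hne, one_smul, add_sub_cancel]

/-- `1 + u` with `u + σ u = 0`, `u ≠ 0`: elements of trace two other than one. -/
theorem exists_trace_two_ne_one (hσ : σ ≠ RingHom.id F) (hσ2 : ∀ a : F, σ (σ a) = a) :
    ∃ a : F, σ a + a = 2 ∧ a ≠ 1 := by
  obtain ⟨u, hu⟩ : ∃ u : F, σ u ≠ u := by
    by_contra h
    push Not at h
    exact hσ (RingHom.ext h)
  refine ⟨1 + (u - σ u), ?_, fun h => hu ?_⟩
  · rw [map_add, map_one, map_sub, hσ2]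
    ring
  · linear_combination -h

/-- Two steps through a non-degenerate plane. -/
theorem exists_uTransvection_map_of_plane [Finite F] (hσ : σ ≠ RingHom.id F)
    (hσ2 : ∀ a : F, σ (σ a) = a) (hS : B.IsSymm) (hB : B.Nondegenerate)
    (hn : 3 ≤ Module.finrank F V) (x y : V) (hx : B x x = 1) (hy : B y y = 1)
    (hplane : σ (B x y) * B x y ≠ 1) :
    ∃ g ∈ uTransvectionGroup B, (g : V ≃ₗ[F] V) x = y := by
  obtain ⟨a, ha, ha1⟩ := exists_trace_two_ne_one hσ hσ2
  set β := B x y with hβ
  have hyx : B y x = σ β := (hS.eq x y).symm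
  have hd : 1 - σ β * β ≠ 0 := sub_ne_zero.mpr (Ne.symm hplane)
  -- a point with both products equal to `a`
  let p := (a - a * β) / (1 - σ β * β)
  let r := (a - a * σ β) / (1 - σ β * β)
  let z₀ := p • x + r • y
  have hxz : B x z₀ = a := by
    simp only [z₀, p, r, map_add, map_smul, smul_eq_mul, hx, ← hβ]
    rw [mul_one, div_mul_eq_mul_div, ← add_div, div_eq_iff hd]
    ring
  have hyz : B y z₀ = a := by
    simp only [z₀, p, r, map_add, map_smul, smul_eq_mul, hy, hyx]
    rw [mul_one, div_mul_eq_mul_div, ← add_div, div_eq_iff hd]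
    ring
  -- a vector orthogonal to both, of prescribed norm
  let W : Submodule F V := LinearMap.ker (B x) ⊓ LinearMap.ker (B y)
  have hW : ∀ v, ∃ p r : F, v - (p • x + r • y) ∈ W := by
    intro v
    refine ⟨(B x v - β * B y v) / (1 - σ β * β), (B y v - σ β * B x v) / (1 - σ β * β), ?_, ?_⟩
    · show B x _ = 0
      simp only [map_sub, map_add, map_smul, smul_eq_mul, hx, ← hβ]
      rw [mul_one, div_mul_eq_mul_div, ← add_div, sub_eq_zero, eq_div_iff hd]
      ring
    · show B y _ = 0
      simp only [map_sub, map_add, map_smul, smul_eq_mul, hy, hyx]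
      rw [mul_one, div_mul_eq_mul_div, ← add_div, sub_eq_zero, eq_div_iff hd]
      ring
  obtain ⟨q, hqW, hq⟩ : ∃ q ∈ W, B q q ≠ 0 := by
    by_contra hall
    push Not at hall
    have hW0 : ∀ u ∈ W, ∀ v ∈ W, B u v = 0 := by
      obtain ⟨e, he⟩ : ∃ e : F, σ e ≠ e := by
        by_contra h
        push Not at h
        exact hσ (RingHom.ext h)
      intro u hu v hv
      have key : ∀ u ∈ W, ∀ v ∈ W, B u v + B v u = 0 := fun u hu v hv => by
        have h := hall (u + v) (W.add_mem hu hv)
        simp only [map_add, LinearMap.add_apply, hall u hu, hall v hv, zero_add, add_zero] at h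
        linear_combination h
      have h1 := key (e • u) (W.smul_mem e hu) v hv
      simp only [map_smul, map_smulₛₗ, LinearMap.smul_apply, smul_eq_mul] at h1
      have h2 : (σ e - e) * B u v = 0 := by linear_combination h1 - e * key u hu v hv
      exact (mul_eq_zero.mp h2).resolve_left (sub_ne_zero.mpr he)
    have hbot : W = ⊥ := by
      rw [eq_bot_iff]
      intro u hu
      rw [Submodule.mem_bot]
      refine hB.1 u fun v => ?_
      obtain ⟨p', r', h⟩ := hW v
      have h0 := hW0 u hu _ h
      have h1 : B u x = 0 := by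
        rw [← hS.eq x u, show B x u = 0 from hu.1, map_zero]
      have h2 : B u y = 0 := by
        rw [← hS.eq y u, show B y u = 0 from hu.2, map_zero]
      simpa [h1, h2] using h0
    have hker : ∀ z, Module.finrank F V ≤ Module.finrank F (LinearMap.ker (B z)) + 1 := fun z => by
      have e3 := LinearMap.finrank_range_add_finrank_ker (B z)
      have e4 := Submodule.finrank_le (LinearMap.range (B z))
      rw [Module.finrank_self] at e4
      omega
    have e1 := Submodule.finrank_sup_add_finrank_inf_eq (LinearMap.ker (B x)) (LinearMap.ker (B y))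
    have e2 := Submodule.finrank_le (LinearMap.ker (B x) ⊔ LinearMap.ker (B y))
    have e3 := hker x
    have e4 := hker y
    have e5 : Module.finrank F ↥(LinearMap.ker (B x) ⊓ LinearMap.ker (B y)) = 0 :=
      Submodule.finrank_eq_zero.mpr hbot
    omega
  obtain ⟨t, ht⟩ := exists_mul_conj_eq hσ hσ2 (s := (1 - B z₀ z₀) / B q q) (by
    rw [map_div₀, map_sub, map_one, hS.eq z₀ z₀, hS.eq q q])
  have hxq : B x q = 0 := hqW.1
  have hyq : B y q = 0 := hqW.2
  have hqx : B q x = 0 := by rw [← hS.eq x q, hxq, map_zero]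
  have hqy : B q y = 0 := by rw [← hS.eq y q, hyq, map_zero]
  set z := z₀ + t • q with hz
  have hqz₀ : B q z₀ = 0 := by simp [z₀, hqx, hqy]
  have hz₀q : B z₀ q = 0 := by rw [← hS.eq q z₀, hqz₀, map_zero]
  have hzz : B z z = 1 := by
    have h1 : σ t * t * B q q = 1 - B z₀ z₀ := by rw [ht, div_mul_cancel₀ _ hq]
    simp only [hz, map_add, map_smul, map_smulₛₗ, LinearMap.add_apply, LinearMap.smul_apply,
      smul_eq_mul, hqz₀, hz₀q]
    linear_combination h1
  have hxz' : B x z = a := by rw [hz, map_add, map_smul, hxq, smul_zero, add_zero, hxz]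
  have hyz' : B y z = a := by rw [hz, map_add, map_smul, hyq, smul_zero, add_zero, hyz]
  have hstep : ∀ u v, B u u = 1 → B v v = 1 → σ (B u v) + B u v = 2 → B u v ≠ 1 →
      ∃ g ∈ uTransvectionGroup B, (g : V ≃ₗ[F] V) u = v := by
    intro u v hu hv htr hne
    refine exists_uTransvection_map B hS hB u v (by rw [hu, hv]) ?_ ?_
    · simp only [map_sub, LinearMap.sub_apply, hu, hv]
      rw [← hS.eq u v]
      linear_combination -htr
    · rw [map_sub, LinearMap.sub_apply, hu, ← hS.eq u v, sub_ne_zero]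
      intro h
      exact hne (by rw [← hσ2 (B u v), h, map_one])
  obtain ⟨g₁, hg₁, hg₁x⟩ := hstep x z hx hzz (by rw [hxz']; exact ha) (by rw [hxz']; exact ha1)
  obtain ⟨g₂, hg₂, hg₂z⟩ := hstep z y hzz hy
    (by rw [← hS.eq y z, hyz', hσ2, add_comm]; exact ha)
    (by
      rw [← hS.eq y z, hyz']
      intro h
      exact ha1 (by rw [← hσ2 a, h, map_one]))
  exact ⟨g₂ * g₁, Subgroup.mul_mem _ hg₂ hg₁, by rw [sesq_mul_apply, hg₁x, hg₂z]⟩

/-- Transitivity on vectors of norm one. -/
theorem exists_uTransvection_map_unit [Finite F] (hσ : σ ≠ RingHom.id F)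
    (hσ2 : ∀ a : F, σ (σ a) = a) (hS : B.IsSymm) (hB : B.Nondegenerate)
    (hn : 3 ≤ Module.finrank F V)
    (hexc : 4 ≤ Module.finrank F V ∨ ∃ a : F, a ≠ 0 ∧ σ a * a ≠ 1)
    (x y : V) (hx : B x x = 1) (hy : B y y = 1) :
    ∃ g ∈ uTransvectionGroup B, (g : V ≃ₗ[F] V) x = y := by
  by_cases hplane : σ (B x y) * B x y ≠ 1
  · exact exists_uTransvection_map_of_plane B hσ hσ2 hS hB hn x y hx hy hplane
  push Not at hplane
  -- an intermediate vector
  suffices h : ∃ z, B z z = 1 ∧ B x z = 0 ∧ σ (B z y) * B z y ≠ 1 by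
    obtain ⟨z, hz, hxz, hzy⟩ := h
    obtain ⟨g₁, hg₁, h₁⟩ := exists_uTransvection_map_of_plane B hσ hσ2 hS hB hn x z hx hz
      (by rw [hxz, map_zero, zero_mul]; exact zero_ne_one)
    obtain ⟨g₂, hg₂, h₂⟩ := exists_uTransvection_map_of_plane B hσ hσ2 hS hB hn z y hz hy hzy
    exact ⟨g₂ * g₁, Subgroup.mul_mem _ hg₂ hg₁, by rw [sesq_mul_apply, h₁, h₂]⟩
  set lam := B x y with hlam
  set r := y - lam • x with hr
  have hxr : B x r = 0 := by rw [hr, map_sub, map_smul, hx, ← hlam, smul_eq_mul, mul_one, sub_self]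
  have hrx : B r x = 0 := by rw [← hS.eq x r, hxr, map_zero]
  have hrr : B r r = 0 := by
    simp only [hr, map_sub, map_smul, map_smulₛₗ, LinearMap.sub_apply, LinearMap.smul_apply,
      smul_eq_mul, hx, hy, ← hlam, ← hS.eq x y]
    linear_combination -hplane
  -- generic: a unit vector orthogonal to `x` from an anisotropic one
  have hnormalise : ∀ v, B x v = 0 → B v v ≠ 0 → B r v = 0 →
      ∃ z, B z z = 1 ∧ B x z = 0 ∧ σ (B z y) * B z y ≠ 1 := by
    intro v hxv hv hrv
    obtain ⟨t, ht⟩ := exists_mul_conj_eq hσ hσ2 (s := (B v v)⁻¹) (by rw [map_inv₀, hS.eq v v])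
    refine ⟨t • v, ?_, ?_, ?_⟩
    · simp only [map_smul, map_smulₛₗ, LinearMap.smul_apply, smul_eq_mul]
      rw [← mul_assoc, mul_comm t, ht, inv_mul_cancel₀ hv]
    · rw [map_smul, hxv, smul_zero]
    · have hvy : B v y = 0 := by
        have h1 : B v r = 0 := by rw [← hS.eq r v, hrv, map_zero]
        have h2 : B v x = 0 := by rw [← hS.eq x v, hxv, map_zero]
        rw [show y = r + lam • x by rw [hr, sub_add_cancel], map_add, map_smul, h1, h2, smul_zero,
          add_zero]
      rw [map_smulₛₗ, LinearMap.smul_apply, hvy, smul_zero, map_zero, zero_mul]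
      exact zero_ne_one
  have hexists_aniso : ∀ T : V →ₗ[F] (Fin 3 → F), 4 ≤ Module.finrank F V → LinearMap.ker T ≠ ⊥ := by
    intro T h4 hbot
    have h := LinearMap.finrank_range_add_finrank_ker T
    have h' := Submodule.finrank_le (LinearMap.range T)
    rw [Module.finrank_fintype_fun_eq_card, Fintype.card_fin] at h'
    rw [hbot, finrank_bot] at h
    omega
  have haniso : ∀ W : Submodule F V, (∀ v ∈ W, B v v = 0) → ∀ u ∈ W, ∀ v ∈ W, B u v = 0 := by
    intro W hall u hu v hv
    obtain ⟨e, he⟩ : ∃ e : F, σ e ≠ e := by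
      by_contra h
      push Not at h
      exact hσ (RingHom.ext h)
    have key : ∀ u ∈ W, ∀ v ∈ W, B u v + B v u = 0 := fun u hu v hv => by
      have h := hall (u + v) (W.add_mem hu hv)
      simp only [map_add, LinearMap.add_apply, hall u hu, hall v hv, zero_add, add_zero] at h
      linear_combination h
    have h1 := key (e • u) (W.smul_mem e hu) v hv
    simp only [map_smul, map_smulₛₗ, LinearMap.smul_apply, smul_eq_mul] at h1
    have h2 : (σ e - e) * B u v = 0 := by linear_combination h1 - e * key u hu v hv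
    exact (mul_eq_zero.mp h2).resolve_left (sub_ne_zero.mpr he)
  by_cases hr0 : r = 0
  · -- `y` is a multiple of `x`
    obtain ⟨v, hxv, hv⟩ : ∃ v, B x v = 0 ∧ B v v ≠ 0 := by
      by_contra hall
      push Not at hall
      have hk := haniso (LinearMap.ker (B x)) (fun v hv => hall v hv)
      haveI : Nontrivial (LinearMap.ker (B x)) := by
        refine Module.nontrivial_of_finrank_pos (R := F) ?_
        have h := LinearMap.finrank_range_add_finrank_ker (B x)
        have h' := Submodule.finrank_le (LinearMap.range (B x))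
        rw [Module.finrank_self] at h'
        omega
      obtain ⟨⟨u, hu⟩, hu0⟩ := exists_ne (0 : LinearMap.ker (B x))
      refine hu0 (Subtype.ext (hB.1 u fun v => ?_))
      have hmem : v - B x v • x ∈ LinearMap.ker (B x) := by
        rw [LinearMap.mem_ker, map_sub, map_smul, hx, smul_eq_mul, mul_one, sub_self]
      have h0 := hk u hu _ hmem
      have hux : B u x = 0 := by rw [← hS.eq x u, show B x u = 0 from hu, map_zero]
      simpa [hux] using h0
    exact hnormalise v hxv hv (by rw [hr0, map_zero, LinearMap.zero_apply])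
  · -- a partner of `r` orthogonal to `x`
    have hrX : r ∉ Submodule.span F {x} := fun h => by
      obtain ⟨s, hs⟩ := Submodule.mem_span_singleton.mp h
      rw [← hs, map_smul, hx, smul_eq_mul, mul_one] at hxr
      exact hr0 (by rw [← hs, hxr, zero_smul])
    obtain ⟨u, hu, hur⟩ := exists_sesq_perp_apply_eq_one B hσ2 hS hB _ hrX
    have hru : B r u = 1 := by rw [← hS.eq u r, hur, map_one]
    have hux : B u x = 0 := hu x (Submodule.mem_span_singleton_self x)
    obtain ⟨d, hd⟩ := exists_add_conj_eq hσ hσ2 (hS.eq u u)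
    set r' := u - d • r with hr'
    have hr'r' : B r' r' = 0 := by
      simp only [hr', map_sub, map_smul, map_smulₛₗ, LinearMap.sub_apply, LinearMap.smul_apply,
        smul_eq_mul, hru, hur, hrr]
      linear_combination -hd
    have hrr' : B r r' = 1 := by simp [hr', hru, hrr]
    have hr'r : B r' r = 1 := by rw [← hS.eq r r', hrr', map_one]
    have hr'x : B r' x = 0 := by simp [hr', hux, hrx]
    have hxr' : B x r' = 0 := by rw [← hS.eq r' x, hr'x, map_zero]
    rcases hexc with h4 | ⟨a, ha0, ha⟩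
    · obtain ⟨v, hxv, hrv, hr'v, hv⟩ : ∃ v, B x v = 0 ∧ B r v = 0 ∧ B r' v = 0 ∧ B v v ≠ 0 := by
        by_contra hall
        push Not at hall
        let T : V →ₗ[F] (Fin 3 → F) := LinearMap.pi ![B x, B r, B r']
        have hT : ∀ v, v ∈ LinearMap.ker T ↔ B x v = 0 ∧ B r v = 0 ∧ B r' v = 0 := by
          intro v
          rw [LinearMap.mem_ker, funext_iff, Fin.forall_fin_succ, Fin.forall_fin_two]
          rfl
        have hk := haniso (LinearMap.ker T) (fun v hv =>
          hall v ((hT v).mp hv).1 ((hT v).mp hv).2.1 ((hT v).mp hv).2.2)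
        refine hexists_aniso T h4 (eq_bot_iff.mpr fun v hv => ?_)
        rw [Submodule.mem_bot]
        refine hB.1 v fun w => ?_
        obtain ⟨hv1, hv2, hv3⟩ := (hT v).mp hv
        have hmem : w - (B x w • x + B r' w • r + B r w • r') ∈ LinearMap.ker T := by
          rw [hT]
          refine ⟨?_, ?_, ?_⟩ <;>
            simp [map_sub, map_add, map_smul, hx, hxr, hxr', hrx, hrr, hrr', hr'x, hr'r, hr'r']
        have h0 := hk v hv _ hmem
        have e1 : B v x = 0 := by rw [← hS.eq x v, hv1, map_zero]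
        have e2 : B v r = 0 := by rw [← hS.eq r v, hv2, map_zero]
        have e3 : B v r' = 0 := by rw [← hS.eq r' v, hv3, map_zero]
        simpa [e1, e2, e3] using h0
      exact hnormalise v hxv hv hrv
    · obtain ⟨d', hd'⟩ := exists_add_conj_eq hσ hσ2 (map_one σ)
      obtain ⟨b, hb⟩ : ∃ b : F, σ a * b = d' := by
        have hσa : σ a ≠ 0 := fun h => ha0 (by rw [← hσ2 a, h, map_zero])
        exact ⟨d' / σ a, mul_div_cancel₀ _ hσa⟩
      refine ⟨a • r' + b • r, ?_, ?_, ?_⟩
      · simp only [map_add, map_smul, map_smulₛₗ, LinearMap.add_apply, LinearMap.smul_apply,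
          smul_eq_mul, hrr, hrr', hr'r, hr'r']
        have hb' : a * σ b = σ d' := by rw [← hb, map_mul, hσ2]
        linear_combination hd' + hb + hb'
      · simp [hxr, hxr']
      · have hval : B (a • r' + b • r) y = σ a := by
          rw [show y = r + lam • x by rw [hr, sub_add_cancel]]
          simp [map_add, map_smulₛₗ, hrr, hr'r, hrx, hr'x]
        rw [hval, hσ2, mul_comm]
        exact ha

/-- Generation of the unitary group by quasi-reflections. -/
theorem mem_of_quasireflections_mem [Finite F] (hσ : σ ≠ RingHom.id F)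
    (hσ2 : ∀ a : F, σ (σ a) = a) (hS : B.IsSymm) (hB : B.Nondegenerate)
    (H : Subgroup (sesqIsometries B))
    (hH : ∀ (g : sesqIsometries B) (w : V) (c : F),
      (∀ x, (g : V ≃ₗ[F] V) x = x + (c * B w x) • w) → g ∈ H)
    (g : sesqIsometries B) : g ∈ H := by
  classical
  obtain ⟨e, he⟩ := exists_orthonormal_basis hσ hσ2 B hS hB
  suffices h : ∀ s : Finset (Fin (Module.finrank F V)), ∀ g : sesqIsometries B,
      (∀ i ∉ s, (g : V ≃ₗ[F] V) (e i) = e i) → g ∈ H from
    h Finset.univ g fun i hi => absurd (Finset.mem_univ i) hi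
  intro s
  induction s using Finset.induction_on with
  | empty =>
    intro g hg
    have : g = 1 := Subtype.ext (LinearEquiv.toLinearMap_injective
      (e.ext fun i => hg i (Finset.notMem_empty i)))
    rw [this]
    exact H.one_mem
  | insert i s hi ih =>
    intro g hg
    -- it is enough to move `e i` to its image by an element of `H` fixing the others
    suffices h : ∃ q ∈ H, (∀ j ∉ insert i s, (q : V ≃ₗ[F] V) (e j) = e j) ∧
        (q : V ≃ₗ[F] V) (e i) = (g : V ≃ₗ[F] V) (e i) by
      obtain ⟨q, hq, hfix, hqi⟩ := h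
      refine (Subgroup.mul_mem_cancel_left _ (H.inv_mem hq)).mp (ih (q⁻¹ * g) fun j hj => ?_)
      show (q : V ≃ₗ[F] V).symm ((g : V ≃ₗ[F] V) (e j)) = e j
      rw [LinearEquiv.symm_apply_eq]
      by_cases hji : j = i
      · rw [hji]; exact hqi.symm
      · rw [hg j (by simp [hji, hj]), hfix j (by simp [hji, hj])]
    have hee : B (e i) (e i) = 1 := by rw [he, if_pos rfl]
    have hperp : ∀ j ∉ insert i s, B ((g : V ≃ₗ[F] V) (e i)) (e j) = 0 ∧ B (e i) (e j) = 0 := by
      intro j hj
      have hij : i ≠ j := fun h => hj (h ▸ Finset.mem_insert_self i s)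
      refine ⟨?_, by rw [he, if_neg hij]⟩
      rw [← hg j hj, mem_sesqIsometries.mp g.2, he, if_neg hij]
    have key : ∀ u v, B u u = 1 → B v v = 1 → B (v - u) u ≠ 0 →
        (∀ j ∉ insert i s, B u (e j) = 0 ∧ B v (e j) = 0) →
        ∃ q ∈ H, (∀ j ∉ insert i s, (q : V ≃ₗ[F] V) (e j) = e j) ∧ (q : V ≃ₗ[F] V) u = v := by
      intro u v hu hv hne hj
      have hne' : B u (v - u) ≠ 0 := fun h => hne (by rw [← hS.eq u (v - u), h, map_zero])
      have hsum : B u (v - u) + B (v - u) u + B (v - u) (v - u) = 0 := by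
        have h : B v v = B u u := by rw [hu, hv]
        rw [show v = u + (v - u) by abel] at h
        simp only [map_add, LinearMap.add_apply] at h
        linear_combination h
      obtain ⟨q, hq, hqv⟩ := exists_sesq_quasireflection B hS hB (v - u) (B (v - u) u)⁻¹ (by
        rw [map_inv₀, hS.eq (v - u) u]
        field_simp
        linear_combination hsum)
      refine ⟨⟨q, hq⟩, hH _ _ _ hqv, fun j hj' => ?_, ?_⟩
      · show q (e j) = e j
        have h0 : B (v - u) (e j) = 0 := by
          rw [map_sub, LinearMap.sub_apply, (hj j hj').1, (hj j hj').2, sub_zero]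
        rw [hqv, h0, mul_zero, zero_smul, add_zero]
      · show q u = v
        rw [hqv, inv_mul_cancel₀ hne, one_smul, add_sub_cancel]
    by_cases hne : B ((g : V ≃ₗ[F] V) (e i) - e i) (e i) ≠ 0
    · exact key _ _ hee (by rw [mem_sesqIsometries.mp g.2, hee]) hne
        (fun j hj => ⟨(hperp j hj).2, (hperp j hj).1⟩)
    · push Not at hne
      rw [map_sub, LinearMap.sub_apply, hee, sub_eq_zero] at hne
      obtain ⟨a, ha⟩ : ∃ a : F, σ a ≠ a := by
        by_contra h
        push Not at h
        exact hσ (RingHom.ext h)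
      set t := σ a / a with ht
      have ha0 : a ≠ 0 := fun h => ha (by rw [h, map_zero])
      have hσa0 : σ a ≠ 0 := fun h => ha0 (by rw [← hσ2 a, h, map_zero])
      have htt : σ t * t = 1 := by rw [ht, map_div₀, hσ2]; field_simp
      have ht1 : t - 1 ≠ 0 := by
        rw [sub_ne_zero, ht, Ne, div_eq_one_iff_eq ha0]
        exact ha
      have hσt : σ t - 1 ≠ 0 := fun h => ht1 (by
        rw [← hσ2 t, sub_eq_zero.mp h, map_one, sub_self])
      have hte : B (t • e i) (t • e i) = 1 := by
        rw [map_smul, map_smulₛₗ, LinearMap.smul_apply, hee, smul_eq_mul, smul_eq_mul, mul_one,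
          mul_comm, htt]
      have htj : ∀ j ∉ insert i s, B (t • e i) (e j) = 0 := fun j hj => by
        rw [map_smulₛₗ, LinearMap.smul_apply, (hperp j hj).2, smul_zero]
      obtain ⟨q₁, hq₁, hf₁, hm₁⟩ := key (e i) (t • e i) hee hte
        (by
          rw [map_sub, LinearMap.sub_apply, map_smulₛₗ, LinearMap.smul_apply, hee, smul_eq_mul,
            mul_one]
          exact hσt)
        (fun j hj => ⟨(hperp j hj).2, htj j hj⟩)
      obtain ⟨q₂, hq₂, hf₂, hm₂⟩ := key (t • e i) ((g : V ≃ₗ[F] V) (e i)) hte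
        (by rw [mem_sesqIsometries.mp g.2, hee])
        (by
          rw [map_sub, LinearMap.sub_apply, map_smul, hne, smul_eq_mul, mul_one, hte]
          exact ht1)
        (fun j hj => ⟨htj j hj, (hperp j hj).1⟩)
      refine ⟨q₂ * q₁, H.mul_mem hq₂ hq₁, fun j hj => ?_, ?_⟩
      · rw [sesq_mul_apply, hf₁ j hj, hf₂ j hj]
      · rw [sesq_mul_apply, hm₁, hm₂]

/-- Determinant-one isometries are products of unitary transvections. -/
theorem mem_uTransvectionGroup_of_det_eq_one [Finite F] (hσ : σ ≠ RingHom.id F)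
    (hσ2 : ∀ a : F, σ (σ a) = a) (hS : B.IsSymm) (hB : B.Nondegenerate)
    (hn : 3 ≤ Module.finrank F V)
    (hexc : 4 ≤ Module.finrank F V ∨ ∃ a : F, a ≠ 0 ∧ σ a * a ≠ 1)
    (g : sesqIsometries B)
    (hdet : LinearMap.det ((g : V ≃ₗ[F] V) : V →ₗ[F] V) = 1) : g ∈ uTransvectionGroup B := by
  obtain ⟨e, he⟩ := exists_orthonormal_basis hσ hσ2 B hS hB
  set a := e ⟨0, by omega⟩
  have ha : B a a = 1 := by rw [he, if_pos rfl]
  set T := uTransvectionGroup B with hT
  -- the elements congruent to a quasi-reflection along `a`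
  let Pr : sesqIsometries B → F → Prop := fun p c =>
    ∀ x, (p : V ≃ₗ[F] V) x = x + (c * B a x) • a
  have hP : ∀ p c, Pr p c → LinearMap.det ((p : V ≃ₗ[F] V) : V →ₗ[F] V) = 1 + c := by
    intro p c hp
    have : ((p : V ≃ₗ[F] V) : V →ₗ[F] V) = LinearMap.id + (c • B a).smulRight a :=
      LinearMap.ext fun x => hp x
    rw [this, det_id_add_smulRight, LinearMap.smul_apply, ha, smul_eq_mul, mul_one]
  have hmul : ∀ p q c d, Pr p c → Pr q d → Pr (p * q) (c + d + c * d) := by
    intro p q c d hp hq x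
    rw [sesq_mul_apply, hq, hp, map_add, map_smul, ha, smul_eq_mul, mul_one, add_assoc, ← add_smul]
    congr 2
    ring
  have hinv : ∀ p c, Pr p c → ∃ c', Pr p⁻¹ c' := by
    intro p c hp
    have hdp := hP p c hp
    have hc : 1 + c ≠ 0 := by
      rw [← hdp]
      exact (LinearEquiv.isUnit_det' _).ne_zero
    refine ⟨-c / (1 + c), fun x => ?_⟩
    show (p : V ≃ₗ[F] V).symm x = _
    rw [LinearEquiv.symm_apply_eq, hp, map_add, map_smul, ha, smul_eq_mul, mul_one, add_assoc,
      ← add_smul]
    conv_lhs => rw [← add_zero x]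
    congr 1
    rw [eq_comm]
    convert zero_smul F a using 2
    field_simp
    ring
  let H : Subgroup (sesqIsometries B) :=
    { carrier := {p | ∃ q c, Pr q c ∧ q⁻¹ * p ∈ T}
      one_mem' := ⟨1, 0, fun x => by rw [zero_mul, zero_smul, add_zero]; rfl,
        by rw [inv_one, one_mul]; exact T.one_mem⟩
      mul_mem' := by
        rintro p p' ⟨q, c, hq, hp⟩ ⟨q', c', hq', hp'⟩
        refine ⟨q * q', _, hmul _ _ _ _ hq hq', ?_⟩
        have h1 : q'⁻¹ * (q⁻¹ * p) * q' ∈ T := by
          have h := (uTransvectionGroup_normal B).conj_mem _ hp q'⁻¹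
          rwa [inv_inv] at h
        have h2 := T.mul_mem h1 hp'
        convert h2 using 1
        group
      inv_mem' := by
        rintro p ⟨q, c, hq, hp⟩
        obtain ⟨c', hc'⟩ := hinv q c hq
        refine ⟨q⁻¹, c', hc', ?_⟩
        have h1 : q * (q⁻¹ * p)⁻¹ * q⁻¹ ∈ T :=
          (uTransvectionGroup_normal B).conj_mem _ (T.inv_mem hp) q
        convert h1 using 1
        group }
  have hgH : g ∈ H := by
    refine mem_of_quasireflections_mem B hσ hσ2 hS hB H (fun p w c hp => ?_) g
    by_cases hw : B w w = 0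
    · exact ⟨1, 0, fun x => by rw [zero_mul, zero_smul, add_zero]; rfl,
        by rw [inv_one, one_mul]; exact Subgroup.subset_closure ⟨w, c, hw, hp⟩⟩
    obtain ⟨s, hs⟩ := exists_mul_conj_eq hσ hσ2 (hS.eq w w)
    have hs0 : s ≠ 0 := fun h => hw (by rw [← hs, h, mul_zero])
    have hσs : σ s ≠ 0 := fun h => hw (by rw [← hs, h, zero_mul])
    have hb1 : B (s⁻¹ • w) (s⁻¹ • w) = 1 := by
      rw [map_smul, map_smulₛₗ, LinearMap.smul_apply, smul_eq_mul, smul_eq_mul, map_inv₀, ← hs]
      field_simp
    obtain ⟨t, ht, hta⟩ := exists_uTransvection_map_unit B hσ hσ2 hS hB hn hexc a (s⁻¹ • w) ha hb1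
    -- `t⁻¹ p t` is a quasi-reflection along `a`
    have hq : Pr (t⁻¹ * p * t) (c * (σ s * s)) := by
      intro x
      rw [sesq_mul_apply, sesq_mul_apply]
      show (t : V ≃ₗ[F] V).symm _ = _
      rw [LinearEquiv.symm_apply_eq, hp, map_add, map_smul, hta, smul_smul]
      have h1 : B a x = σ s⁻¹ * B w ((t : V ≃ₗ[F] V) x) := by
        conv_lhs => rw [← mem_sesqIsometries.mp t.2, hta, map_smulₛₗ, LinearMap.smul_apply,
          smul_eq_mul]
      rw [h1, map_inv₀]
      congr 2
      field_simp
    refine ⟨_, _, hq, ?_⟩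
    have h1 : p⁻¹ * t * p ∈ T := by
      have h := (uTransvectionGroup_normal B).conj_mem _ ht p⁻¹
      rwa [inv_inv] at h
    have h2 : t⁻¹ * (p⁻¹ * t * p) ∈ T := T.mul_mem (T.inv_mem ht) h1
    convert h2 using 1
    group
  obtain ⟨q, c, hq, hqg⟩ := hgH
  have hdetq : LinearMap.det ((q : V ≃ₗ[F] V) : V →ₗ[F] V) = 1 := by
    -- transvections have determinant one
    have hT1 : ∀ t ∈ T, LinearMap.det ((t : V ≃ₗ[F] V) : V →ₗ[F] V) = 1 := by
      let D : sesqIsometries B →* Fˣ := LinearEquiv.det.comp (sesqIsometries B).subtype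
      have hle : T ≤ D.ker := by
        rw [hT, uTransvectionGroup, Subgroup.closure_le]
        rintro t ⟨w, c, hw, ht⟩
        rw [SetLike.mem_coe, MonoidHom.mem_ker]
        refine Units.ext ?_
        have : ((t : V ≃ₗ[F] V) : V →ₗ[F] V) = LinearMap.id + (c • B w).smulRight w :=
          LinearMap.ext fun x => ht x
        show ((LinearEquiv.det (t : V ≃ₗ[F] V) : Fˣ) : F) = 1
        rw [LinearEquiv.coe_det, this, det_id_add_smulRight, LinearMap.smul_apply, hw, smul_zero,
          add_zero]
      intro t ht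
      have := congrArg Units.val (MonoidHom.mem_ker.mp (hle ht))
      rw [Units.val_one] at this
      rw [← LinearEquiv.coe_det]
      exact this
    have h1 := hT1 _ hqg
    have h2 : ((g : V ≃ₗ[F] V) : V →ₗ[F] V) = ((q : V ≃ₗ[F] V) : V →ₗ[F] V) ∘ₗ
        (((q⁻¹ * g : sesqIsometries B) : V ≃ₗ[F] V) : V →ₗ[F] V) := LinearMap.ext fun x => by
      show (g : V ≃ₗ[F] V) x = (q : V ≃ₗ[F] V) ((q : V ≃ₗ[F] V).symm ((g : V ≃ₗ[F] V) x))
      rw [LinearEquiv.apply_symm_apply]
    rw [h2, LinearMap.det_comp, h1, mul_one] at hdet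
    exact hdet
  have hq1 : q = 1 := by
    rw [hP q c hq] at hdetq
    have hc : c = 0 := by linear_combination hdetq
    exact Subtype.ext (LinearEquiv.ext fun x => by rw [hq, hc, zero_mul, zero_smul, add_zero]; rfl)
  rwa [hq1, inv_one, one_mul] at hqg

end Cfsg.Agent.Lib.Geometry
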