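import Cfsg.Prelude.Def_ClassicalGeometry
import Cfsg.Prelude.Def_LieClassical
import Cfsg.Agent.Lib.Geometry.UnitaryGen

/-!
`Cfsg.hermForm` as a sesquilinear form and the matrix unitary groups as isometry groups.
-/

set_option autoImplicit false

namespace Cfsg.Agent.Lib.Geometry

open Matrix

variable {F : Type*} [Field F] [Fintype F] {q : ℕ}

theorem frobQ_exists (hF : Fintype.card F = q ^ 2) :
    ∃ (p f : ℕ) (_ : Fact p.Prime) (_ : CharP F p), q = p ^ f := by
  obtain ⟨p, hp⟩ := CharP.exists F
  haveI := hp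
  obtain ⟨n, hprime, hn⟩ := FiniteField.card F p
  haveI : Fact p.Prime := ⟨hprime⟩
  have hdvd : q ∣ p ^ (n : ℕ) := by rw [← hn, hF, sq]; exact dvd_mul_right q q
  obtain ⟨f, -, hf⟩ := (Nat.dvd_prime_pow hprime).mp hdvd
  exact ⟨p, f, inferInstance, inferInstance, hf⟩

theorem frobQ_add (hF : Fintype.card F = q ^ 2) (x y : F) : (x + y) ^ q = x ^ q + y ^ q := by
  obtain ⟨p, f, _, _, rfl⟩ := frobQ_exists hF
  exact add_pow_char_pow x y p f

theorem q_pos (hF : Fintype.card F = q ^ 2) : 2 ≤ q := by
  have h := Fintype.one_lt_card (α := F)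
  rw [hF] at h
  by_contra hlt
  interval_cases q <;> simp at h

/-- The field automorphism `x ↦ x ^ q`. -/
def frobQ (hF : Fintype.card F = q ^ 2) : F →+* F where
  toFun x := x ^ q
  map_one' := one_pow q
  map_mul' x y := mul_pow x y q
  map_zero' := zero_pow (by have := q_pos hF; omega)
  map_add' := frobQ_add hF

@[simp] theorem frobQ_apply (hF : Fintype.card F = q ^ 2) (x : F) : frobQ hF x = x ^ q := rfl

theorem frobQ_frobQ (hF : Fintype.card F = q ^ 2) (x : F) : frobQ hF (frobQ hF x) = x := by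
  rw [frobQ_apply, frobQ_apply, ← pow_mul, ← sq, ← hF, FiniteField.pow_card]

theorem exists_pow_ne_self (hF : Fintype.card F = q ^ 2) : ∃ x : F, x ^ q ≠ x := by
  classical
  by_contra h
  push Not at h
  have h2 := q_pos hF
  have hle : Fintype.card F ≤ q := by
    have hne : (Polynomial.X ^ q - Polynomial.X : Polynomial F) ≠ 0 :=
      FiniteField.X_pow_card_sub_X_ne_zero F (by omega)
    have hsub : (Finset.univ : Finset F) ⊆ (Polynomial.X ^ q - Polynomial.X : Polynomial F).roots.toFinset :=
      fun x _ => by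
        rw [Multiset.mem_toFinset, Polynomial.mem_roots hne]
        simp [h x]
    have h3 := (Finset.card_le_card hsub).trans (Multiset.toFinset_card_le _)
    have h4 := Polynomial.card_roots' (Polynomial.X ^ q - Polynomial.X : Polynomial F)
    rw [FiniteField.X_pow_card_sub_X_natDegree_eq F (by omega)] at h4
    rw [Finset.card_univ] at h3
    omega
  rw [hF, sq] at hle
  have : q * 2 ≤ q * q := Nat.mul_le_mul_left q h2
  omega

theorem frobQ_ne_id (hF : Fintype.card F = q ^ 2) : frobQ hF ≠ RingHom.id F := by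
  obtain ⟨x, hx⟩ := exists_pow_ne_self hF
  exact fun h => hx (RingHom.congr_fun h x)

/-- `hermForm` as a sesquilinear map: `hermBilin u v = hermForm v u`. -/
def hermBilin (n : ℕ) (hF : Fintype.card F = q ^ 2) :
    (Fin n → F) →ₛₗ[frobQ hF] (Fin n → F) →ₗ[F] F :=
  LinearMap.mk₂'ₛₗ (frobQ hF) (RingHom.id F) (fun u v => ∑ i, v i * frobQ hF (u i))
    (fun u u' v => by simp only [Pi.add_apply, map_add, mul_add, Finset.sum_add_distrib])
    (fun c u v => by
      simp only [Pi.smul_apply, smul_eq_mul, map_mul, Finset.mul_sum]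
      exact Finset.sum_congr rfl fun i _ => by ring)
    (fun u v v' => by simp only [Pi.add_apply, add_mul, Finset.sum_add_distrib])
    (fun c u v => by
      simp only [Pi.smul_apply, smul_eq_mul, RingHom.id_apply, Finset.mul_sum, mul_assoc])

theorem hermBilin_apply {n : ℕ} (hF : Fintype.card F = q ^ 2) (u v : Fin n → F) :
    hermBilin n hF u v = Cfsg.hermForm n F q v u :=
  rfl

theorem hermBilin_isSymm {n : ℕ} (hF : Fintype.card F = q ^ 2) : (hermBilin n hF).IsSymm :=
  ⟨fun u v => by
    show frobQ hF (∑ i, v i * frobQ hF (u i)) = ∑ i, u i * frobQ hF (v i)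
    rw [map_sum]
    simp only [map_mul, frobQ_frobQ]
    exact Finset.sum_congr rfl fun i _ => mul_comm _ _⟩

theorem hermBilin_nondegenerate {n : ℕ} (hF : Fintype.card F = q ^ 2) :
    (hermBilin n hF).Nondegenerate := by
  classical
  have hleft : ∀ u, (∀ v, hermBilin n hF u v = 0) → u = 0 := fun u h => funext fun i => by
    have h1 := h (Pi.single i 1)
    rw [hermBilin_apply] at h1
    simp only [Cfsg.hermForm, Pi.single_apply, ite_mul, one_mul, zero_mul, Finset.sum_ite_eq',
      Finset.mem_univ, if_true] at h1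
    exact eq_zero_of_pow_eq_zero h1
  refine ⟨hleft, fun v hv => hleft v fun u => ?_⟩
  rw [← (hermBilin_isSymm hF).eq u v, hv u, map_zero]

theorem mem_GU_iff {n : ℕ} {g : Matrix.GeneralLinearGroup (Fin n) F} :
    g ∈ Cfsg.GU n F q ↔ ∀ u v, Cfsg.hermForm n F q ((g : Matrix (Fin n) (Fin n) F) *ᵥ u)
      ((g : Matrix (Fin n) (Fin n) F) *ᵥ v) = Cfsg.hermForm n F q u v :=
  Iff.rfl

/-- The matrix unitary group is the group of linear isometries of `hermBilin`. -/
noncomputable def guEquiv (n : ℕ) (hF : Fintype.card F = q ^ 2) :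
    Cfsg.GU n F q ≃* sesqIsometries (hermBilin n hF) :=
  (Matrix.GeneralLinearGroup.toLin.trans
      (LinearMap.GeneralLinearGroup.generalLinearEquiv F (Fin n → F)))
    |>.subgroupMap (Cfsg.GU n F q) |>.trans
    (MulEquiv.subgroupCongr (by
      ext h
      constructor
      · rintro ⟨g, hg, rfl⟩ u v
        exact hg v u
      · intro hh
        refine ⟨(Matrix.GeneralLinearGroup.toLin.trans
          (LinearMap.GeneralLinearGroup.generalLinearEquiv F (Fin n → F))).symm h,
          fun u v => ?_, MulEquiv.apply_symm_apply _ h⟩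
        show Cfsg.hermForm n F q (LinearMap.toMatrix' (h : (Fin n → F) →ₗ[F] (Fin n → F)) *ᵥ u)
          (LinearMap.toMatrix' (h : (Fin n → F) →ₗ[F] (Fin n → F)) *ᵥ v) = _
        rw [← Matrix.toLin'_apply, ← Matrix.toLin'_apply, Matrix.toLin'_toMatrix']
        exact hh v u))

theorem guEquiv_apply {n : ℕ} (hF : Fintype.card F = q ^ 2) (g : Cfsg.GU n F q)
    (x : Fin n → F) :
    ((guEquiv n hF g : sesqIsometries (hermBilin n hF)) : (Fin n → F) ≃ₗ[F] (Fin n → F)) x =
      ((g : Matrix.GeneralLinearGroup (Fin n) F) : Matrix (Fin n) (Fin n) F) *ᵥ x :=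
  rfl

theorem unitaryTransvection_mulVec {n : ℕ} (v : Fin n → F) (c : F) (x : Fin n → F) :
    Cfsg.unitaryTransvection n q v c *ᵥ x = x + (c * Cfsg.hermForm n F q x v) • v := by
  unfold Cfsg.unitaryTransvection Cfsg.hermForm
  rw [Matrix.add_mulVec, Matrix.one_mulVec, Matrix.smul_mulVec, Matrix.vecMulVec_mulVec,
    dotProduct_comm, op_smul_eq_smul, smul_smul]
  rfl

/-- The special unitary group as isometries. -/
noncomputable def suToIsometries (n : ℕ) (hF : Fintype.card F = q ^ 2) :
    Cfsg.SU n F q →* sesqIsometries (hermBilin n hF) :=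
  (guEquiv n hF).toMonoidHom.comp
    { toFun := fun A => ⟨Matrix.SpecialLinearGroup.toGL A.1, fun u v => A.2 u v⟩
      map_one' := Subtype.ext (map_one _)
      map_mul' := fun A B => Subtype.ext (map_mul Matrix.SpecialLinearGroup.toGL A.1 B.1) }

theorem suToIsometries_apply {n : ℕ} (hF : Fintype.card F = q ^ 2) (A : Cfsg.SU n F q)
    (x : Fin n → F) :
    ((suToIsometries n hF A : sesqIsometries (hermBilin n hF)) : (Fin n → F) ≃ₗ[F] (Fin n → F)) x =
      ((A : Matrix.SpecialLinearGroup (Fin n) F) : Matrix (Fin n) (Fin n) F) *ᵥ x :=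
  rfl

theorem suToIsometries_injective {n : ℕ} (hF : Fintype.card F = q ^ 2) :
    Function.Injective (suToIsometries n hF) := fun A B h => by
  refine Subtype.ext (Subtype.ext (Matrix.toLin'.injective (LinearMap.ext fun x => ?_)))
  rw [Matrix.toLin'_apply, Matrix.toLin'_apply, ← suToIsometries_apply hF, h,
    suToIsometries_apply]

theorem exists_norm_ne_one (hF : Fintype.card F = q ^ 2) (hq : 3 ≤ q) :
    ∃ a : F, a ≠ 0 ∧ frobQ hF a * a ≠ 1 := by
  obtain ⟨g, hg⟩ := IsCyclic.exists_generator (α := Fˣ)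
  refine ⟨(g : F), g.ne_zero, fun h => ?_⟩
  rw [frobQ_apply, ← pow_succ] at h
  have h1 : g ^ (q + 1) = 1 := Units.ext (by rw [Units.val_pow_eq_pow_val, h, Units.val_one])
  have h2 := Nat.le_of_dvd (by omega) (orderOf_dvd_of_pow_eq_one h1)
  rw [orderOf_eq_card_of_forall_mem_zpowers hg, Nat.card_units, Nat.card_eq_fintype_card, hF, sq]
    at h2
  have : 3 * q ≤ q * q := Nat.mul_le_mul_right q hq
  omega

/-- `SU` is generated by unitary transvections. -/
theorem closure_unitaryTransvections_eq_top {n : ℕ} (hF : Fintype.card F = q ^ 2) (hn : 3 ≤ n)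
    (h32 : ¬ (n = 3 ∧ q = 2)) :
    Subgroup.closure {A : Cfsg.SU n F q | ∃ (v : Fin n → F) (c : F),
      Cfsg.hermForm n F q v v = 0 ∧
      ((A : Matrix.SpecialLinearGroup (Fin n) F) : Matrix (Fin n) (Fin n) F) =
        Cfsg.unitaryTransvection n q v c} = ⊤ := by
  classical
  set S := Subgroup.closure {A : Cfsg.SU n F q | ∃ (v : Fin n → F) (c : F),
      Cfsg.hermForm n F q v v = 0 ∧
      ((A : Matrix.SpecialLinearGroup (Fin n) F) : Matrix (Fin n) (Fin n) F) =
        Cfsg.unitaryTransvection n q v c} with hS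
  rw [eq_top_iff]
  intro A _
  have hfin : Module.finrank F (Fin n → F) = n := by
    rw [Module.finrank_fintype_fun_eq_card, Fintype.card_fin]
  have hT : uTransvectionGroup (hermBilin n hF) ≤ S.map (suToIsometries n hF) := by
    rw [uTransvectionGroup, Subgroup.closure_le]
    rintro t ⟨w, c, hw, ht⟩
    set M := LinearMap.toMatrix' ((t : (Fin n → F) ≃ₗ[F] (Fin n → F)) :
      (Fin n → F) →ₗ[F] (Fin n → F)) with hM
    have hMx : ∀ x, M *ᵥ x = (t : (Fin n → F) ≃ₗ[F] (Fin n → F)) x := fun x => by
      rw [hM, ← Matrix.toLin'_apply, Matrix.toLin'_toMatrix']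
      rfl
    have hMeq : M = Cfsg.unitaryTransvection n q w c :=
      Matrix.toLin'.injective (LinearMap.ext fun x => by
        rw [Matrix.toLin'_apply, Matrix.toLin'_apply, hMx, ht, unitaryTransvection_mulVec,
          hermBilin_apply])
    have hdet : M.det = 1 := by
      have hlin : Matrix.toLin' M =
          LinearMap.id + (c • hermBilin n hF w).smulRight w := LinearMap.ext fun x => by
        rw [Matrix.toLin'_apply, hMx, ht]
        rfl
      rw [← LinearMap.det_toLin', hlin, det_id_add_smulRight, LinearMap.smul_apply, hw, smul_zero,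
        add_zero]
    let A' : Cfsg.SU n F q := ⟨⟨M, hdet⟩, fun u v => by
      show Cfsg.hermForm n F q (M *ᵥ u) (M *ᵥ v) = Cfsg.hermForm n F q u v
      rw [hMx, hMx]
      exact t.2 v u⟩
    refine ⟨A', Subgroup.subset_closure ⟨w, c, hw, hMeq⟩, ?_⟩
    refine Subtype.ext (LinearEquiv.ext fun x => ?_)
    rw [suToIsometries_apply]
    exact hMx x
  have hA : suToIsometries n hF A ∈ S.map (suToIsometries n hF) := hT
    (mem_uTransvectionGroup_of_det_eq_one _ (frobQ_ne_id hF) (frobQ_frobQ hF) (hermBilin_isSymm hF)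
      (hermBilin_nondegenerate hF) (by omega)
      (by
        by_cases h4 : 4 ≤ n
        · exact Or.inl (by omega)
        · exact Or.inr (exists_norm_ne_one hF (by
            have := q_pos hF
            omega)))
      _ (by
        have : ((suToIsometries n hF A : (Fin n → F) ≃ₗ[F] (Fin n → F)) :
            (Fin n → F) →ₗ[F] (Fin n → F)) =
            Matrix.toLin' ((A : Matrix.SpecialLinearGroup (Fin n) F) : Matrix (Fin n) (Fin n) F) :=
          LinearMap.ext fun x => by rw [Matrix.toLin'_apply]; rfl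
        rw [this, LinearMap.det_toLin']
        exact A.1.2))
  obtain ⟨A', hA', hAA⟩ := hA
  rwa [← suToIsometries_injective hF hAA]

end Cfsg.Agent.Lib.Geometry
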