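import Cfsg.Agent.Lib.Geometry.UnitaryBasic

/-!
Unitary transvections are commutators in the special unitary group.
-/

set_option autoImplicit false

namespace Cfsg.Agent.Lib.Geometry

variable {F V : Type*} [Field F] [AddCommGroup V] [Module F V] [FiniteDimensional F V]
  {σ : F →+* F} (B : V →ₛₗ[σ] V →ₗ[F] F)

/-- Determinant of a Siegel transformation. -/
theorem det_sesq_siegel (w u : V) (d : F) (hw : B w w = 0) (huw : B u w = 0) (hwu : B w u = 0) :
    LinearMap.det (LinearMap.id + (B u).smulRight w - (B w).smulRight (u + d • w)) = 1 := by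
  have e : LinearMap.id + (B u).smulRight w - (B w).smulRight (u + d • w) =
      (LinearMap.id + (-(B w)).smulRight (u + d • w)) ∘ₗ (LinearMap.id + (B u).smulRight w) := by
    refine LinearMap.ext fun v => ?_
    simp only [LinearMap.add_apply, LinearMap.sub_apply, LinearMap.comp_apply, LinearMap.id_apply,
      LinearMap.smulRight_apply, LinearMap.neg_apply, map_add, map_smul, hw]
    module
  rw [e, LinearMap.det_comp, det_id_add_smulRight, det_id_add_smulRight, huw, LinearMap.neg_apply,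
    map_add, map_smul, hwu, hw]
  simp

/-- An anisotropic vector orthogonal to a given isotropic one. -/
theorem exists_sesq_unit_perp [Finite F] (hσ : σ ≠ RingHom.id F) (hσ2 : ∀ a : F, σ (σ a) = a)
    (hS : B.IsSymm) (hB : B.Nondegenerate) (hn : 3 ≤ Module.finrank F V) (w : V) (hw : B w w = 0)
    (hw0 : w ≠ 0) : ∃ u, B u w = 0 ∧ B u u = 1 := by
  obtain ⟨e, he⟩ : ∃ e : F, σ e ≠ e := by
    by_contra h
    push Not at h
    exact hσ (RingHom.ext h)
  obtain ⟨v, hvw, hv⟩ : ∃ v, B w v = 0 ∧ B v v ≠ 0 := by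
    by_contra hall
    push Not at hall
    have hK : ∀ x, B w x = 0 → ∀ y, B w y = 0 → B x y = 0 := by
      intro x hx y hy
      have key : ∀ x, B w x = 0 → ∀ y, B w y = 0 → B x y + B y x = 0 := fun x hx y hy => by
        have h := hall (x + y) (by rw [map_add, hx, hy, add_zero])
        simp only [map_add, LinearMap.add_apply, hall x hx, hall y hy, zero_add, add_zero] at h
        linear_combination h
      have h1 := key (e • x) (by rw [map_smul, hx, smul_zero]) y hy
      simp only [map_smul, map_smulₛₗ, LinearMap.smul_apply, smul_eq_mul] at h1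
      have h2 : (σ e - e) * B x y = 0 := by linear_combination h1 - e * key x hx y hy
      exact (mul_eq_zero.mp h2).resolve_left (sub_ne_zero.mpr he)
    -- the hyperplane would be totally isotropic of dimension at most one
    obtain ⟨φ, hφ, -⟩ := exists_functional_one_of_notMem (⊥ : Submodule F V) (x := w) (by simpa using hw0)
    obtain ⟨u, hu⟩ := exists_sesq_eq_functional B hσ2 hS hB φ
    have hwu : B w u = 1 := by rw [← hS.eq u w, hu, hφ, map_one]
    obtain ⟨x, hwx, hux, hx0⟩ : ∃ x, B w x = 0 ∧ B u x = 0 ∧ x ≠ 0 := by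
      let T : V →ₗ[F] F × F := LinearMap.prod (B w) (B u)
      have h1 := LinearMap.finrank_range_add_finrank_ker T
      have h2 := Submodule.finrank_le (LinearMap.range T)
      rw [Module.finrank_prod, Module.finrank_self] at h2
      haveI : Nontrivial (LinearMap.ker T) := Module.nontrivial_of_finrank_pos (R := F) (by omega)
      obtain ⟨⟨x, hx⟩, hx0⟩ := exists_ne (0 : LinearMap.ker T)
      rw [LinearMap.mem_ker] at hx
      exact ⟨x, congrArg Prod.fst hx, congrArg Prod.snd hx, fun h => hx0 (Subtype.ext h)⟩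
    refine hx0 (hB.1 x fun y => ?_)
    have hy : B w (y - B w y • u) = 0 := by
      rw [map_sub, map_smul, hwu, smul_eq_mul, mul_one, sub_self]
    have h0 := hK x hwx _ hy
    have hxu : B x u = 0 := by rw [← hS.eq u x, hux, map_zero]
    simpa [hxu] using h0
  obtain ⟨t, ht⟩ := exists_mul_conj_eq hσ hσ2 (s := (B v v)⁻¹) (by rw [map_inv₀, hS.eq v v])
  refine ⟨t • v, ?_, ?_⟩
  · rw [map_smulₛₗ, LinearMap.smul_apply, ← hS.eq w v, hvw, map_zero, smul_zero]
  · simp only [map_smul, map_smulₛₗ, LinearMap.smul_apply, smul_eq_mul]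
    rw [← mul_assoc, mul_comm t, ht, inv_mul_cancel₀ hv]

/-- A transvection is a commutator of two Siegel transformations. -/
theorem exists_commutator_transvection [Finite F] (hσ : σ ≠ RingHom.id F)
    (hσ2 : ∀ a : F, σ (σ a) = a) (hS : B.IsSymm) (hB : B.Nondegenerate)
    (hn : 3 ≤ Module.finrank F V) (w : V) (hw : B w w = 0) (hw0 : w ≠ 0) (c : F)
    (hc : σ c + c = 0) :
    ∃ g₁ g₂ : sesqIsometries B, LinearMap.det ((g₁ : V ≃ₗ[F] V) : V →ₗ[F] V) = 1 ∧
      LinearMap.det ((g₂ : V ≃ₗ[F] V) : V →ₗ[F] V) = 1 ∧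
      ∀ x, (g₁ : V ≃ₗ[F] V) ((g₂ : V ≃ₗ[F] V) x) =
        (g₂ : V ≃ₗ[F] V) ((g₁ : V ≃ₗ[F] V) x) +
          (c * B w ((g₂ : V ≃ₗ[F] V) ((g₁ : V ≃ₗ[F] V) x))) • w := by
  obtain ⟨u, huw, huu⟩ := exists_sesq_unit_perp B hσ hσ2 hS hB hn w hw hw0
  have hwu : B w u = 0 := by rw [← hS.eq u w, huw, map_zero]
  obtain ⟨e, he⟩ := exists_add_conj_eq hσ hσ2 (map_one σ)
  set μ := -(c * e) with hμ
  have hσc : σ c = -c := eq_neg_of_add_eq_zero_left hc
  obtain ⟨d, hd⟩ := exists_add_conj_eq hσ hσ2 (hS.eq u u)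
  obtain ⟨d', hd'⟩ := exists_add_conj_eq hσ hσ2 (hS.eq (μ • u) (μ • u))
  have huw' : B (μ • u) w = 0 := by rw [map_smulₛₗ, LinearMap.smul_apply, huw, smul_zero]
  obtain ⟨g₁, hg₁, h₁⟩ := exists_sesq_siegel B hS hB w u d hw huw hd
  obtain ⟨g₂, hg₂, h₂⟩ := exists_sesq_siegel B hS hB w (μ • u) d' hw huw' hd'
  refine ⟨⟨g₁, hg₁⟩, ⟨g₂, hg₂⟩, ?_, ?_, fun x => ?_⟩
  · rw [show ((g₁ : V ≃ₗ[F] V) : V →ₗ[F] V) = LinearMap.id + (B u).smulRight w -
      (B w).smulRight (u + d • w) from LinearMap.ext h₁]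
    exact det_sesq_siegel B w u d hw huw hwu
  · rw [show ((g₂ : V ≃ₗ[F] V) : V →ₗ[F] V) = LinearMap.id + (B (μ • u)).smulRight w -
      (B w).smulRight (μ • u + d' • w) from LinearMap.ext h₂]
    exact det_sesq_siegel B w _ d' hw huw' (by rw [map_smul, hwu, smul_zero])
  · show g₁ (g₂ x) = g₂ (g₁ x) + (c * B w (g₂ (g₁ x))) • w
    have hσμ : σ μ = c * (1 - e) := by
      rw [hμ, map_neg, map_mul, hσc, show σ e = 1 - e from eq_sub_of_add_eq he]
      ring
    simp only [h₁, h₂, map_sub, map_add, map_smul, map_smulₛₗ, LinearMap.smul_apply,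
      LinearMap.sub_apply, LinearMap.add_apply, smul_eq_mul, hw, huw, hwu, huu, hσμ,
      mul_zero, zero_mul, add_zero, sub_zero, mul_one]
    rw [hμ]
    module

end Cfsg.Agent.Lib.Geometry
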