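import Cfsg.Agent.Lib.Classical.AutPSp.FieldClass
import Cfsg.Agent.Lib.Classical.AutPSL.Count
import Cfsg.Agent.Lib.Classical.SympCard

/-!
Counting the automorphisms of `PSp`.
-/

set_option autoImplicit false

namespace Cfsg.Agent.Lib.Geometry.SympAut

open Matrix
open Cfsg.Agent.Lib.Classical Cfsg.Agent.Lib.Classical.AutPSp

variable {F : Type*} [Field F] [Fintype F] {m : ℕ} (p : ℕ) [Fact p.Prime] [CharP F p]

set_option quotPrecheck false in
local notation "Vm" => (Fin m ⊕ Fin m → F)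
set_option quotPrecheck false in
local notation "GLm" => GL (Fin m ⊕ Fin m) F
set_option quotPrecheck false in
local notation "Mat" => Matrix (Fin m ⊕ Fin m) (Fin m ⊕ Fin m) F
set_option quotPrecheck false in
local notation "Spm" => Subtype (fun A => A ∈ Matrix.symplecticGroup (Fin m) F)
set_option quotPrecheck false in
local notation "ω" => Cfsg.sympForm m F

include p in
/-- Reading a field automorphism from one transvection group. -/
theorem sigma_eq_of_apply (hm : 1 ≤ m) {g : Cfsg.GSp m F} {σ : F ≃+* F} {τ : F → F} (hτ : τ 1 = 1)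
    (h : ∀ c, (dia g * fld σ : MulAut (Cfsg.PSp m F)) (tau (E ⟨0, hm⟩ : Vm) c) = tau (E ⟨0, hm⟩) (τ c)) (c : F) : σ c = τ c := by
  have hE : (fun i => σ ((E ⟨0, hm⟩ : Vm) i)) = E ⟨0, hm⟩ := funext fun k => by
    simp [E, Pi.single_apply, apply_ite σ]
  set μ := multHom hm g
  have hc : ∀ c, tau (((g : GLm) : Mat) *ᵥ E ⟨0, hm⟩) (σ c / (μ : F)) = tau (E ⟨0, hm⟩) (τ c) := fun c => by
    rw [← h, MulAut.mul_apply, fld_tau, hE, dia_tau g (multHom_spec hm g)]
  have h0 : ((g : GLm) : Mat) *ᵥ E ⟨0, hm⟩ ≠ 0 := fun e => E_ne_zero (F := F) ⟨0, hm⟩ (by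
    have := congrArg ((((g : GLm)⁻¹ : GLm) : Mat) *ᵥ ·) e
    simpa [Matrix.mulVec_mulVec, ← Units.val_mul] using this)
  have h1 := hc 1
  rw [hτ, map_one] at h1
  obtain ⟨a, -, ea, -⟩ := tau_eq_imp p hm h0 (div_ne_zero one_ne_zero μ.ne_zero) h1
  have h2 : ∀ c, σ c / (μ : F) = τ c * a * a := fun c => by
    refine tau_injective p hm h0 ?_
    rw [hc]
    conv_lhs => rw [ea, tau_smul]
  have e1 := h2 1
  rw [hτ, map_one, one_mul] at e1
  have e2 := h2 c
  rw [div_eq_iff μ.ne_zero] at e1 e2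
  rw [e2]
  linear_combination (-(τ c)) * e1

include p in
theorem eq_one_of_fld_eq_dia (hm : 1 ≤ m) {g : Cfsg.GSp m F} {σ : F ≃+* F}
    (h : (fld σ : MulAut (Cfsg.PSp m F)) = dia g) : σ = 1 := by
  refine RingEquiv.ext fun c => ?_
  rw [RingAut.one_apply]
  refine sigma_eq_of_apply p hm (g := g⁻¹) (τ := id) rfl (fun c => ?_) c
  rw [map_inv, ← h, inv_mul_cancel]
  rfl

include p in
theorem card_range_dia (hm : 1 ≤ m) : Nat.card (dia (F := F) (m := m)).range = Nat.card Spm := by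
  have hker : Nat.card (dia (F := F) (m := m)).ker = Nat.card Fˣ := by
    refine (Nat.card_congr (Equiv.ofBijective (fun u : Fˣ =>
      (⟨scG u, MonoidHom.mem_ker.mpr ((dia_eq_one_iff p hm _).mpr ⟨u, rfl⟩)⟩ : (dia (F := F) (m := m)).ker))
      ⟨fun u v h => ?_, fun g => ?_⟩)).symm
    · have := congrFun (congrArg (fun z : (dia (F := F) (m := m)).ker =>
        (((z : Cfsg.GSp m F) : GLm) : Mat) *ᵥ (E ⟨0, hm⟩ : Vm)) h) (Sum.inl ⟨0, hm⟩)
      simp only [scG_mulVec] at this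
      exact Units.ext (by simpa [E] using this)
    · obtain ⟨u, hu⟩ := (dia_eq_one_iff p hm g.1).mp g.2
      exact ⟨u, Subtype.ext hu.symm⟩
  have hmk : Nat.card (multHom (F := F) (m := m) hm).ker = Nat.card Spm := by
    refine (Nat.card_congr (Equiv.ofBijective (fun s : Spm => (⟨spG s, MonoidHom.mem_ker.mpr (Units.ext
      (multHom_eq hm _ fun u v => by rw [Units.val_one, one_mul]; exact sp_form s u v))⟩ :
        (multHom (F := F) (m := m) hm).ker)) ⟨fun s t h => ?_, fun g => ?_⟩)).symm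
    · exact spToGL_injective (congrArg (fun z : (multHom (F := F) (m := m) hm).ker => ((z : Cfsg.GSp m F) : GLm)) h)
    · have hg : ((g.1 : GLm) : Mat) ∈ Matrix.symplecticGroup (Fin m) F :=
        mem_symplecticGroup_iff_form.mpr fun u v => by
          rw [multHom_spec hm, MonoidHom.mem_ker.mp g.2, Units.val_one, one_mul]
      exact ⟨⟨_, hg⟩, Subtype.ext (Subtype.ext (Units.ext rfl))⟩
  have h1 := (multHom (F := F) (m := m) hm).ker.card_mul_index
  rw [hmk, Subgroup.index_ker, MonoidHom.range_eq_top.mpr (multHom_surjective hm), Subgroup.card_top] at h1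
  have h2 := (dia (F := F) (m := m)).ker.card_mul_index
  rw [hker, Subgroup.index_ker, ← h1, mul_comm (Nat.card Spm)] at h2
  exact Nat.eq_of_mul_eq_mul_left Nat.card_pos h2

include p in
/-- The automorphisms of the form diagonal times field. -/
theorem card_dia_fld (hm : 1 ≤ m) {f : ℕ} (hF : Fintype.card F = p ^ f) :
    Nat.card {a : MulAut (Cfsg.PSp m F) // ∃ (g : Cfsg.GSp m F) (σ : F ≃+* F), a = dia g * fld σ} =
      Nat.card Spm * f := by
  rw [← card_range_dia p hm, ← (AutPSL.gal_cyclic_card (F := F) hF).2, ← Nat.card_prod]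
  refine (Nat.card_congr (Equiv.ofBijective (fun z : (dia (F := F) (m := m)).range × (F ≃+* F) =>
    (⟨z.1.1 * fld z.2, by obtain ⟨g, hg⟩ := z.1.2; exact ⟨g, z.2, by rw [hg]⟩⟩ :
      {a : MulAut (Cfsg.PSp m F) // ∃ (g : Cfsg.GSp m F) (σ : F ≃+* F), a = dia g * fld σ})) ⟨?_, ?_⟩)).symm
  · rintro ⟨⟨_, g, rfl⟩, σ⟩ ⟨⟨_, g', rfl⟩, σ'⟩ h
    have e : dia g * fld σ = dia g' * fld σ' := congrArg Subtype.val h
    have e' : fld (σ * σ'⁻¹) = dia (g⁻¹ * g') := by
      rw [map_mul, map_mul, map_inv, map_inv, eq_inv_mul_iff_mul_eq, ← mul_assoc, e, mul_inv_cancel_right]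
    obtain rfl : σ = σ' := by
      have := eq_one_of_fld_eq_dia p hm e'
      rwa [mul_inv_eq_one] at this
    exact Prod.ext (Subtype.ext (mul_right_cancel e)) rfl
  · rintro ⟨_, g, σ, rfl⟩
    exact ⟨⟨⟨dia g, g, rfl⟩, σ⟩, rfl⟩

include p in
theorem card_sp_eq_gcd_mul (hm : 1 ≤ m) :
    Nat.card Spm = Nat.gcd 2 (Fintype.card F - 1) * Nat.card (Cfsg.PSp m F) := by
  rw [← card_center_sp hm, mul_comm]
  exact Subgroup.card_eq_card_quotient_mul_card_subgroup _

end Cfsg.Agent.Lib.Geometry.SympAut
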