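import Cfsg.Agent.Lib.Geometry.SpFourInvol
import Cfsg.Agent.Lib.Geometry.SympAutCount

/-!
Automorphisms of `PSp₄(2^f)`.
-/

set_option autoImplicit false

namespace Cfsg.Agent.Lib.Geometry.SpFour

open Matrix
open Cfsg.Agent.Lib.Classical Cfsg.Agent.Lib.Classical.AutPSp

variable {F : Type*} [Field F] [Fintype F] [CharP F 2]

set_option quotPrecheck false in
local notation "V4" => (Fin 2 ⊕ Fin 2 → F)
set_option quotPrecheck false in
local notation "Sp4" => Subtype (fun A => A ∈ Matrix.symplecticGroup (Fin 2) F)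
set_option quotPrecheck false in
local notation "P4" => Cfsg.PSp 2 F
set_option quotPrecheck false in
local notation "ω" => Cfsg.sympForm 2 F

theorem pr_injective : Function.Injective (pr (F := F) (m := 2)) := by
  rw [← MonoidHom.ker_eq_bot_iff, eq_bot_iff]
  intro z hz
  rw [MonoidHom.mem_ker, pr_eq_one] at hz
  refine Subgroup.mem_bot.mpr (Subtype.ext ?_)
  rcases (mem_center_sp_iff (m := 2) (by norm_num) z).mp hz with e | e
  · exact e
  · rw [e, Submonoid.coe_one]
    ext i j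
    rw [Matrix.neg_apply, CharTwo.neg_eq]

/-- In characteristic two the centre is trivial. -/
noncomputable def prEquiv : Sp4 ≃* P4 := MulEquiv.ofBijective pr ⟨pr_injective, pr_surjective⟩

/-- The exceptional endomorphism of `PSp₄`. -/
noncomputable def thetaHomP : P4 →* P4 :=
  (pr.comp thetaSp).comp prEquiv.symm.toMonoidHom

theorem thetaHomP_pr (s : Sp4) : thetaHomP (pr s) = pr (thetaSp s) := by
  show pr (thetaSp (prEquiv.symm (pr s))) = _
  rw [show pr s = prEquiv s from rfl, MulEquiv.symm_apply_apply]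

theorem Sh_ne_transvection {c : F} (hc : c ≠ 0) (v : V4) (d : F) : Sh c ≠ spT v d := by
  intro h
  have hr : ∀ i : Fin 2, ∃ k : F, (E i : V4) = k • v := by
    intro i
    let j : Fin 2 := if i = 0 then 1 else 0
    have h1 : (Sh c).1 *ᵥ (Fv j : V4) = Fv j + c • (E i : V4) := by
      rw [show (Fv j : V4) = Pi.single (Sum.inr j) 1 from rfl, Matrix.mulVec_single_one]
      funext k
      rcases k with k | k <;> fin_cases i <;> fin_cases k <;> simp [j, Sh, spN, E, Matrix.col]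
    rw [h, spT_mulVec, add_right_inj] at h1
    exact ⟨c⁻¹ * (d * ω (Fv j) v), by rw [← smul_smul, h1, inv_smul_smul₀ hc]⟩
  obtain ⟨a, ha⟩ := hr 0
  obtain ⟨b, hb⟩ := hr 1
  have h00 := congrFun ha (Sum.inl 0)
  have h10 := congrFun ha (Sum.inl 1)
  have h11 := congrFun hb (Sum.inl 1)
  simp [E] at h00 h10 h11
  rcases h10 with h' | h'
  · rw [h', zero_mul] at h00; exact one_ne_zero h00
  · rw [h', mul_zero] at h11; exact one_ne_zero h11

theorem mn_elim (A : Matrix (Fin 2 ⊕ Fin 2) (Fin 2 ⊕ Fin 2) F) (a b x y c : Fin 2 ⊕ Fin 2) :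
    A a c * mn A a b x y - A a y * mn A a b x c + A a x * mn A a b y c = 0 ∧
      A b c * mn A a b x y - A b y * mn A a b x c + A b x * mn A a b y c = 0 := by
  constructor <;> simp only [mn] <;> ring

theorem eq_one_of_theta (g : Sp4) (h : theta g.1 = 1) : g = 1 := by
  have hx : ∀ i j, mn g.1 (pa i) (pb i) (pa j) (pb j) = (1 : Matrix (Fin 2 ⊕ Fin 2) (Fin 2 ⊕ Fin 2) F) i j :=
    fun i j => congrFun (congrFun h i) j
  set G : Matrix (Fin 2 ⊕ Fin 2) (Fin 2 ⊕ Fin 2) F := g.1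
  let e1 : Fin 2 ⊕ Fin 2 := Sum.inl 0
  let e2 : Fin 2 ⊕ Fin 2 := Sum.inl 1
  let f1 : Fin 2 ⊕ Fin 2 := Sum.inr 0
  let f2 : Fin 2 ⊕ Fin 2 := Sum.inr 1
  have hP : ∀ a b : Fin 2 ⊕ Fin 2, mn G a b e1 e2 * mn G a b f1 f2 - mn G a b e1 f1 * mn G a b e2 f2 -
      mn G a b e1 f2 * mn G a b f1 e2 = 0 := fun a b => by simp only [mn]; ring
  have hsq : ∀ x y : F, x + y = 0 → x * y = 0 → x = 0 := fun x y hs hp =>
    mul_self_eq_zero.mp (by linear_combination x * hs - hp)
  have row : ∀ i, mn G (pa i) (pb i) e1 f1 = 0 ∧ mn G (pa i) (pb i) e2 f2 = 0 := by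
    intro i
    have hr : mn G (pa i) (pb i) e1 f1 + mn G (pa i) (pb i) e2 f2 = 0 := row_rel g i
    have hp := hP (pa i) (pb i)
    have k1 : mn G (pa i) (pb i) e1 e2 = (1 : Matrix _ _ F) i e1 := hx i e1
    have k2 : mn G (pa i) (pb i) f1 f2 = (1 : Matrix _ _ F) i f1 := hx i f1
    have k3 : mn G (pa i) (pb i) e1 f2 = (1 : Matrix _ _ F) i e2 := hx i e2
    have k4 : mn G (pa i) (pb i) f1 e2 = (1 : Matrix _ _ F) i f2 := hx i f2
    rw [k1, k2, k3, k4] at hp
    have hz : (1 : Matrix _ _ F) i e1 * (1 : Matrix _ _ F) i f1 = 0 ∧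
        (1 : Matrix _ _ F) i e2 * (1 : Matrix _ _ F) i f2 = 0 := by
      rcases i with i | i <;> fin_cases i <;> simp [e1, e2, f1, f2]
    have h0 : mn G (pa i) (pb i) e1 f1 = 0 := hsq _ _ hr (by linear_combination hz.1 - hz.2 - hp)
    exact ⟨h0, by linear_combination hr - h0⟩
  have h00 := hx e1 e1
  have h01 := hx e1 e2
  have h02 := hx e1 f1
  have h03 := hx e1 f2
  have h11 := hx e2 e2
  have h10 := hx e2 e1
  have h12 := hx e2 f1
  have h13 := hx e2 f2
  have h20 := hx f1 e1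
  have h21 := hx f1 e2
  have h22 := hx f1 f1
  have h23 := hx f1 f2
  have h30 := hx f2 e1
  have h31 := hx f2 e2
  have h32 := hx f2 f1
  have h33 := hx f2 f2
  obtain ⟨r0, r0'⟩ := row e1
  obtain ⟨r1, r1'⟩ := row e2
  obtain ⟨r2, r2'⟩ := row f1
  obtain ⟨r3, r3'⟩ := row f2
  simp only [e1, e2, f1, f2, pa, pb, Sum.elim_inl, Sum.elim_inr, Matrix.cons_val_zero, Matrix.cons_val_one,
    Matrix.one_apply_eq, ne_eq, reduceCtorEq, not_false_eq_true, Matrix.one_apply_ne, Sum.inl.injEq, Sum.inr.injEq,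
    zero_ne_one, one_ne_zero, Fin.reduceEq] at *
  -- off-diagonal entries, row by row
  have a0 := mn_elim G (Sum.inl 0) (Sum.inl 1) (Sum.inl 0) (Sum.inl 1) (Sum.inr 0)
  have a1 := mn_elim G (Sum.inl 0) (Sum.inl 1) (Sum.inl 0) (Sum.inl 1) (Sum.inr 1)
  have b0 := mn_elim G (Sum.inl 0) (Sum.inr 1) (Sum.inl 0) (Sum.inr 1) (Sum.inl 1)
  have b1 := mn_elim G (Sum.inl 0) (Sum.inr 1) (Sum.inl 0) (Sum.inr 1) (Sum.inr 0)
  have c0 := mn_elim G (Sum.inr 0) (Sum.inr 1) (Sum.inr 0) (Sum.inr 1) (Sum.inl 0)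
  have c1 := mn_elim G (Sum.inr 0) (Sum.inr 1) (Sum.inr 0) (Sum.inr 1) (Sum.inl 1)
  have d0 := mn_elim G (Sum.inr 0) (Sum.inl 1) (Sum.inr 0) (Sum.inl 1) (Sum.inl 0)
  have d1 := mn_elim G (Sum.inr 0) (Sum.inl 1) (Sum.inr 0) (Sum.inl 1) (Sum.inr 1)
  simp only [mn] at *
  have z02 : G (Sum.inl 0) (Sum.inr 0) = 0 := by grind
  have z03 : G (Sum.inl 0) (Sum.inr 1) = 0 := by grind
  have z01 : G (Sum.inl 0) (Sum.inl 1) = 0 := by grind
  have z12 : G (Sum.inl 1) (Sum.inr 0) = 0 := by grind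
  have z13 : G (Sum.inl 1) (Sum.inr 1) = 0 := by grind
  have z10 : G (Sum.inl 1) (Sum.inl 0) = 0 := by grind
  have z20 : G (Sum.inr 0) (Sum.inl 0) = 0 := by grind
  have z21 : G (Sum.inr 0) (Sum.inl 1) = 0 := by grind
  have z23 : G (Sum.inr 0) (Sum.inr 1) = 0 := by grind
  have z30 : G (Sum.inr 1) (Sum.inl 0) = 0 := by grind
  have z31 : G (Sum.inr 1) (Sum.inl 1) = 0 := by grind
  have z32 : G (Sum.inr 1) (Sum.inr 0) = 0 := by grind
  have hsp := sp_form g (Pi.single (Sum.inl 0) 1) (Pi.single (Sum.inr 0) 1)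
  rw [Matrix.mulVec_single_one, Matrix.mulVec_single_one, sympForm_eq_sum, sympForm_eq_sum, Fin.sum_univ_two,
    Fin.sum_univ_two] at hsp
  have hsp' := sp_form g (Pi.single (Sum.inl 1) 1) (Pi.single (Sum.inr 1) 1)
  rw [Matrix.mulVec_single_one, Matrix.mulVec_single_one, sympForm_eq_sum, sympForm_eq_sum, Fin.sum_univ_two,
    Fin.sum_univ_two] at hsp'
  simp [Matrix.col, z20, z21, z30, z31, z02, z03, z12, z13, CharTwo.neg_eq, CharTwo.sub_eq_add] at hsp hsp'
  simp only [z02, z03, z01, z12, z13, z10, z20, z21, z23, z30, z31, z32, mul_zero, zero_mul, sub_zero] at h00 h11 h22 h33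
  have hone : ∀ x : F, x * x = 1 → x = 1 := fun x h => by
    rcases mul_self_eq_one_iff.mp h with e | e
    · exact e
    · rw [e, CharTwo.neg_eq]
  have w1 : G (Sum.inl 1) (Sum.inl 1) = 1 := hone _ (by grind)
  have w3 : G (Sum.inr 1) (Sum.inr 1) = 1 := by grind
  have w0 : G (Sum.inl 0) (Sum.inl 0) = 1 := by grind
  have w2 : G (Sum.inr 0) (Sum.inr 0) = 1 := by grind
  refine Subtype.ext (Matrix.ext fun i j => ?_)
  show G i j = (1 : Matrix (Fin 2 ⊕ Fin 2) (Fin 2 ⊕ Fin 2) F) i j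
  rcases i with i | i <;> rcases j with j | j <;> fin_cases i <;> fin_cases j <;>
    simp [z02, z03, z01, z12, z13, z10, z20, z21, z23, z30, z31, z32, w0, w1, w2, w3]

theorem thetaHomP_bijective : Function.Bijective (thetaHomP (F := F)) := by
  haveI : Finite Sp4 := Subtype.finite
  haveI : Finite P4 := Finite.of_surjective _ (pr_surjective (F := F) (m := 2))
  refine Finite.injective_iff_bijective.mp ((injective_iff_map_eq_one _).mpr fun x hx => ?_)
  obtain ⟨s, rfl⟩ := pr_surjective x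
  rw [thetaHomP_pr] at hx
  rw [eq_one_of_theta s (congrArg Subtype.val (pr_injective (hx.trans (map_one pr).symm))), map_one]

/-- The exceptional automorphism. -/
noncomputable def thetaP : MulAut P4 := MulEquiv.ofBijective thetaHomP thetaHomP_bijective

omit [Fintype F] in
theorem tau_eq_pr (v : V4) (c : F) : tau v c = pr (spT v c) := rfl

theorem thetaP_tau (c : F) : thetaP (tau (E 0 : V4) c) = pr (Sh c) := by
  show thetaHomP _ = _
  rw [tau_eq_pr, thetaHomP_pr, thetaSp_spT_E]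

theorem thetaP_Sh (c : F) : thetaP (pr (Sh c)) = tau (E 0 : V4) (c * c) := by
  show thetaHomP _ = _
  rw [thetaHomP_pr, thetaSp_Sh, tau_eq_pr]

/-- An automorphism sending one transvection to a transvection permutes the transvection groups. -/
theorem img_of_one {β : MulAut P4} {v : V4} {d : F} (h : β (tau (E 0) 1) = tau v d) (hv : v ≠ 0) :
    ∀ w : V4, w ≠ 0 → ∃ z, Img β w z := by
  haveI : Finite Sp4 := Subtype.finite
  have hall : ∀ (w : V4) (c : F), w ≠ 0 → ∃ z k, z ≠ 0 ∧ β (tau w c) = tau z k := by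
    intro w c hw
    rcases eq_or_ne c 0 with rfl | hc
    · exact ⟨v, 0, hv, by rw [tau_zero, tau_zero, map_one]⟩
    obtain ⟨a, ha⟩ := FiniteField.isSquare_of_char_two (ringChar.eq F 2) c
    have ha0 : a ≠ 0 := fun e => hc (by rw [ha, e, mul_zero])
    obtain ⟨r, hr⟩ := exists_sp_mulVec_eq (E_ne_zero (F := F) (0 : Fin 2)) (smul_ne_zero ha0 hw)
    have e : tau w c = pr r * tau (E 0) 1 * (pr r)⁻¹ := by
      rw [tau_conj, hr, tau_smul, one_mul, ha]
    obtain ⟨r', hr'⟩ := pr_surjective (β (pr r))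
    exact ⟨r'.1 *ᵥ v, d, sp_mulVec_ne_zero r' hv, by rw [e, map_mul, map_mul, map_inv, h, ← hr', tau_conj]⟩
  intro w hw
  obtain ⟨z, k, hz, hk⟩ := hall w 1 hw
  have hk0 : k ≠ 0 := fun e => one_ne_zero (α := F) (tau_injective 2 (by norm_num) hw (β.injective (by
    rw [hk, e, tau_zero, tau_zero, map_one])))
  have himg : ∀ c, ∃ k', β (tau w c) = tau z k' := by
    intro c
    obtain ⟨z', k', hz', hk'⟩ := hall w c hw
    rcases eq_or_ne c 0 with rfl | hc
    · exact ⟨0, by rw [tau_zero, tau_zero, map_one]⟩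
    have hk0' : k' ≠ 0 := fun e => hc (tau_injective 2 (by norm_num) hw (β.injective (by
      rw [hk', e, tau_zero, tau_zero, map_one])))
    have hperp : ∀ x, ω z x = 0 → ω z' x = 0 := by
      intro x hx
      rcases eq_or_ne x 0 with rfl | hx0
      · rw [show (0 : V4) = (0 : F) • (0 : V4) by simp, sympForm_smul_right, zero_mul]
      -- pull `x` back
      obtain ⟨y, j, hy, hj, hj0⟩ : ∃ y j, y ≠ 0 ∧ β (tau y 1) = tau x j ∧ j ≠ 0 := by
        obtain ⟨r, hr⟩ := exists_sp_mulVec_eq hv hx0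
        obtain ⟨r', hr'⟩ := pr_surjective (β.symm (pr r))
        refine ⟨r'.1 *ᵥ E 0, d, sp_mulVec_ne_zero r' (E_ne_zero 0), ?_, ?_⟩
        · rw [← tau_conj, map_mul, map_mul, map_inv, h, hr', MulEquiv.apply_symm_apply, tau_conj, hr]
        · exact fun e => one_ne_zero (α := F) (tau_injective 2 (by norm_num) (E_ne_zero (F := F) (0 : Fin 2))
            (β.injective (by rw [h, e, tau_zero, tau_zero, map_one])))
      have h1 : ω w y = 0 := by
        rw [← tau_commute_iff 2 (by norm_num) hw hy one_ne_zero one_ne_zero]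
        refine β.injective ?_
        rw [map_mul, map_mul, hk, hj]
        exact (tau_commute_iff 2 (by norm_num) hz hx0 hk0 hj0).mpr hx
      have h2 : tau z' k' * tau x j = tau x j * tau z' k' := by
        rw [← hk', ← hj, ← map_mul, ← map_mul, (tau_commute_iff 2 (by norm_num) hw hy hc one_ne_zero).mpr h1]
      exact (tau_commute_iff 2 (by norm_num) hz' hx0 hk0' hj0).mp h2
    obtain ⟨a, rfl⟩ : ∃ a : F, a • z = z' := by
      by_contra hne
      push Not at hne
      obtain ⟨x, hx1, hx2⟩ := exists_perp_pair hz hne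
      rw [hperp x hx1] at hx2
      exact zero_ne_one hx2
    exact ⟨k' * a * a, by rw [hk', tau_smul]⟩
  choose φ hφ using himg
  exact ⟨z, hz, φ, Finite.injective_iff_bijective.mp fun a b e =>
    tau_injective 2 (by norm_num) hw (β.injective (by rw [hφ, hφ, e])), hφ⟩

/-- Every automorphism, possibly twisted by the exceptional one, is diagonal times field. -/
theorem decomposition_or (β : MulAut P4) :
    (∃ (g : Cfsg.GSp 2 F) (σ : F ≃+* F), β = dia g * fld σ) ∨
      ∃ (g : Cfsg.GSp 2 F) (σ : F ≃+* F), thetaP * β = dia g * fld σ := by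
  classical
  haveI : Finite Sp4 := Subtype.finite
  obtain ⟨u, hu⟩ := pr_surjective (β (tau (E 0) 1))
  have huu : u * u = 1 := pr_injective (by
    rw [map_mul, hu, ← map_mul, tau_add, CharTwo.add_self_eq_zero, tau_zero, map_one, map_one])
  have hcard : Nat.card {x : Sp4 // ∃ g, x = g * u * g⁻¹} ≤ Fintype.card F ^ 4 - 1 := by
    have key : ∀ x : {x : Sp4 // ∃ g, x = g * u * g⁻¹}, ∃ v : {v : V4 // v ≠ 0}, pr x.1 = β (tau v.1 1) := by
      rintro ⟨x, g, rfl⟩
      obtain ⟨r, hr⟩ := pr_surjective (β.symm (pr g))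
      refine ⟨⟨r.1 *ᵥ E 0, sp_mulVec_ne_zero r (E_ne_zero 0)⟩, ?_⟩
      rw [← tau_conj, map_mul β, map_mul β, map_inv β, hr, MulEquiv.apply_symm_apply, map_mul, map_mul, map_inv, hu]
    choose v hv using key
    refine (Nat.card_le_card_of_injective v fun x y e => Subtype.ext (pr_injective ?_)).trans (le_of_eq ?_)
    · rw [hv, hv, e]
    · rw [Nat.card_eq_fintype_card, Fintype.card_subtype_compl, Fintype.card_subtype_eq, Fintype.card_fun,
        Fintype.card_sum, Fintype.card_fin]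
  rcases invol_cases u huu hcard with ⟨v, c, hv, rfl⟩ | ⟨g, c, rfl⟩
  · exact Or.inl (decomposition_of_img 2 le_rfl β (img_of_one hu.symm hv))
  · refine Or.inr (decomposition_of_img 2 le_rfl _ (img_of_one (v := (thetaSp g).1 *ᵥ E 0) (d := c * c) ?_
      (sp_mulVec_ne_zero _ (E_ne_zero 0))))
    rw [MulAut.mul_apply, ← hu, map_mul, map_mul, map_inv, map_mul, map_mul, map_inv, thetaP_Sh, ← tau_conj]
    rw [show thetaP (pr g) = pr (thetaSp g) from thetaHomP_pr g]

theorem thetaP_not_dia_fld (g : Cfsg.GSp 2 F) (σ : F ≃+* F) : thetaP ≠ dia g * fld σ := by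
  intro e
  have h := thetaP_tau (1 : F)
  rw [e, MulAut.mul_apply, fld_tau, dia_tau g (multHom_spec (by norm_num) g), tau_eq_pr] at h
  exact Sh_ne_transvection one_ne_zero _ _ (pr_injective h).symm

theorem thetaP_sq : ∃ (g : Cfsg.GSp 2 F) (σ : F ≃+* F),
    (thetaP * thetaP : MulAut P4) = dia g * fld σ ∧ ∀ c, σ c = c * c := by
  have hc : ∀ c : F, (thetaP * thetaP : MulAut P4) (tau (E 0 : V4) c) = tau (E 0) (c * c) := fun c => by
    rw [MulAut.mul_apply, thetaP_tau, thetaP_Sh]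
  obtain ⟨g, σ, e⟩ := decomposition_of_img 2 le_rfl (thetaP * thetaP) (img_of_one (hc 1) (E_ne_zero 0))
  refine ⟨g, σ, e, SympAut.sigma_eq_of_apply 2 (by norm_num) (g := g) (τ := fun c => c * c) (one_mul 1) fun c => ?_⟩
  rw [← e]
  exact hc c

theorem card_mulAut {f : ℕ} (hF : Fintype.card F = 2 ^ f) :
    Nat.card (MulAut P4) = 2 * f * Nat.card P4 := by
  haveI : Finite Sp4 := Subtype.finite
  have hS := SympAut.card_dia_fld (F := F) (m := 2) 2 (by norm_num) hF
  rw [Nat.card_congr (prEquiv (F := F)).toEquiv] at hS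
  set D := {a : MulAut P4 // ∃ (g : Cfsg.GSp 2 F) (σ : F ≃+* F), a = dia g * fld σ}
  have hcl : ∀ a : MulAut P4, (∃ (g : Cfsg.GSp 2 F) (σ : F ≃+* F), thetaP * a = dia g * fld σ) →
      ¬ ∃ (g : Cfsg.GSp 2 F) (σ : F ≃+* F), a = dia g * fld σ := by
    rintro a ⟨g, σ, ha⟩ ⟨g', σ', rfl⟩
    refine thetaP_not_dia_fld (g * galG (σ * σ'⁻¹) g'⁻¹) (σ * σ'⁻¹) ?_
    rw [eq_mul_inv_of_mul_eq ha, _root_.mul_inv_rev, ← map_inv, ← map_inv, ← mul_assoc, mul_assoc (dia g), ← map_mul,
      mul_assoc, fld_mul_dia, ← mul_assoc, ← map_mul]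
  have e : D ⊕ D ≃ MulAut P4 := Equiv.ofBijective (Sum.elim Subtype.val fun a => (thetaP)⁻¹ * a.1) ⟨by
      rintro (a | a) (b | b) h
      · exact congrArg _ (Subtype.ext h)
      · have h' : a.1 = (thetaP)⁻¹ * b.1 := h
        exact absurd a.2 (hcl _ (by rw [h', mul_inv_cancel_left]; exact b.2))
      · have h' : b.1 = (thetaP)⁻¹ * a.1 := h.symm
        exact absurd b.2 (hcl _ (by rw [h', mul_inv_cancel_left]; exact a.2))
      · exact congrArg _ (Subtype.ext (mul_left_cancel h)),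
    fun a => by
      rcases decomposition_or a with h | h
      · exact ⟨Sum.inl ⟨a, h⟩, rfl⟩
      · exact ⟨Sum.inr ⟨_, h⟩, inv_mul_cancel_left _ _⟩⟩
  rw [← Nat.card_congr e, Nat.card_sum, hS]
  ring

end Cfsg.Agent.Lib.Geometry.SpFour
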