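import Cfsg.Agent.Lib.Geometry.SymEmbed
import Cfsg.Agent.Lib.Classical.OrthCard

/-!
`O⁻₄(2) ≅ S₅` and `O⁺₆(2) ≅ S₈`.
-/

set_option autoImplicit false

namespace Cfsg.Agent.Lib.Geometry.SymEmbed

open Matrix

/-- Basis vectors for five letters. -/
def bFive : (Fin 1 ⊕ Fin 1) ⊕ Fin 2 → Fin 5 → ZMod 2 :=
  Sum.elim (Sum.elim (fun _ => ![0, 1, 1, 1, 1]) (fun _ => ![1, 0, 1, 1, 1]))
    ![![0, 0, 0, 1, 1], ![0, 0, 1, 0, 1]]

/-- Dual vectors for five letters. -/
def dFive : (Fin 1 ⊕ Fin 1) ⊕ Fin 2 → Fin 5 → ZMod 2 :=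
  Sum.elim (Sum.elim (fun _ => ![1, 0, 1, 1, 1]) (fun _ => ![0, 1, 1, 1, 1]))
    ![![0, 0, 1, 0, 1], ![0, 0, 0, 1, 1]]

/-- Basis vectors for eight letters. -/
def bEight : Fin 3 ⊕ Fin 3 → Fin 8 → ZMod 2 :=
  Sum.elim ![![0, 0, 0, 0, 1, 1, 1, 1], ![0, 0, 1, 1, 0, 0, 1, 1], ![0, 1, 0, 1, 0, 1, 0, 1]]
    ![![0, 0, 0, 1, 1, 1, 1, 0], ![0, 0, 1, 1, 1, 0, 0, 1], ![0, 1, 1, 0, 1, 0, 1, 0]]

/-- Dual vectors for eight letters. -/
def dEight : Fin 3 ⊕ Fin 3 → Fin 8 → ZMod 2 :=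
  Sum.elim ![![0, 0, 0, 1, 1, 1, 1, 0], ![0, 0, 1, 1, 1, 0, 0, 1], ![0, 1, 1, 0, 1, 0, 1, 0]]
    ![![0, 0, 0, 0, 1, 1, 1, 1], ![0, 0, 1, 1, 0, 0, 1, 1], ![0, 1, 0, 1, 0, 1, 0, 1]]

theorem data_five : Data bFive dFive where
  even_b := by decide +kernel
  even_d := by decide +kernel
  dual := by decide +kernel
  span := by decide +kernel

theorem data_eight : Data bEight dEight where
  even_b := by decide +kernel
  even_d := by decide +kernel
  dual := by decide +kernel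
  span := by decide +kernel

theorem shift_five : ∀ (x : Fin 5 → ZMod 2) (c : ZMod 2), ∑ k, x k = 0 → ∑ k, (x k + c) = 0 →
    halfWeight (fun k => x k + c) = halfWeight x := by decide +kernel

theorem shift_eight : ∀ (x : Fin 8 → ZMod 2) (c : ZMod 2), ∑ k, x k = 0 → ∑ k, (x k + c) = 0 →
    halfWeight (fun k => x k + c) = halfWeight x := by decide +kernel

theorem form_five : ∀ v : (Fin 1 ⊕ Fin 1) ⊕ Fin 2 → ZMod 2,
    Cfsg.quadFormMinus 1 (ZMod 2) 1 1 v = halfWeight (lift bFive v) := by decide +kernel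

theorem form_eight : ∀ v : Fin 3 ⊕ Fin 3 → ZMod 2,
    Cfsg.quadFormPlus 3 (ZMod 2) v = halfWeight (lift bEight v) := by decide +kernel

variable {F : Type*} [Field F] [Fintype F]

/-- Transfer to any field with two elements. -/
theorem equiv_of_data {N : ℕ} (hN : 5 ≤ N) {ι : Type} [Fintype ι] [DecidableEq ι] {b d : ι → Fin N → ZMod 2}
    (h : Data b d) (e : ZMod 2 ≃+* F) (Q₀ : (ι → ZMod 2) → ZMod 2) (Q : (ι → F) → F)
    (hQ : ∀ v, Q v = e (Q₀ fun i => e.symm (v i))) (hQ₀ : ∀ v, Q₀ v = halfWeight (lift b v))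
    (hshift : ∀ (x : Fin N → ZMod 2) (c : ZMod 2), ∑ k, x k = 0 → ∑ k, (x k + c) = 0 →
      halfWeight (fun k => x k + c) = halfWeight x)
    (hcard : Nat.card (Cfsg.isometryGroup F Q) = N.factorial) :
    Nonempty (Cfsg.isometryGroup F Q ≃* Equiv.Perm (Fin N)) := by
  let f : Equiv.Perm (Fin N) →* GL ι F :=
    (Units.map (e.toRingHom.mapMatrix).toMonoidHom).comp (permHom h)
  have hf : ∀ π, f π ∈ Cfsg.isometryGroup F Q := by
    intro π
    intro v w
    show Q (((permHom h π : Matrix ι ι (ZMod 2)).map e) *ᵥ v) = Q v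
    have hv : (((permHom h π : Matrix ι ι (ZMod 2)).map e) *ᵥ v) =
        fun i => e ((permM b d π *ᵥ fun j => e.symm (v j)) i) := by
      funext i
      rw [permHom_coe]
      simp [Matrix.mulVec, dotProduct]
    rw [hv, hQ, hQ v]
    simp only [RingEquiv.symm_apply_apply]
    rw [hQ₀, hQ₀, invariant h halfWeight halfWeight_perm hshift]
  let g := f.codRestrict _ hf
  have hg : Function.Injective g := fun x y hxy => by
    refine permHom_injective h hN (Units.ext (Matrix.map_injective e.injective ?_))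
    exact congrArg (fun z : Cfsg.isometryGroup F Q => ((z : GL ι F) : Matrix ι ι F)) hxy
  haveI : Finite (Cfsg.isometryGroup F Q) := Nat.finite_of_card_ne_zero (by rw [hcard]; exact N.factorial_ne_zero)
  exact ⟨(MulEquiv.ofBijective g ((Nat.bijective_iff_injective_and_card g).mpr
    ⟨hg, by rw [hcard, Nat.card_perm, Nat.card_fin]⟩)).symm⟩

theorem orth_minus_four_two (hF : Fintype.card F = 2) :
    Nonempty (Cfsg.isometryGroup F (Cfsg.quadFormMinus 1 F 1 1) ≃* Equiv.Perm (Fin 5)) := by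
  let e : ZMod 2 ≃+* F := ZMod.ringEquivOfPrime F Nat.prime_two hF
  refine equiv_of_data le_rfl data_five e _ _ (fun v => ?_) form_five shift_five ?_
  · have hsq : ∀ x : F, x ^ 2 = x := fun x => by rw [← hF]; exact FiniteField.pow_card x
    simp [Cfsg.quadFormMinus, map_sum, map_pow, map_mul, map_add, hsq]
  · rw [Cfsg.Agent.Lib.Classical.card_orth_minus hF 2 (by norm_num) 1 1]
    · rfl
    · intro z w h
      obtain ⟨a, rfl⟩ := e.surjective z
      obtain ⟨b, rfl⟩ := e.surjective w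
      simp only [← map_one e, ← map_pow, ← map_mul, ← map_add, map_eq_zero_iff e e.injective] at h ⊢
      revert a b
      decide +kernel

theorem orth_plus_six_two (hF : Fintype.card F = 2) :
    Nonempty (Cfsg.isometryGroup F (Cfsg.quadFormPlus 3 F) ≃* Equiv.Perm (Fin 8)) := by
  let e : ZMod 2 ≃+* F := ZMod.ringEquivOfPrime F Nat.prime_two hF
  refine equiv_of_data (by norm_num) data_eight e _ _ (fun v => ?_) form_eight shift_eight ?_
  · simp [Cfsg.quadFormPlus, map_sum, map_mul]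
  · rw [Cfsg.Agent.Lib.Classical.card_orth_plus hF 3 (by norm_num)]
    rfl

end Cfsg.Agent.Lib.Geometry.SymEmbed
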