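import Cfsg.Agent.Lib.Geometry.StabilizerProd
import Cfsg.Agent.Lib.Classical.SympCard
import Cfsg.Agent.Lib.Classical.LinearCard

/-!
Counting totally isotropic tuples in a symplectic space, and the parabolic subgroups.
-/

set_option autoImplicit false

namespace Cfsg.Agent.Lib.Geometry

open scoped Matrix
open Module (finrank)

variable {F : Type*} [Field F] [Fintype F]

/-- Independent tuples spanning a totally isotropic subspace. -/
def IsoTuple (m j : ℕ) (t : Fin j → Fin m ⊕ Fin m → F) : Prop :=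
  LinearIndependent F t ∧ ∀ a b, Cfsg.sympForm m F (t a) (t b) = 0

omit [Fintype F] in
theorem isoTuple_snoc_iff {m j : ℕ} (p : Fin j → Fin m ⊕ Fin m → F) (x : Fin m ⊕ Fin m → F) :
    IsoTuple m (j + 1) (Fin.snoc p x) ↔ IsoTuple m j p ∧
      x ∈ (sympBilin m F).orthogonal (Submodule.span F (Set.range p)) ∧
      x ∉ Submodule.span F (Set.range p) := by
  rw [IsoTuple, linearIndependent_finSnoc, LinearMap.BilinForm.mem_orthogonal_iff]
  constructor
  · rintro ⟨⟨hp, hx⟩, h⟩
    refine ⟨⟨hp, fun a b => by simpa using h a.castSucc b.castSucc⟩, fun y hy => ?_, hx⟩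
    show sympBilin m F y x = 0
    induction hy using Submodule.span_induction with
    | mem y hy => obtain ⟨a, rfl⟩ := hy; rw [sympBilin_apply]; simpa using h a.castSucc (Fin.last j)
    | zero => simp
    | add y z _ _ h1 h2 => rw [map_add, LinearMap.add_apply, h1, h2, add_zero]
    | smul c y _ h1 => rw [map_smul, LinearMap.smul_apply, h1, smul_zero]
  · rintro ⟨⟨hp, h⟩, hperp, hx⟩
    refine ⟨⟨hp, hx⟩, fun a b => ?_⟩
    have h' : ∀ a, Cfsg.sympForm m F (p a) x = 0 := fun a => by
      rw [← sympBilin_apply]; exact hperp _ (Submodule.subset_span ⟨a, rfl⟩)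
    refine Fin.lastCases ?_ (fun a => ?_) a <;> refine Fin.lastCases ?_ (fun b => ?_) b <;>
      simp [sympForm_self, h, h']
    rw [sympForm_swap, h', neg_zero]

omit [Fintype F] in
theorem finrank_orth {m : ℕ} (W : Submodule F (Fin m ⊕ Fin m → F)) :
    finrank F ((sympBilin m F).orthogonal W) = 2 * m - finrank F W := by
  rw [LinearMap.BilinForm.finrank_orthogonal (sympBilin_nondegenerate F m),
    Module.finrank_fintype_fun_eq_card, Fintype.card_sum, Fintype.card_fin, two_mul]

/-- The number of totally isotropic independent tuples. -/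
theorem card_isoTuple (m : ℕ) : ∀ j, Nat.card {t : Fin j → Fin m ⊕ Fin m → F // IsoTuple m j t} =
    ∏ i ∈ Finset.range j, (Fintype.card F ^ (2 * m - i) - Fintype.card F ^ i)
  | 0 => by
    rw [Finset.prod_range_zero, Nat.card_eq_one_iff_exists]
    exact ⟨⟨Fin.elim0, linearIndependent_empty_type, fun a => a.elim0⟩, fun t => Subtype.ext (Subsingleton.elim _ _)⟩
  | j + 1 => by
    classical
    rw [Finset.prod_range_succ, ← card_isoTuple m j]
    let e : {t : Fin (j + 1) → Fin m ⊕ Fin m → F // IsoTuple m (j + 1) t} ≃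
        Σ p : {t : Fin j → Fin m ⊕ Fin m → F // IsoTuple m j t},
          {x : Fin m ⊕ Fin m → F // x ∈ (sympBilin m F).orthogonal (Submodule.span F (Set.range p.1)) ∧
            x ∉ Submodule.span F (Set.range p.1)} :=
      { toFun := fun t =>
          have h := (isoTuple_snoc_iff (Fin.init t.1) (t.1 (Fin.last j))).mp (by rw [Fin.snoc_init_self]; exact t.2)
          ⟨⟨Fin.init t.1, h.1⟩, t.1 (Fin.last j), h.2⟩
        invFun := fun s => ⟨Fin.snoc s.1.1 s.2.1, (isoTuple_snoc_iff _ _).mpr ⟨s.1.2, s.2.2⟩⟩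
        left_inv := fun t => Subtype.ext (Fin.snoc_init_self t.1)
        right_inv := fun ⟨⟨p, hp⟩, x, hx⟩ =>
          Sigma.subtype_ext (Subtype.ext (by simp)) (by simp) }
    haveI := Fintype.ofFinite {t : Fin j → Fin m ⊕ Fin m → F // IsoTuple m j t}
    rw [Nat.card_congr e, Nat.card_sigma, Nat.card_eq_fintype_card (α := {t : Fin j → Fin m ⊕ Fin m → F // IsoTuple m j t}),
      mul_comm]
    rw [Finset.sum_congr rfl fun p _ => ?_, Finset.sum_const, Finset.card_univ, smul_eq_mul, mul_comm]
    have hfr : finrank F (Submodule.span F (Set.range p.1)) = j :=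
      (finrank_span_eq_card p.2.1).trans (Fintype.card_fin j)
    have hle : Submodule.span F (Set.range p.1) ≤
        (sympBilin m F).orthogonal (Submodule.span F (Set.range p.1)) := by
      rw [Submodule.span_le]
      rintro _ ⟨a, rfl⟩
      rw [SetLike.mem_coe, LinearMap.BilinForm.mem_orthogonal_iff]
      intro y hy
      show sympBilin m F y (p.1 a) = 0
      induction hy using Submodule.span_induction with
      | mem y hy => obtain ⟨b, rfl⟩ := hy; rw [sympBilin_apply]; exact p.2.2 b a
      | zero => simp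
      | add y z _ _ h1 h2 => rw [map_add, LinearMap.add_apply, h1, h2, add_zero]
      | smul c y _ h1 => rw [map_smul, LinearMap.smul_apply, h1, smul_zero]
    change Nat.card ↥(((((sympBilin m F).orthogonal (Submodule.span F (Set.range p.1))) :
        Submodule F (Fin m ⊕ Fin m → F)) : Set (Fin m ⊕ Fin m → F)) \
      ((Submodule.span F (Set.range p.1) : Submodule F (Fin m ⊕ Fin m → F)) : Set (Fin m ⊕ Fin m → F))) = _
    rw [Nat.card_coe_set_eq, Set.ncard_sdiff (SetLike.coe_subset_coe.mpr hle) (Set.toFinite _), ← Nat.card_coe_set_eq, ← Nat.card_coe_set_eq,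
      SetLike.coe_sort_coe, SetLike.coe_sort_coe, Module.natCard_eq_pow_finrank (K := F) (V := Submodule.span F (Set.range p.1)),
      Module.natCard_eq_pow_finrank (K := F) (V := (sympBilin m F).orthogonal (Submodule.span F (Set.range p.1))),
      finrank_orth, hfr, Nat.card_eq_fintype_card]

omit [Fintype F] in
/-- `Sp` is transitive on isotropic tuples. -/
theorem exists_sp_map_tuple {m j : ℕ} {t t' : Fin j → Fin m ⊕ Fin m → F} (ht : IsoTuple m j t) (ht' : IsoTuple m j t') :
    ∃ g : Matrix.symplecticGroup (Fin m) F, ∀ a, g.1 *ᵥ t a = t' a := by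
  let b := Module.Basis.span ht.1
  let φ : Submodule.span F (Set.range t) →ₗ[F] (Fin m ⊕ Fin m → F) := b.constr F t'
  have hφ : ∀ x, φ x = ∑ i, b.equivFun x i • t' i := fun x => by
    rw [show φ x = b.constr F t' x from rfl, Module.Basis.constr_apply_fintype]
  have hinj : Function.Injective φ := by
    refine (injective_iff_map_eq_zero _).mpr fun x hx => ?_
    rw [hφ] at hx
    exact b.equivFun.map_eq_zero_iff.mp (funext fun i => Fintype.linearIndependent_iff.mp ht'.1 _ hx i)
  have hb : ∀ a, ((b a : Submodule.span F (Set.range t)) : Fin m ⊕ Fin m → F) = t a := fun a =>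
    congrArg Subtype.val (Module.Basis.span_apply ht.1 a)
  have hz : ∀ (s : Fin j → Fin m ⊕ Fin m → F), (∀ a c, Cfsg.sympForm m F (s a) (s c) = 0) →
      ∀ c d : Fin j → F, sympBilin m F (∑ i, c i • s i) (∑ i, d i • s i) = 0 := fun s hs c d => by
    simp [sympBilin_apply, hs]
  obtain ⟨g, hg, hgx⟩ := witt_alternating (sympBilin m F) (sympBilin_nondegenerate F m) sympBilin_isAlt
    (Submodule.span F (Set.range t)) φ hinj (fun x x' => by
      rw [hφ, hφ, hz t' ht'.2]
      conv_rhs => rw [← b.sum_equivFun x, ← b.sum_equivFun x']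
      simp only [Submodule.coe_sum, Submodule.coe_smul, hb]
      rw [hz t ht.2])
  refine ⟨⟨LinearMap.toMatrix' g.toLinearMap, mem_symplecticGroup_iff_form.mpr fun u v => ?_⟩,
    fun a => ?_⟩
  · rw [← Matrix.toLin'_apply, ← Matrix.toLin'_apply, Matrix.toLin'_toMatrix', ← sympBilin_apply, ← sympBilin_apply]
    exact hg u v
  · show LinearMap.toMatrix' g.toLinearMap *ᵥ t a = _
    rw [← Matrix.toLin'_apply, Matrix.toLin'_toMatrix', ← hb a]
    exact (hgx (b a)).trans (b.constr_basis F t' a)

/-- Orbit counting: a subgroup is the transporter of the set of tuples it permutes. -/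
theorem card_stab_mul {m j : ℕ} (S : Subgroup (Matrix.symplecticGroup (Fin m) F))
    (T : (Fin j → Fin m ⊕ Fin m → F) → Prop) (hT : ∀ t, T t → IsoTuple m j t) {t₀ : Fin j → Fin m ⊕ Fin m → F}
    (h₀ : T t₀) (hS : ∀ g, g ∈ S ↔ T fun a => g.1 *ᵥ t₀ a) :
    Nat.card S * Nat.card {t : Fin j → Fin m ⊕ Fin m → F // IsoTuple m j t} =
      Nat.card (Matrix.symplecticGroup (Fin m) F) * Nat.card {t : Fin j → Fin m ⊕ Fin m → F // T t} := by
  classical
  haveI : Finite (Matrix.symplecticGroup (Fin m) F) := inferInstance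
  let act : Matrix.symplecticGroup (Fin m) F → (Fin j → Fin m ⊕ Fin m → F) := fun g a => g.1 *ᵥ t₀ a
  have hfib : ∀ t, IsoTuple m j t → Nat.card {g // act g = t} = Nat.card {g // act g = t₀} := by
    intro t ht
    obtain ⟨k, hk⟩ := exists_sp_map_tuple (hT _ h₀) ht
    refine Nat.card_congr
      { toFun := fun g => ⟨k⁻¹ * g.1, funext fun a => ?_⟩
        invFun := fun g => ⟨k * g.1, funext fun a => ?_⟩
        left_inv := fun g => Subtype.ext (mul_inv_cancel_left k g.1)
        right_inv := fun g => Subtype.ext (inv_mul_cancel_left k g.1) }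
    · show (k⁻¹ * g.1).1 *ᵥ t₀ a = t₀ a
      rw [Submonoid.coe_mul, ← Matrix.mulVec_mulVec, show g.1.1 *ᵥ t₀ a = t a from congrFun g.2 a, ← hk a,
        Matrix.mulVec_mulVec, ← Submonoid.coe_mul, inv_mul_cancel, Submonoid.coe_one, Matrix.one_mulVec]
    · show (k * g.1).1 *ᵥ t₀ a = t a
      rw [Submonoid.coe_mul, ← Matrix.mulVec_mulVec, show g.1.1 *ᵥ t₀ a = t₀ a from congrFun g.2 a, hk a]
  have hact : ∀ g, IsoTuple m j (act g) := fun g => by
    refine ⟨(hT _ h₀).1.map' (Matrix.mulVecLin g.1) (LinearMap.ker_eq_bot.mpr ?_), fun a b => ?_⟩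
    · exact mulVec_injective_of_hom (Cfsg.spToMat m F) g
    · exact (mem_symplecticGroup_iff_form.mp g.2 _ _).trans ((hT _ h₀).2 a b)
  have count : ∀ (P : (Fin j → Fin m ⊕ Fin m → F) → Prop), (∀ t, P t → IsoTuple m j t) →
      Nat.card {g // P (act g)} = Nat.card {g // act g = t₀} * Nat.card {t // P t} := by
    intro P hP
    haveI := Fintype.ofFinite {t // P t}
    rw [Nat.card_congr (Equiv.sigmaFiberEquiv (fun g : {g // P (act g)} => (⟨act g.1, g.2⟩ : {t // P t}))).symm,
      Nat.card_sigma, Finset.sum_congr rfl fun t _ => ?_, Finset.sum_const, Finset.card_univ, smul_eq_mul,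
      Nat.card_eq_fintype_card (α := {t // P t}), mul_comm]
    rw [← hfib t.1 (hP _ t.2)]
    exact Nat.card_congr
      { toFun := fun g => ⟨g.1.1, congrArg Subtype.val g.2⟩
        invFun := fun g => ⟨⟨g.1, g.2.symm ▸ t.2⟩, Subtype.ext g.2⟩
        left_inv := fun g => Subtype.ext (Subtype.ext rfl)
        right_inv := fun g => Subtype.ext rfl }
  have hall := count (IsoTuple m j) (fun t h => h)
  rw [Nat.card_congr (Equiv.subtypeUnivEquiv hact)] at hall
  have hsub := count T hT
  rw [← Nat.card_congr (Equiv.subtypeEquivRight hS)] at hsub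
  rw [hall, hsub]
  ring

end Cfsg.Agent.Lib.Geometry
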