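import Cfsg.Agent.Lib.Geometry.UnitaryBasic
import Cfsg.Agent.Lib.Geometry.WittHermitian
import Cfsg.Agent.Lib.Classical.HermCard
import Mathlib.LinearAlgebra.Matrix.GeneralLinearGroup.Card

/-!
Counting totally isotropic tuples in a hermitian space.
-/

set_option autoImplicit false

namespace Cfsg.Agent.Lib.Geometry

open scoped Matrix
open Module (finrank)
open Cfsg.Agent.Lib.Classical (hermCount)

variable {F : Type*} [Field F] [Fintype F] {q : ℕ}

attribute [-simp] Fin.natAdd_eq_addNat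

/-- Independent tuples with totally isotropic span. -/
def IsoHerm (q n j : ℕ) (t : Fin j → Fin n → F) : Prop :=
  LinearIndependent F t ∧ ∀ a b, Cfsg.hermForm n F q (t a) (t b) = 0

/-- The possible extensions of an isotropic tuple. -/
def extSet (q n : ℕ) {j : ℕ} (t : Fin j → Fin n → F) : Set (Fin n → F) :=
  {x | ((∀ a, Cfsg.hermForm n F q x (t a) = 0) ∧ Cfsg.hermForm n F q x x = 0) ∧ x ∉ Submodule.span F (Set.range t)}

theorem isoHerm_snoc_iff (hF : Fintype.card F = q ^ 2) {n j : ℕ} (p : Fin j → Fin n → F) (x : Fin n → F) :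
    IsoHerm q n (j + 1) (Fin.snoc p x) ↔ IsoHerm q n j p ∧ x ∈ extSet q n p := by
  rw [IsoHerm, linearIndependent_finSnoc]
  constructor
  · rintro ⟨⟨hp, hx⟩, h⟩
    exact ⟨⟨hp, fun a b => by simpa using h a.castSucc b.castSucc⟩,
      ⟨⟨fun a => by simpa using h (Fin.last j) a.castSucc, by simpa using h (Fin.last j) (Fin.last j)⟩, hx⟩⟩
  · rintro ⟨⟨hp, h⟩, ⟨⟨h1, h2⟩, hx⟩⟩
    refine ⟨⟨hp, hx⟩, fun a b => ?_⟩
    have h' : ∀ a, Cfsg.hermForm n F q (p a) x = 0 := fun a => by
      rw [← Cfsg.Agent.Lib.Classical.hermForm_conj hF x (p a), h1, map_zero]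
    refine Fin.lastCases ?_ (fun a => ?_) a <;> refine Fin.lastCases ?_ (fun b => ?_) b <;>
      simp [h, h', h1, h2]

/-- Witt's theorem for tuples. -/
theorem exists_map_herm (hF : Fintype.card F = q ^ 2) {n j : ℕ} {t t' : Fin j → Fin n → F}
    (ht : IsoHerm q n j t) (ht' : IsoHerm q n j t') :
    ∃ g : (Fin n → F) ≃ₗ[F] (Fin n → F),
      (∀ u v, Cfsg.hermForm n F q (g u) (g v) = Cfsg.hermForm n F q u v) ∧ ∀ a, g (t a) = t' a := by
  let b := Module.Basis.span ht.1
  let φ : Submodule.span F (Set.range t) →ₗ[F] (Fin n → F) := b.constr F t'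
  have hφ : ∀ x, φ x = ∑ i, b.equivFun x i • t' i := fun x => by
    rw [show φ x = b.constr F t' x from rfl, Module.Basis.constr_apply_fintype]
  have hinj : Function.Injective φ := by
    refine (injective_iff_map_eq_zero _).mpr fun x hx => ?_
    rw [hφ] at hx
    exact b.equivFun.map_eq_zero_iff.mp (funext fun i => Fintype.linearIndependent_iff.mp ht'.1 _ hx i)
  have hb : ∀ a, ((b a : Submodule.span F (Set.range t)) : Fin n → F) = t a := fun a =>
    congrArg Subtype.val (Module.Basis.span_apply ht.1 a)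
  have hz : ∀ (s : Fin j → Fin n → F), (∀ a c, Cfsg.hermForm n F q (s a) (s c) = 0) →
      ∀ c d : Fin j → F, hermBilin n hF (∑ i, c i • s i) (∑ i, d i • s i) = 0 := fun s hs c d => by
    simp [LinearMap.map_smulₛₗ, hermBilin_apply hF, hs]
  obtain ⟨g, hg, hgx⟩ := witt_hermitian (hermBilin n hF) (frobQ_ne_id hF) (frobQ_frobQ hF) (hermBilin_isSymm hF)
    (hermBilin_nondegenerate hF) (Submodule.span F (Set.range t)) φ hinj (fun x x' => by
      rw [hφ, hφ, hz t' ht'.2]
      conv_rhs => rw [← b.sum_equivFun x, ← b.sum_equivFun x']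
      simp only [Submodule.coe_sum, Submodule.coe_smul, hb]
      rw [hz t ht.2])
  exact ⟨g, fun u v => hg v u, fun a => by rw [← hb a]; exact (hgx (b a)).trans (b.constr_basis F t' a)⟩

theorem card_ext_congr (hF : Fintype.card F = q ^ 2) {n j : ℕ} {t t' : Fin j → Fin n → F}
    (ht : IsoHerm q n j t) (ht' : IsoHerm q n j t') :
    Nat.card (extSet q n t) = Nat.card (extSet q n t') := by
  obtain ⟨g, hg, hgt⟩ := exists_map_herm hF ht ht'
  refine Nat.card_congr (g.toEquiv.subtypeEquiv fun x => ?_)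
  have hspan : (Submodule.span F (Set.range t)).map (g : (Fin n → F) →ₗ[F] (Fin n → F)) = Submodule.span F (Set.range t') := by
    rw [Submodule.map_span, ← Set.range_comp]
    congr 1
    exact congrArg Set.range (funext hgt)
  show ((∀ a, Cfsg.hermForm n F q x (t a) = 0) ∧ Cfsg.hermForm n F q x x = 0) ∧ x ∉ Submodule.span F (Set.range t) ↔
    ((∀ a, Cfsg.hermForm n F q (g x) (t' a) = 0) ∧ Cfsg.hermForm n F q (g x) (g x) = 0) ∧
      g x ∉ Submodule.span F (Set.range t')
  rw [hg, ← hspan, Submodule.mem_map_equiv, g.symm_apply_apply]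
  simp only [← hgt, hg]

/-- The standard isotropic tuple. -/
def stdTuple (α : F) (j r : ℕ) : Fin j → Fin (j + j + r) → F := fun a =>
  Pi.single (Fin.castAdd r (Fin.castAdd j a)) 1 + α • Pi.single (Fin.castAdd r (Fin.natAdd j a)) 1

omit [Fintype F] in
theorem stdTuple_L (α : F) (j r : ℕ) (a b : Fin j) :
    stdTuple α j r a (Fin.castAdd r (Fin.castAdd j b)) = if a = b then 1 else 0 := by
  have h : (Fin.castAdd r (Fin.castAdd j b)) ≠ Fin.castAdd r (Fin.natAdd j a) := fun e => by
    have := congrArg Fin.val e; simp at this; omega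
  by_cases hab : a = b
  · subst hab; simp [stdTuple, Pi.single_eq_of_ne h]
  · have h' : (Fin.castAdd r (Fin.castAdd j b)) ≠ Fin.castAdd r (Fin.castAdd j a) := fun e => hab (by
      ext; have := congrArg Fin.val e; simpa using this.symm)
    simp [stdTuple, Pi.single_eq_of_ne h, Pi.single_eq_of_ne h', hab]

omit [Fintype F] in
theorem stdTuple_R (α : F) (j r : ℕ) (a b : Fin j) :
    stdTuple α j r a (Fin.castAdd r (Fin.natAdd j b)) = if a = b then α else 0 := by
  have h : (Fin.castAdd r (Fin.natAdd j b)) ≠ Fin.castAdd r (Fin.castAdd j a) := fun e => by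
    have := congrArg Fin.val e; simp at this; omega
  by_cases hab : a = b
  · subst hab; simp [stdTuple, Pi.single_eq_of_ne h]
  · have h' : (Fin.castAdd r (Fin.natAdd j b)) ≠ Fin.castAdd r (Fin.natAdd j a) := fun e => hab (by
      ext; have := congrArg Fin.val e; simpa using this.symm)
    simp [stdTuple, Pi.single_eq_of_ne h, Pi.single_eq_of_ne h', hab]

omit [Fintype F] in
theorem stdTuple_T (α : F) (j r : ℕ) (a : Fin j) (i : Fin r) : stdTuple α j r a (Fin.natAdd (j + j) i) = 0 := by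
  have h : (Fin.natAdd (j + j) i) ≠ Fin.castAdd r (Fin.castAdd j a) := fun e => by
    have := congrArg Fin.val e; simp at this; omega
  have h' : (Fin.natAdd (j + j) i) ≠ Fin.castAdd r (Fin.natAdd j a) := fun e => by
    have := congrArg Fin.val e; simp at this; omega
  simp [stdTuple, Pi.single_eq_of_ne h, Pi.single_eq_of_ne h']

theorem stdTuple_isoHerm (hF : Fintype.card F = q ^ 2) {α : F} (hα : α ^ (q + 1) = -1) (j r : ℕ) :
    IsoHerm q (j + j + r) j (stdTuple α j r) := by
  refine ⟨Fintype.linearIndependent_iff.mpr fun c hc a => ?_, fun a b => ?_⟩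
  · have h := congrFun hc (Fin.castAdd r (Fin.castAdd j a))
    simpa [Finset.sum_apply, stdTuple_L] using h
  · have hq0 : (0 : F) ^ q = 0 := Cfsg.Agent.Lib.Classical.zero_pow_q hF
    rw [Cfsg.hermForm, Fin.sum_univ_add, Fin.sum_univ_add]
    simp only [stdTuple_L, stdTuple_R, stdTuple_T, zero_mul, Finset.sum_const_zero, add_zero]
    by_cases hab : a = b
    · subst hab
      rw [Finset.sum_eq_single a (fun x _ hx => by rw [if_neg (Ne.symm hx), zero_mul]) (by simp),
        Finset.sum_eq_single a (fun x _ hx => by rw [if_neg (Ne.symm hx), zero_mul]) (by simp),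
        if_pos rfl, if_pos rfl, one_pow, one_mul, ← pow_succ', hα, add_neg_cancel]
    · rw [Finset.sum_eq_zero fun x _ => ?_, Finset.sum_eq_zero fun x _ => ?_, add_zero]
      · by_cases hx : a = x
        · subst hx; rw [if_neg (Ne.symm hab), hq0, mul_zero]
        · rw [if_neg hx, zero_mul]
      · by_cases hx : a = x
        · subst hx; rw [if_neg (Ne.symm hab), hq0, mul_zero]
        · rw [if_neg hx, zero_mul]

theorem exists_norm_neg_one (hF : Fintype.card F = q ^ 2) : ∃ α : F, α ^ (q + 1) = -1 := by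
  classical
  have h := Cfsg.Agent.Lib.Classical.card_norm_eq hF (-1) (Cfsg.Agent.Lib.Classical.neg_one_pow_q hF)
  rw [if_neg (neg_ne_zero.mpr one_ne_zero)] at h
  obtain ⟨⟨α, hα⟩⟩ := (Nat.card_pos_iff.mp (show 0 < Nat.card {x : F // x ^ (q + 1) = -1} by rw [h]; omega)).1
  exact ⟨α, hα⟩

theorem card_ext_std (hF : Fintype.card F = q ^ 2) {α : F} (hα : α ^ (q + 1) = -1) (j r : ℕ) :
    Nat.card (extSet q (j + j + r) (stdTuple α j r)) =
      (q ^ 2) ^ j * hermCount F q r 0 - (q ^ 2) ^ j := by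
  classical
  set t := stdTuple α j r with ht
  have hq0 : (0 : F) ^ q = 0 := Cfsg.Agent.Lib.Classical.zero_pow_q hF
  have hperp : ∀ (x : Fin (j + j + r) → F) (a : Fin j), Cfsg.hermForm (j + j + r) F q x (t a) =
      x (Fin.castAdd r (Fin.castAdd j a)) + x (Fin.castAdd r (Fin.natAdd j a)) * α ^ q := by
    intro x a
    rw [Cfsg.hermForm, Fin.sum_univ_add, Fin.sum_univ_add]
    simp only [ht, stdTuple_L, stdTuple_R, stdTuple_T, hq0, mul_zero, Finset.sum_const_zero, add_zero]
    rw [Finset.sum_eq_single a (fun x _ hx => by rw [if_neg (Ne.symm hx), hq0, mul_zero]) (by simp),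
      Finset.sum_eq_single a (fun x _ hx => by rw [if_neg (Ne.symm hx), hq0, mul_zero]) (by simp),
      if_pos rfl, if_pos rfl, one_pow, mul_one]
  have hself : ∀ x : Fin (j + j + r) → F, (∀ a, Cfsg.hermForm (j + j + r) F q x (t a) = 0) →
      Cfsg.hermForm (j + j + r) F q x x =
        Cfsg.hermForm r F q (fun i => x (Fin.natAdd (j + j) i)) (fun i => x (Fin.natAdd (j + j) i)) := by
    intro x hx
    rw [Cfsg.hermForm, Fin.sum_univ_add, Fin.sum_univ_add, ← Finset.sum_add_distrib,
      Finset.sum_eq_zero fun a _ => ?_, zero_add]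
    · rfl
    · have h := (hperp x a).symm.trans (hx a)
      rw [add_eq_zero_iff_eq_neg] at h
      rw [h]
      have h1 : (-1 : F) ^ q = -1 := Cfsg.Agent.Lib.Classical.neg_one_pow_q hF
      have h2 : (α ^ q) ^ (q + 1) = -1 := by rw [← pow_mul, mul_comm, pow_mul, hα, h1]
      have h3 : (-(x (Fin.castAdd r (Fin.natAdd j a)) * α ^ q)) * (-(x (Fin.castAdd r (Fin.natAdd j a)) * α ^ q)) ^ q =
          - (x (Fin.castAdd r (Fin.natAdd j a)) * x (Fin.castAdd r (Fin.natAdd j a)) ^ q) := by
        rw [neg_pow, h1, mul_pow, neg_one_mul, neg_mul_neg]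
        calc x (Fin.castAdd r (Fin.natAdd j a)) * α ^ q * (x (Fin.castAdd r (Fin.natAdd j a)) ^ q * (α ^ q) ^ q)
            = x (Fin.castAdd r (Fin.natAdd j a)) * x (Fin.castAdd r (Fin.natAdd j a)) ^ q * (α ^ q) ^ (q + 1) := by ring
          _ = _ := by rw [h2]; ring
      rw [h3, neg_add_cancel]
  set A : Set (Fin (j + j + r) → F) :=
    {x | (∀ a, Cfsg.hermForm (j + j + r) F q x (t a) = 0) ∧ Cfsg.hermForm (j + j + r) F q x x = 0} with hA
  let e : A ≃ (Fin j → F) × {v : Fin r → F // Cfsg.hermForm r F q v v = 0} :=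
    { toFun := fun x => (fun a => x.1 (Fin.castAdd r (Fin.natAdd j a)),
        ⟨fun i => x.1 (Fin.natAdd (j + j) i), by rw [← hself x.1 x.2.1]; exact x.2.2⟩)
      invFun := fun p =>
        have hp : ∀ a, Cfsg.hermForm (j + j + r) F q
            (Fin.append (Fin.append (fun a => -(p.1 a * α ^ q)) p.1) p.2.1) (t a) = 0 := fun a => by
          rw [hperp]; simp
        ⟨Fin.append (Fin.append (fun a => -(p.1 a * α ^ q)) p.1) p.2.1, hp, by
          rw [hself _ hp]; simpa using p.2.2⟩
      left_inv := fun x => Subtype.ext (funext fun i => by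
        refine Fin.addCases (fun i => ?_) (fun i => ?_) i
        · refine Fin.addCases (fun a => ?_) (fun a => ?_) i
          · simp [eq_neg_of_add_eq_zero_left ((hperp x.1 a).symm.trans (x.2.1 a))]
          · simp
        · simp)
      right_inv := fun p => by ext <;> simp }
  have hiso := stdTuple_isoHerm hF hα j r
  have hsub : ((Submodule.span F (Set.range t) : Submodule F (Fin (j + j + r) → F)) : Set (Fin (j + j + r) → F)) ⊆ A := by
    intro x hx
    obtain ⟨c, rfl⟩ := (Submodule.mem_span_range_iff_exists_fun F).mp hx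
    refine ⟨fun a => ?_, ?_⟩ <;> rw [← hermBilin_apply hF] <;>
      simp only [map_sum, LinearMap.sum_apply, LinearMap.map_smulₛₗ, LinearMap.smul_apply, map_smul] <;>
      simp [hermBilin_apply hF, ht, hiso.2]
  change Nat.card ↥(A \ ((Submodule.span F (Set.range t) : Submodule F _) : Set (Fin (j + j + r) → F))) = _
  rw [Nat.card_coe_set_eq, Set.ncard_sdiff hsub (Set.toFinite _), ← Nat.card_coe_set_eq, ← Nat.card_coe_set_eq,
    SetLike.coe_sort_coe, Nat.card_congr e, Nat.card_prod, Nat.card_fun,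
    Module.natCard_eq_pow_finrank (K := F) (V := Submodule.span F (Set.range t)),
    (finrank_span_eq_card hiso.1).trans (Fintype.card_fin j), Nat.card_eq_fintype_card (α := F), Nat.card_fin, hF]
  rfl

theorem card_ext (hF : Fintype.card F = q ^ 2) {n j r : ℕ} (hn : n = j + j + r) {t : Fin j → Fin n → F}
    (ht : IsoHerm q n j t) : Nat.card (extSet q n t) = (q ^ 2) ^ j * hermCount F q r 0 - (q ^ 2) ^ j := by
  subst hn
  obtain ⟨α, hα⟩ := exists_norm_neg_one hF
  rw [card_ext_congr hF ht (stdTuple_isoHerm hF hα j r), card_ext_std hF hα]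

/-- The number of totally isotropic independent tuples. -/
theorem card_isoHerm (hF : Fintype.card F = q ^ 2) (n : ℕ) : ∀ j, 2 * j ≤ n →
    Nat.card {t : Fin j → Fin n → F // IsoHerm q n j t} =
      ∏ i ∈ Finset.range j, ((q ^ 2) ^ i * hermCount F q (n - 2 * i) 0 - (q ^ 2) ^ i)
  | 0, _ => by
    rw [Finset.prod_range_zero, Nat.card_eq_one_iff_exists]
    exact ⟨⟨Fin.elim0, linearIndependent_empty_type, fun a => a.elim0⟩, fun t => Subtype.ext (Subsingleton.elim _ _)⟩
  | j + 1, hj => by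
    classical
    rw [Finset.prod_range_succ, ← card_isoHerm hF n j (by omega)]
    let e : {t : Fin (j + 1) → Fin n → F // IsoHerm q n (j + 1) t} ≃
        Σ p : {t : Fin j → Fin n → F // IsoHerm q n j t}, extSet q n p.1 :=
      { toFun := fun t =>
          have h := (isoHerm_snoc_iff hF (Fin.init t.1) (t.1 (Fin.last j))).mp (by rw [Fin.snoc_init_self]; exact t.2)
          ⟨⟨Fin.init t.1, h.1⟩, t.1 (Fin.last j), h.2⟩
        invFun := fun s => ⟨Fin.snoc s.1.1 s.2.1, (isoHerm_snoc_iff hF _ _).mpr ⟨s.1.2, s.2.2⟩⟩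
        left_inv := fun t => Subtype.ext (Fin.snoc_init_self t.1)
        right_inv := fun ⟨⟨p, hp⟩, x, hx⟩ => Sigma.subtype_ext (Subtype.ext (by simp)) (by simp) }
    haveI := Fintype.ofFinite {t : Fin j → Fin n → F // IsoHerm q n j t}
    rw [Nat.card_congr e, Nat.card_sigma,
      Finset.sum_congr rfl fun p _ => card_ext hF (show n = j + j + (n - 2 * j) by omega) p.2,
      Finset.sum_const, Finset.card_univ, smul_eq_mul, ← Nat.card_eq_fintype_card]

/-- Counting totally isotropic subspaces through their bases. -/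
theorem card_isotropic_subspaces_mul (hF : Fintype.card F = q ^ 2) (n k : ℕ) :
    Nat.card {W : Submodule F (Fin n → F) // finrank F W = k ∧
        ∀ u ∈ W, ∀ v ∈ W, Cfsg.hermForm n F q u v = 0} *
        ∏ i : Fin k, ((q ^ 2) ^ k - (q ^ 2) ^ (i : ℕ)) =
      Nat.card {t : Fin k → Fin n → F // IsoHerm q n k t} := by
  classical
  let L := {W : Submodule F (Fin n → F) // finrank F W = k ∧ ∀ u ∈ W, ∀ v ∈ W, Cfsg.hermForm n F q u v = 0}
  haveI : Fintype L := Fintype.ofFinite L
  have hspan : ∀ t, IsoHerm q n k t → finrank F (Submodule.span F (Set.range t)) = k ∧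
      ∀ u ∈ Submodule.span F (Set.range t), ∀ v ∈ Submodule.span F (Set.range t), Cfsg.hermForm n F q u v = 0 := by
    intro t ht
    refine ⟨(finrank_span_eq_card ht.1).trans (Fintype.card_fin k), fun u hu v hv => ?_⟩
    obtain ⟨c, rfl⟩ := (Submodule.mem_span_range_iff_exists_fun F).mp hu
    obtain ⟨d, rfl⟩ := (Submodule.mem_span_range_iff_exists_fun F).mp hv
    rw [← hermBilin_apply hF]
    simp [LinearMap.map_smulₛₗ, hermBilin_apply hF, ht.2]
  have h := Nat.card_congr (Equiv.sigmaFiberEquiv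
    (fun t : {t // IsoHerm (F := F) q n k t} => (⟨_, hspan t.1 t.2⟩ : L)))
  have hfib : ∀ W : L, Nat.card {t : {t // IsoHerm (F := F) q n k t} // (⟨_, hspan t.1 t.2⟩ : L) = W} =
      ∏ i : Fin k, ((q ^ 2) ^ k - (q ^ 2) ^ (i : ℕ)) := by
    intro W
    rw [Nat.card_congr (Equiv.subtypeEquivRight (q := fun t => Submodule.span F (Set.range t.1) = W.1)
      (fun t => Subtype.ext_iff)),
      Nat.card_congr (α := {t : {t // IsoHerm (F := F) q n k t} // Submodule.span F (Set.range t.1) = W.1})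
        (β := {s : Fin k → W.1 // LinearIndependent F s})
        { toFun := fun t => ⟨fun a => ⟨t.1.1 a, (le_of_eq t.2) (Submodule.subset_span ⟨a, rfl⟩)⟩,
            LinearIndependent.of_comp W.1.subtype t.1.2.1⟩
          invFun := fun s => ⟨⟨fun a => (s.1 a : Fin n → F),
              s.2.map' W.1.subtype (Submodule.ker_subtype W.1), fun a b => W.2.2 _ (s.1 a).2 _ (s.1 b).2⟩,
            Submodule.eq_of_le_of_finrank_eq (Submodule.span_le.mpr (by rintro _ ⟨a, rfl⟩; exact (s.1 a).2))
              ((finrank_span_eq_card (s.2.map' W.1.subtype (Submodule.ker_subtype W.1))).trans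
                (by rw [Fintype.card_fin, W.2.1]))⟩
          left_inv := fun t => rfl
          right_inv := fun s => rfl },
      card_linearIndependent W.2.1.ge, W.2.1, hF]
  rw [Nat.card_sigma, Finset.sum_congr rfl fun W _ => hfib W, Finset.sum_const, Finset.card_univ, smul_eq_mul,
    ← Nat.card_eq_fintype_card] at h
  exact h

theorem card_lines_four (hF : Fintype.card F = q ^ 2) :
    Nat.card {W : Submodule F (Fin 4 → F) // finrank F W = 2 ∧ ∀ u ∈ W, ∀ v ∈ W, Cfsg.hermForm 4 F q u v = 0} =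
      (q + 1) * (q ^ 3 + 1) := by
  have h := card_isotropic_subspaces_mul hF 4 2
  rw [card_isoHerm hF 4 2 le_rfl, Fin.prod_univ_two] at h
  simp only [Finset.prod_range_succ, Finset.prod_range_zero, one_mul, Cfsg.Agent.Lib.Classical.hermCount_zero_eq hF,
    show Even (4 - 2 * 0) from ⟨2, rfl⟩, show Even (4 - 2 * 1) from ⟨1, rfl⟩, if_pos, Fin.val_zero, Fin.val_one,
    pow_zero, pow_one, Nat.add_sub_cancel] at h
  have hq : 2 ≤ q := q_pos hF
  obtain ⟨r, rfl⟩ : ∃ r, q = r + 2 := ⟨q - 2, by omega⟩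
  have h1 : 0 < (((r + 2) ^ 2) ^ 2 - 1) * (((r + 2) ^ 2) ^ 2 - (r + 2) ^ 2) :=
    Nat.mul_pos (Nat.sub_pos_of_lt (Nat.one_lt_pow two_ne_zero (Nat.one_lt_pow two_ne_zero (by omega))))
      (Nat.sub_pos_of_lt (by nlinarith [Nat.one_lt_pow two_ne_zero (show 1 < r + 2 by omega)]))
  refine Nat.eq_of_mul_eq_mul_right h1 (h.trans ?_)
  norm_num
  simp only [show ∀ a b : ℕ, a * (b + 1) - a = a * b from fun a b => by rw [mul_add, mul_one, Nat.add_sub_cancel]]
  zify [Nat.one_le_pow _ _ (show 0 < r + 2 by omega), Nat.one_le_pow _ _ (pow_pos (show 0 < r + 2 by omega) 2),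
    Nat.le_self_pow two_ne_zero ((r + 2) ^ 2)]
  ring

theorem card_lines_five (hF : Fintype.card F = q ^ 2) :
    Nat.card {W : Submodule F (Fin 5 → F) // finrank F W = 2 ∧ ∀ u ∈ W, ∀ v ∈ W, Cfsg.hermForm 5 F q u v = 0} =
      (q ^ 3 + 1) * (q ^ 5 + 1) := by
  have h := card_isotropic_subspaces_mul hF 5 2
  rw [card_isoHerm hF 5 2 (by norm_num), Fin.prod_univ_two] at h
  simp only [Finset.prod_range_succ, Finset.prod_range_zero, one_mul, Cfsg.Agent.Lib.Classical.hermCount_zero_eq hF,
    show ¬ Even (5 - 2 * 0) by decide, show ¬ Even (5 - 2 * 1) by decide, if_false, Fin.val_zero, Fin.val_one,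
    pow_zero, pow_one, Nat.add_sub_cancel] at h
  have hq : 2 ≤ q := q_pos hF
  obtain ⟨r, rfl⟩ : ∃ r, q = r + 2 := ⟨q - 2, by omega⟩
  have h1 : 0 < (((r + 2) ^ 2) ^ 2 - 1) * (((r + 2) ^ 2) ^ 2 - (r + 2) ^ 2) :=
    Nat.mul_pos (Nat.sub_pos_of_lt (Nat.one_lt_pow two_ne_zero (Nat.one_lt_pow two_ne_zero (by omega))))
      (Nat.sub_pos_of_lt (by nlinarith [Nat.one_lt_pow two_ne_zero (show 1 < r + 2 by omega)]))
  refine Nat.eq_of_mul_eq_mul_right h1 (h.trans ?_)
  norm_num
  simp only [show ∀ a b : ℕ, a * (b + 1) - a = a * b from fun a b => by rw [mul_add, mul_one, Nat.add_sub_cancel]]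
  zify [Nat.one_le_pow _ _ (show 0 < r + 2 by omega), Nat.one_le_pow _ _ (pow_pos (show 0 < r + 2 by omega) 2),
    Nat.le_self_pow two_ne_zero ((r + 2) ^ 2)]
  ring

end Cfsg.Agent.Lib.Geometry
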