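import Cfsg.Prelude.Def_ClassicalGeometry
import Cfsg.Agent.Lib.Geometry.WittQuadratic

/-!
Reflection and Siegel matrices of a quadratic form on `ι → F`, and the isometry group as
`Cfsg.isometryGroup`.
-/

set_option autoImplicit false

namespace Cfsg.Agent.Lib.Geometry

open Matrix
open QuadraticMap (polarBilin)

variable {F : Type*} [Field F] {ι : Type} [Fintype ι] [DecidableEq ι]
variable (Q : QuadraticForm F (ι → F))

theorem polarVec_dotProduct (v x : ι → F) :
    Cfsg.polarVec (⇑Q) v ⬝ᵥ x = polarBilin Q v x := by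
  conv_rhs => rw [pi_eq_sum_univ' x]
  simp only [map_sum, map_smul, smul_eq_mul, dotProduct, Cfsg.polarVec,
    QuadraticMap.polarBilin_apply_apply]
  exact Finset.sum_congr rfl fun i _ => mul_comm _ _

theorem reflectionMatrix_mulVec (v x : ι → F) :
    Cfsg.reflectionMatrix (⇑Q) v *ᵥ x = x - ((Q v)⁻¹ * polarBilin Q v x) • v := by
  unfold Cfsg.reflectionMatrix
  rw [Matrix.sub_mulVec, Matrix.one_mulVec, Matrix.smul_mulVec, Matrix.vecMulVec_mulVec,
    op_smul_eq_smul, smul_smul, polarVec_dotProduct]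

theorem reflectionMatrix_apply_self {v : ι → F} (hv : Q v ≠ 0) :
    Cfsg.reflectionMatrix (⇑Q) v *ᵥ v = -v := by
  have h : (Q v)⁻¹ * (2 * Q v) = 2 := by field_simp
  rw [reflectionMatrix_mulVec, quad_polar_self, h, two_smul]
  abel

theorem reflectionMatrix_isometry {v : ι → F} (hv : Q v ≠ 0) (x : ι → F) :
    Q (Cfsg.reflectionMatrix (⇑Q) v *ᵥ x) = Q x := by
  rw [reflectionMatrix_mulVec, quad_sub, quad_smul, map_smul, smul_eq_mul, quad_polar_comm Q x v]
  field_simp
  ring

theorem det_reflectionMatrix {v : ι → F} (hv : Q v ≠ 0) :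
    (Cfsg.reflectionMatrix (⇑Q) v).det = -1 := by
  have h1 : Cfsg.reflectionMatrix (⇑Q) v =
      1 + Matrix.replicateCol Unit ((-(Q v)⁻¹) • v) *
        Matrix.replicateRow Unit (Cfsg.polarVec (⇑Q) v) := by
    rw [← Matrix.vecMulVec_eq, Matrix.smul_vecMulVec]
    simp only [Cfsg.reflectionMatrix, neg_smul, sub_eq_add_neg]
  have h : (Q v)⁻¹ * (2 * Q v) = 2 := by field_simp
  rw [h1, Matrix.det_one_add_replicateCol_mul_replicateRow, dotProduct_smul, polarVec_dotProduct,
    quad_polar_self, smul_eq_mul, neg_mul, h]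
  norm_num

theorem reflectionMatrix_mul_self {v : ι → F} (hv : Q v ≠ 0) :
    Cfsg.reflectionMatrix (⇑Q) v * Cfsg.reflectionMatrix (⇑Q) v = 1 := by
  refine Matrix.toLin'.injective (LinearMap.ext fun x => ?_)
  simp only [Matrix.toLin'_apply, ← Matrix.mulVec_mulVec, Matrix.one_mulVec]
  rw [reflectionMatrix_mulVec Q v x, Matrix.mulVec_sub, Matrix.mulVec_smul,
    reflectionMatrix_apply_self Q hv, reflectionMatrix_mulVec]
  module

theorem siegelMatrix_mulVec (u v : ι → F) (c : F) (x : ι → F) :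
    Cfsg.siegelMatrix (⇑Q) u v c *ᵥ x =
      x + (c * polarBilin Q u x) • v - (c * polarBilin Q v x) • u := by
  unfold Cfsg.siegelMatrix
  rw [Matrix.add_mulVec, Matrix.one_mulVec, Matrix.smul_mulVec, Matrix.sub_mulVec,
    Matrix.vecMulVec_mulVec, Matrix.vecMulVec_mulVec, op_smul_eq_smul, op_smul_eq_smul,
    polarVec_dotProduct, polarVec_dotProduct, smul_sub, smul_smul, smul_smul, add_sub_assoc]

theorem siegelMatrix_isometry {u v : ι → F} (hu : Q u = 0) (hv : Q v = 0)
    (huv : polarBilin Q u v = 0) (c : F) (x : ι → F) :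
    Q (Cfsg.siegelMatrix (⇑Q) u v c *ᵥ x) = Q x := by
  simp only [siegelMatrix_mulVec, quad_sub, quad_add, quad_smul, map_smul, map_add,
    LinearMap.add_apply, LinearMap.smul_apply, smul_eq_mul, hu, hv, huv,
    quad_polar_comm Q x u, quad_polar_comm Q x v, quad_polar_comm Q v u]
  ring

theorem siegelMatrix_mul {u v : ι → F} (hu : Q u = 0) (hv : Q v = 0)
    (huv : polarBilin Q u v = 0) (c d : F) :
    Cfsg.siegelMatrix (⇑Q) u v c * Cfsg.siegelMatrix (⇑Q) u v d =
      Cfsg.siegelMatrix (⇑Q) u v (c + d) := by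
  refine Matrix.toLin'.injective (LinearMap.ext fun x => ?_)
  simp only [Matrix.toLin'_apply, ← Matrix.mulVec_mulVec, siegelMatrix_mulVec, map_sub, map_add,
    map_smul, smul_eq_mul, quad_polar_self, hu, hv, huv, quad_polar_comm Q v u]
  module

/-- Membership in the isometry group. -/
theorem mem_isometryGroup_iff {f : (ι → F) → F} {g : Matrix.GeneralLinearGroup ι F} :
    g ∈ Cfsg.isometryGroup F f ↔ ∀ x, f ((g : Matrix ι ι F) *ᵥ x) = f x :=
  ⟨fun h x => h x x, fun h x _ => h x⟩

/-- The reflection as an element of the isometry group. -/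
def reflectionIso (v : ι → F) (hv : Q v ≠ 0) : Cfsg.isometryGroup F (⇑Q) :=
  ⟨⟨Cfsg.reflectionMatrix (⇑Q) v, Cfsg.reflectionMatrix (⇑Q) v,
      reflectionMatrix_mul_self Q hv, reflectionMatrix_mul_self Q hv⟩,
    mem_isometryGroup_iff.mpr (reflectionMatrix_isometry Q hv)⟩

theorem coe_reflectionIso (v : ι → F) (hv : Q v ≠ 0) :
    ((reflectionIso Q v hv : Matrix.GeneralLinearGroup ι F) : Matrix ι ι F) =
      Cfsg.reflectionMatrix (⇑Q) v :=
  rfl

/-- Isometries have determinant `±1`. -/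
theorem det_isometry_sq (hQ : (polarBilin Q).Nondegenerate)
    (g : Cfsg.isometryGroup F (⇑Q)) :
    ((g : Matrix.GeneralLinearGroup ι F) : Matrix ι ι F).det ^ 2 = 1 := by
  set A := ((g : Matrix.GeneralLinearGroup ι F) : Matrix ι ι F)
  set M := LinearMap.BilinForm.toMatrix' (polarBilin Q) with hM
  have hMdet : M.det ≠ 0 :=
    (LinearMap.BilinForm.nondegenerate_iff_det_ne_zero (Pi.basisFun F ι)).mp hQ |> fun h => by
      rwa [LinearMap.BilinForm.toMatrix_basisFun] at h
  have hA : Aᵀ * M * A = M := by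
    refine Matrix.toBilin'.injective (LinearMap.ext fun x => LinearMap.ext fun y => ?_)
    have h1 : M = LinearMap.BilinForm.toMatrix' (polarBilin Q) := rfl
    rw [← Matrix.toBilin'_comp, LinearMap.BilinForm.comp_apply, h1, Matrix.toBilin'_toMatrix',
      Matrix.toLin'_apply, Matrix.toLin'_apply]
    exact quad_polar_map Q (T := Matrix.toLin' A)
      (fun z => by rw [Matrix.toLin'_apply]; exact mem_isometryGroup_iff.mp g.2 z) x y
  have h := congrArg Matrix.det hA
  rw [Matrix.det_mul, Matrix.det_mul, Matrix.det_transpose] at h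
  refine mul_right_cancel₀ hMdet ?_
  linear_combination h

end Cfsg.Agent.Lib.Geometry
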