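import Cfsg.Agent.Lib.Geometry.OrthBasic
import Cfsg.Agent.Lib.Geometry.Reflection

/-!
`Cfsg.isometryGroup` as the group `quadIsometries` of linear automorphisms.
-/

set_option autoImplicit false

namespace Cfsg.Agent.Lib.Geometry

open Matrix

variable {F : Type*} [Field F] {ι : Type} [Fintype ι] [DecidableEq ι]
variable (Q : QuadraticForm F (ι → F))

/-- The matrix isometry group is the group of linear isometries. -/
def isometryEquiv : Cfsg.isometryGroup F (⇑Q) ≃* quadIsometries Q :=
  (Matrix.GeneralLinearGroup.toLin.trans (LinearMap.GeneralLinearGroup.generalLinearEquiv F (ι → F)))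
    |>.subgroupMap (Cfsg.isometryGroup F (⇑Q)) |>.trans
    (MulEquiv.subgroupCongr (by
      ext h
      constructor
      · rintro ⟨g, hg, rfl⟩ x
        exact hg x x
      · intro hh
        refine ⟨(Matrix.GeneralLinearGroup.toLin.trans
          (LinearMap.GeneralLinearGroup.generalLinearEquiv F (ι → F))).symm h,
          fun u _ => ?_, MulEquiv.apply_symm_apply _ h⟩
        show Q (LinearMap.toMatrix' (h : (ι → F) →ₗ[F] (ι → F)) *ᵥ u) = Q u
        rw [← Matrix.toLin'_apply, Matrix.toLin'_toMatrix']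
        exact hh u))

theorem isometryEquiv_apply (g : Cfsg.isometryGroup F (⇑Q)) (x : ι → F) :
    ((isometryEquiv Q g : quadIsometries Q) : (ι → F) ≃ₗ[F] (ι → F)) x =
      ((g : Matrix.GeneralLinearGroup ι F) : Matrix ι ι F) *ᵥ x :=
  rfl

theorem isometryEquiv_ext {g : Cfsg.isometryGroup F (⇑Q)} {h : quadIsometries Q}
    (H : ∀ x, ((g : Matrix.GeneralLinearGroup ι F) : Matrix ι ι F) *ᵥ x =
      (h : (ι → F) ≃ₗ[F] (ι → F)) x) : isometryEquiv Q g = h :=
  Subtype.ext (LinearEquiv.ext fun x => (isometryEquiv_apply Q g x).trans (H x))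

theorem isometryEquiv_eq_refl_iff (g : Cfsg.isometryGroup F (⇑Q)) (v : ι → F) :
    isometryEquiv Q g = refl Q v ↔
      ((g : Matrix.GeneralLinearGroup ι F) : Matrix ι ι F) = Cfsg.reflectionMatrix (⇑Q) v := by
  constructor
  · intro h
    refine Matrix.toLin'.injective (LinearMap.ext fun x => ?_)
    rw [Matrix.toLin'_apply, Matrix.toLin'_apply, reflectionMatrix_mulVec, ← isometryEquiv_apply, h,
      refl_apply]
  · intro h
    refine isometryEquiv_ext Q fun x => ?_
    rw [h, reflectionMatrix_mulVec, refl_apply]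

theorem det_isometryEquiv (g : Cfsg.isometryGroup F (⇑Q)) :
    LinearMap.det (((isometryEquiv Q g : quadIsometries Q) : (ι → F) ≃ₗ[F] (ι → F)) :
        (ι → F) →ₗ[F] (ι → F)) =
      ((g : Matrix.GeneralLinearGroup ι F) : Matrix ι ι F).det :=
by
  rw [← LinearMap.det_toLin']
  rfl

/-- The closure of the matrix reflections. -/
theorem closure_reflectionMatrix_eq_top (hQ : (QuadraticMap.polarBilin Q).Nondegenerate)
    (hexc : (∃ a : F, a ≠ 0 ∧ a ≠ 1) ∨ Fintype.card ι ≠ 4) :
    Subgroup.closure {g : Cfsg.isometryGroup F (⇑Q) | ∃ v : ι → F, Q v ≠ 0 ∧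
      ((g : Matrix.GeneralLinearGroup ι F) : Matrix ι ι F) = Cfsg.reflectionMatrix (⇑Q) v} = ⊤ := by
  apply Subgroup.map_injective (isometryEquiv Q).injective (f := (isometryEquiv Q).toMonoidHom)
  rw [MonoidHom.map_closure, Subgroup.map_top_of_surjective _ (isometryEquiv Q).surjective]
  refine Eq.trans (congrArg _ (Set.ext fun h => ?_))
    (closure_refl_eq_top Q hQ (by rwa [Module.finrank_fintype_fun_eq_card]))
  constructor
  · rintro ⟨g, ⟨v, hv, hg⟩, rfl⟩
    exact ⟨v, hv, (isometryEquiv_eq_refl_iff Q g v).mpr hg⟩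
  · rintro ⟨v, hv, rfl⟩
    refine ⟨(isometryEquiv Q).symm (refl Q v), ⟨v, hv, ?_⟩, MulEquiv.apply_symm_apply _ _⟩
    exact (isometryEquiv_eq_refl_iff Q _ v).mp (MulEquiv.apply_symm_apply _ _)

theorem exists_ne_zero_ne_one_or_of_card [Fintype F] {n : ℕ} (h : Fintype.card F ≠ 2 ∨ n ≠ 4) :
    (∃ a : F, a ≠ 0 ∧ a ≠ 1) ∨ n ≠ 4 := by
  classical
  refine h.imp_left fun h2 => ?_
  by_contra hno
  push Not at hno
  have hle : Fintype.card F ≤ ({0, 1} : Finset F).card := by
    rw [← Finset.card_univ]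
    exact Finset.card_le_card fun a _ => by
      by_cases ha : a = 0
      · simp [ha]
      · simp [hno a ha]
  have := Fintype.one_lt_card (α := F)
  have := Finset.card_le_two (a := (0 : F)) (b := 1)
  omega

end Cfsg.Agent.Lib.Geometry
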