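import Cfsg.Agent.Lib.Geometry.OrthSiegel
import Cfsg.Agent.Lib.Geometry.OrthBridge

/-!
Siegel matrices and `Cfsg.Omega`.
-/

set_option autoImplicit false

namespace Cfsg.Agent.Lib.Geometry

variable {F : Type*} [Field F] {ι : Type} [Fintype ι] [DecidableEq ι]
variable (Q : QuadraticForm F (ι → F))

theorem isometryEquiv_mem_siegelSet_iff (g : Cfsg.isometryGroup F (⇑Q)) :
    isometryEquiv Q g ∈ siegelSet Q ↔ ∃ (u v : ι → F) (c : F), Q u = 0 ∧ Q v = 0 ∧
      QuadraticMap.polar (⇑Q) u v = 0 ∧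
      ((g : Matrix.GeneralLinearGroup ι F) : Matrix ι ι F) = Cfsg.siegelMatrix (⇑Q) u v c := by
  constructor
  · rintro ⟨u, v, c, hu, hv, huv, h⟩
    refine ⟨u, v, c, hu, hv, huv, Matrix.toLin'.injective (LinearMap.ext fun x => ?_)⟩
    rw [Matrix.toLin'_apply, Matrix.toLin'_apply, siegelMatrix_mulVec, ← isometryEquiv_apply]
    exact LinearMap.congr_fun h x
  · rintro ⟨u, v, c, hu, hv, huv, h⟩
    refine ⟨u, v, c, hu, hv, huv, LinearMap.ext fun x => ?_⟩
    show ((isometryEquiv Q g : quadIsometries Q) : (ι → F) ≃ₗ[F] (ι → F)) x = _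
    rw [isometryEquiv_apply, h, siegelMatrix_mulVec, siegelLin_apply]

theorem siegel_matrix_mem_commutatorSet (hQ : (QuadraticMap.polarBilin Q).Nondegenerate)
    (h2 : (2 : F) ≠ 0) (g : Cfsg.isometryGroup F (⇑Q)) (u v : ι → F) (c : F) (hu : Q u = 0)
    (hv : Q v = 0) (huv : QuadraticMap.polar (⇑Q) u v = 0)
    (hg : ((g : Matrix.GeneralLinearGroup ι F) : Matrix ι ι F) = Cfsg.siegelMatrix (⇑Q) u v c) :
    g ∈ commutatorSet (Cfsg.isometryGroup F (⇑Q)) ∧ g ∈ Cfsg.Omega F (⇑Q) := by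
  obtain ⟨a, b, hab⟩ := siegel_mem_commutatorSet Q hQ h2 _
    ((isometryEquiv_mem_siegelSet_iff Q g).mpr ⟨u, v, c, hu, hv, huv, hg⟩)
  have hmem : g ∈ commutatorSet (Cfsg.isometryGroup F (⇑Q)) := by
    refine ⟨(isometryEquiv Q).symm a, (isometryEquiv Q).symm b, (isometryEquiv Q).injective ?_⟩
    rw [map_commutatorElement, MulEquiv.apply_symm_apply, MulEquiv.apply_symm_apply, hab]
  refine ⟨hmem, ?_⟩
  show g ∈ commutator (Cfsg.isometryGroup F (⇑Q))
  rw [commutator_eq_closure]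
  exact Subgroup.subset_closure hmem

theorem Omega_eq_closure_siegel [Finite F] (hQ : (QuadraticMap.polarBilin Q).Nondegenerate)
    (h2 : (2 : F) ≠ 0) (hn : 5 ≤ Fintype.card ι) :
    Cfsg.Omega F (⇑Q) = Subgroup.closure {g : Cfsg.isometryGroup F (⇑Q) |
      ∃ (u v : ι → F) (c : F), Q u = 0 ∧ Q v = 0 ∧ QuadraticMap.polar (⇑Q) u v = 0 ∧
        ((g : Matrix.GeneralLinearGroup ι F) : Matrix ι ι F) = Cfsg.siegelMatrix (⇑Q) u v c} := by
  apply Subgroup.map_injective (isometryEquiv Q).injective (f := (isometryEquiv Q).toMonoidHom)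
  rw [MonoidHom.map_closure]
  refine (map_commutator_of_equiv (isometryEquiv Q)).trans ?_
  rw [commutator_eq_siegelGroup Q hQ h2 (by rwa [Module.finrank_fintype_fun_eq_card]), siegelGroup]
  congr 1
  ext h
  constructor
  · intro hh
    refine ⟨(isometryEquiv Q).symm h, ?_, MulEquiv.apply_symm_apply _ _⟩
    rw [Set.mem_ofPred_eq]
    rw [← isometryEquiv_mem_siegelSet_iff, MulEquiv.apply_symm_apply]
    exact hh
  · rintro ⟨g, hg, rfl⟩
    exact (isometryEquiv_mem_siegelSet_iff Q g).mpr hg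

end Cfsg.Agent.Lib.Geometry
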