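import Cfsg.Agent.Lib.Geometry.OrthTransfer
import Cfsg.Agent.Lib.Geometry.GroupAux

/-!
The special orthogonal group inside `Cfsg.isometryGroup`.
-/

set_option autoImplicit false

namespace Cfsg.Agent.Lib.Geometry

open Matrix

variable {F : Type*} [Field F] {ι : Type} [Fintype ι] [DecidableEq ι]
variable (Q : QuadraticForm F (ι → F))

theorem mem_specialIsometryGroup_iff (g : Cfsg.isometryGroup F (⇑Q)) :
    g ∈ Cfsg.specialIsometryGroup F (⇑Q) ↔
      ((g : Matrix.GeneralLinearGroup ι F) : Matrix ι ι F).det = 1 := by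
  rw [Cfsg.specialIsometryGroup, MonoidHom.mem_ker]
  exact Units.ext_iff

/-- The products of two reflections generate the special isometry group. -/
theorem specialIsometryGroup_eq_closure_pairs (hQ : (QuadraticMap.polarBilin Q).Nondegenerate)
    (h2 : (2 : F) ≠ 0) :
    Cfsg.specialIsometryGroup F (⇑Q) = Subgroup.closure {g : Cfsg.isometryGroup F (⇑Q) |
      ∃ u v : ι → F, Q u ≠ 0 ∧ Q v ≠ 0 ∧ ((g : Matrix.GeneralLinearGroup ι F) : Matrix ι ι F) =
        Cfsg.reflectionMatrix (⇑Q) u * Cfsg.reflectionMatrix (⇑Q) v} := by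
  set P := Subgroup.closure {g : Cfsg.isometryGroup F (⇑Q) |
    ∃ u v : ι → F, Q u ≠ 0 ∧ Q v ≠ 0 ∧ ((g : Matrix.GeneralLinearGroup ι F) : Matrix ι ι F) =
      Cfsg.reflectionMatrix (⇑Q) u * Cfsg.reflectionMatrix (⇑Q) v} with hP
  refine le_antisymm (fun g hg => ?_) ?_
  · have htop := closure_reflectionMatrix_eq_top Q hQ
      (Or.inl ⟨-1, neg_ne_zero.mpr one_ne_zero, fun h => h2 (by linear_combination -h)⟩)
    have hne : (-1 : F) ≠ 1 := fun h => h2 (by linear_combination -h)
    have hpair : ∀ r x : Cfsg.isometryGroup F (⇑Q), (∃ u, Q u ≠ 0 ∧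
        ((r : Matrix.GeneralLinearGroup ι F) : Matrix ι ι F) = Cfsg.reflectionMatrix (⇑Q) u) →
        (∃ u, Q u ≠ 0 ∧
        ((x : Matrix.GeneralLinearGroup ι F) : Matrix ι ι F) = Cfsg.reflectionMatrix (⇑Q) u) →
        r * x ∈ P := by
      rintro r x ⟨u, hu, hr⟩ ⟨v, hv, hx⟩
      refine Subgroup.subset_closure ⟨u, v, hu, hv, ?_⟩
      rw [← hr, ← hx]
      rfl
    have key : ∀ g : Cfsg.isometryGroup F (⇑Q),
        (g ∈ P ∧ ((g : Matrix.GeneralLinearGroup ι F) : Matrix ι ι F).det = 1) ∨
        ((∀ r : Cfsg.isometryGroup F (⇑Q), (∃ u, Q u ≠ 0 ∧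
          ((r : Matrix.GeneralLinearGroup ι F) : Matrix ι ι F) = Cfsg.reflectionMatrix (⇑Q) u) →
          r * g ∈ P) ∧ ((g : Matrix.GeneralLinearGroup ι F) : Matrix ι ι F).det = -1) := by
      intro g
      have hgm := htop ▸ Subgroup.mem_top g
      induction hgm using Subgroup.closure_induction_left with
      | one => exact Or.inl ⟨P.one_mem, Matrix.det_one⟩
      | mul_left x hx y _ ih =>
        have hxd : ((x : Matrix.GeneralLinearGroup ι F) : Matrix ι ι F).det = -1 := by
          obtain ⟨u, hu, hx'⟩ := hx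
          rw [hx', det_reflectionMatrix Q hu]
        have hdet : (((x * y : Cfsg.isometryGroup F (⇑Q)) : Matrix.GeneralLinearGroup ι F) :
            Matrix ι ι F).det = -((y : Matrix.GeneralLinearGroup ι F) : Matrix ι ι F).det := by
          rw [Subgroup.coe_mul, Units.val_mul, Matrix.det_mul, hxd, neg_one_mul]
        rcases ih with ⟨hy, hyd⟩ | ⟨hy, hyd⟩
        · refine Or.inr ⟨fun r hr => ?_, by rw [hdet, hyd]⟩
          rw [← mul_assoc]
          exact P.mul_mem (hpair r x hr hx) hy
        · exact Or.inl ⟨hy x hx, by rw [hdet, hyd, neg_neg]⟩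
      | inv_mul_cancel x hx y _ ih =>
        obtain ⟨u, hu, hx'⟩ := hx
        have hinv : x⁻¹ = x := by
          refine inv_eq_of_mul_eq_one_right (Subtype.ext (Units.ext ?_))
          rw [Subgroup.coe_mul, Units.val_mul, hx', reflectionMatrix_mul_self Q hu]
          rfl
        rw [hinv]
        have hxd : ((x : Matrix.GeneralLinearGroup ι F) : Matrix ι ι F).det = -1 := by
          rw [hx', det_reflectionMatrix Q hu]
        have hdet : (((x * y : Cfsg.isometryGroup F (⇑Q)) : Matrix.GeneralLinearGroup ι F) :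
            Matrix ι ι F).det = -((y : Matrix.GeneralLinearGroup ι F) : Matrix ι ι F).det := by
          rw [Subgroup.coe_mul, Units.val_mul, Matrix.det_mul, hxd, neg_one_mul]
        rcases ih with ⟨hy, hyd⟩ | ⟨hy, hyd⟩
        · refine Or.inr ⟨fun r hr => ?_, by rw [hdet, hyd]⟩
          rw [← mul_assoc]
          exact P.mul_mem (hpair r x hr ⟨u, hu, hx'⟩) hy
        · exact Or.inl ⟨hy x ⟨u, hu, hx'⟩, by rw [hdet, hyd, neg_neg]⟩
    rw [mem_specialIsometryGroup_iff] at hg
    rcases key g with ⟨hgP, -⟩ | ⟨-, hgd⟩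
    · exact hgP
    · exact absurd (hgd.symm.trans hg) hne
  · rw [hP, Subgroup.closure_le]
    rintro g ⟨u, v, hu, hv, hg⟩
    rw [SetLike.mem_coe, mem_specialIsometryGroup_iff, hg, Matrix.det_mul,
      det_reflectionMatrix Q hu, det_reflectionMatrix Q hv, neg_one_mul, neg_neg]

/-- The special isometry group has a unique subgroup of index two. -/
theorem existsUnique_index_two_special [Fintype F] (hQ : (QuadraticMap.polarBilin Q).Nondegenerate)
    (hn : 2 ≤ Fintype.card ι) (hexc : (∃ a : F, a ≠ 0 ∧ a ≠ 1) ∨ Fintype.card ι ≠ 4) :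
    ∃! H : Subgroup (Cfsg.specialIsometryGroup F (⇑Q)), H.index = 2 := by
  classical
  have hfin : Module.finrank F (ι → F) = Fintype.card ι := Module.finrank_fintype_fun_eq_card F
  haveI : Finite (Matrix.GeneralLinearGroup ι F) := inferInstance
  set S := Cfsg.specialIsometryGroup F (⇑Q) with hS
  haveI : S.Normal := MonoidHom.normal_ker _
  have hΩS : Cfsg.Omega F (⇑Q) ≤ S := Abelianization.commutator_subset_ker _
  obtain ⟨v₀, hv₀⟩ := exists_quad_ne_zero_of_nondeg Q hQ (by omega)
  -- index of `Ω` in `S`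
  have hrel : ((Cfsg.Omega F (⇑Q)).subgroupOf S).index = 2 := by
    have hmul : ((Cfsg.Omega F (⇑Q)).subgroupOf S).index * S.index =
        (commutator (Cfsg.isometryGroup F (⇑Q))).index := Subgroup.relIndex_mul_index hΩS
    rw [index_commutator_congr (isometryEquiv Q)] at hmul
    by_cases h2 : (2 : F) = 0
    · haveI : CharP F 2 := CharTwo.of_one_ne_zero_of_two_eq_zero one_ne_zero h2
      have hStop : S = ⊤ := eq_top_iff.mpr fun g _ => by
        rw [hS, mem_specialIsometryGroup_iff]
        rcases sq_eq_one_iff.mp (det_isometry_sq Q hQ g) with h | h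
        · exact h
        · rw [h, CharTwo.neg_eq]
      rw [index_commutator_even Q hQ (by omega) (by rw [hfin]; exact hexc), hStop,
        Subgroup.index_top, mul_one] at hmul
      rw [hStop]
      exact hmul
    · have hSi : S.index = 2 := by
        rw [Subgroup.index_eq_two_iff]
        refine ⟨reflectionIso Q v₀ hv₀, fun b => ?_⟩
        have hne : (-1 : F) ≠ 1 := fun h => h2 (by linear_combination -h)
        rw [hS, mem_specialIsometryGroup_iff, mem_specialIsometryGroup_iff, Subgroup.coe_mul,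
          Units.val_mul, Matrix.det_mul, coe_reflectionIso, det_reflectionMatrix Q hv₀]
        rcases sq_eq_one_iff.mp (det_isometry_sq Q hQ b) with h | h
        · rw [h]; exact Or.inr ⟨rfl, by rw [one_mul]; exact hne⟩
        · rw [h]; exact Or.inl ⟨by rw [neg_one_mul, neg_neg], hne⟩
      rw [index_commutator_odd Q hQ h2 (by omega), hSi] at hmul
      exact Nat.eq_of_mul_eq_mul_right (by omega) (show _ * 2 = 2 * 2 from hmul)
  refine ⟨(Cfsg.Omega F (⇑Q)).subgroupOf S, hrel, fun H hH => ?_⟩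
  -- the subgroup generated by squares of `S`
  let N : Subgroup (Cfsg.isometryGroup F (⇑Q)) := Subgroup.closure {x | ∃ s ∈ S, s * s = x}
  haveI : N.Normal := closure_normal_of_conj_mem (by
    rintro _ ⟨s, hs, rfl⟩ g
    exact ⟨g * s * g⁻¹, Subgroup.Normal.conj_mem inferInstance s hs g, by group⟩)
  have hNH : N ≤ H.map S.subtype := by
    rw [Subgroup.closure_le]
    rintro _ ⟨s, hs, rfl⟩
    exact ⟨⟨s, hs⟩ * ⟨s, hs⟩, Subgroup.mul_self_mem_of_index_two hH _, rfl⟩
  have hΩN : Cfsg.Omega F (⇑Q) ≤ N := by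
    refine commutator_le_of_generators _
      (closure_reflectionMatrix_eq_top Q hQ hexc) N ?_
    rintro a ⟨u, hu, ha⟩ b ⟨v, hv, hb⟩
    have hinv : ∀ (x : Cfsg.isometryGroup F (⇑Q)) (w : ι → F), Q w ≠ 0 →
        ((x : Matrix.GeneralLinearGroup ι F) : Matrix ι ι F) = Cfsg.reflectionMatrix (⇑Q) w →
        x⁻¹ = x := fun x w hw hx => by
      refine inv_eq_of_mul_eq_one_right (Subtype.ext (Units.ext ?_))
      rw [Subgroup.coe_mul, Units.val_mul, hx, reflectionMatrix_mul_self Q hw]
      rfl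
    refine Subgroup.subset_closure ⟨a * b, ?_, ?_⟩
    · rw [hS, mem_specialIsometryGroup_iff, Subgroup.coe_mul, Units.val_mul, Matrix.det_mul, ha,
        hb, det_reflectionMatrix Q hu, det_reflectionMatrix Q hv, neg_one_mul, neg_neg]
    · rw [hinv a u hu ha, hinv b v hv hb, mul_assoc (a * b) a b]
  have hle : (Cfsg.Omega F (⇑Q)).subgroupOf S ≤ H := by
    intro s hs
    obtain ⟨t, ht, hts⟩ := hNH (hΩN hs)
    rwa [← Subtype.ext hts]
  have hmul := Subgroup.relIndex_mul_index hle
  rw [hrel, hH] at hmul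
  exact le_antisymm
    (Subgroup.relIndex_eq_one.mp (Nat.eq_of_mul_eq_mul_right (by omega) (hmul.trans (one_mul 2).symm)))
    hle

end Cfsg.Agent.Lib.Geometry
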