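import Mathlib
import Cfsg.Prelude.Def_ClassicalGeometry

/-!
Setwise stabilisers of subspaces, in particular of coordinate subspaces.
-/

set_option autoImplicit false

namespace Cfsg.Agent.Lib.Geometry

open Matrix

variable {H : Type*} [Group H] {ι : Type} [Fintype ι] [DecidableEq ι] {F : Type*} [Field F]

theorem mulVec_injective_of_hom (f : H →* Matrix ι ι F) (h : H) :
    Function.Injective (fun v => f h *ᵥ v) := fun a b hab => by
  have e : ∀ v, f h⁻¹ *ᵥ (f h *ᵥ v) = v := fun v => by
    rw [Matrix.mulVec_mulVec, ← map_mul, inv_mul_cancel, map_one, Matrix.one_mulVec]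
  rw [← e a, ← e b]
  exact congrArg _ hab

/-- An element stabilises a finite-dimensional subspace as soon as it maps it into itself. -/
theorem mem_stabilizing_submodule_iff (f : H →* Matrix ι ι F) (W : Submodule F (ι → F)) (h : H) :
    h ∈ Cfsg.stabilizing f (W : Set (ι → F)) ↔ ∀ v ∈ W, f h *ᵥ v ∈ W := by
  constructor
  · exact fun hh v hv => (hh v).mp hv
  · intro hh v
    refine ⟨hh v, fun hv => ?_⟩
    have heq : W.map (f h).mulVecLin = W := by
      refine Submodule.eq_of_le_of_finrank_eq ?_ ?_
      · rintro _ ⟨v, hv, rfl⟩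
        exact hh v hv
      · exact (Submodule.equivMapOfInjective _ (mulVec_injective_of_hom f h) W).finrank_eq.symm
    rw [SetLike.mem_coe, ← heq] at hv
    obtain ⟨u, hu, huv⟩ := hv
    rw [SetLike.mem_coe, ← mulVec_injective_of_hom f h huv]
    exact hu

theorem mem_stabilizing_map_eq (f : H →* Matrix ι ι F) (W : Submodule F (ι → F)) (h : H)
    (hh : h ∈ Cfsg.stabilizing f (W : Set (ι → F))) : W.map (f h).mulVecLin = W := by
  refine Submodule.eq_of_le_of_finrank_eq ?_ ?_
  · rintro _ ⟨v, hv, rfl⟩
    exact (hh v).mp hv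
  · exact (Submodule.equivMapOfInjective _ (mulVec_injective_of_hom f h) W).finrank_eq.symm

/-- The vectors vanishing on the coordinates satisfying `P`. -/
def coordSubspace (F : Type*) [Field F] {ι : Type} (P : ι → Prop) : Submodule F (ι → F) where
  carrier := {v | ∀ i, P i → v i = 0}
  add_mem' ha hb i hi := by rw [Pi.add_apply, ha i hi, hb i hi, add_zero]
  zero_mem' _ _ := rfl
  smul_mem' c _ ha i hi := by rw [Pi.smul_apply, ha i hi, smul_zero]

theorem mem_stabilizing_coord_iff (f : H →* Matrix ι ι F) (P : ι → Prop) (h : H) :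
    h ∈ Cfsg.stabilizing f {v : ι → F | ∀ i, P i → v i = 0} ↔
      ∀ i j, P i → ¬ P j → f h i j = 0 := by
  rw [show {v : ι → F | ∀ i, P i → v i = 0} = (coordSubspace F P : Set (ι → F)) from rfl,
    mem_stabilizing_submodule_iff]
  constructor
  · intro hh i j hi hj
    have hsingle : (Pi.single j 1 : ι → F) ∈ coordSubspace F P := fun k hk =>
      Pi.single_eq_of_ne (fun e : k = j => hj (e ▸ hk)) _
    simpa using hh _ hsingle i hi
  · intro hh v hv i hi
    refine Finset.sum_eq_zero fun j _ => ?_
    by_cases hj : P j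
    · simp [hv j hj]
    · simp [hh i j hi hj]

theorem finrank_coordSubspace (P : ι → Prop) [DecidablePred P] :
    Module.finrank F (coordSubspace F P) = Fintype.card {i // ¬ P i} := by
  let e : coordSubspace F P ≃ₗ[F] ({i // ¬ P i} → F) :=
    { toFun := fun v i => v.1 i.1
      map_add' := fun _ _ => rfl
      map_smul' := fun _ _ => rfl
      invFun := fun w => ⟨fun i => if h : P i then 0 else w ⟨i, h⟩, fun i hi => dif_pos hi⟩
      left_inv := fun v => Subtype.ext (funext fun i => by
        by_cases h : P i
        · simp [h, v.2 i h]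
        · simp [h])
      right_inv := fun w => funext fun i => by simp [i.2] }
  rw [e.finrank_eq, Module.finrank_fintype_fun_eq_card]

end Cfsg.Agent.Lib.Geometry
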