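import Cfsg.Agent.Lib.FusionControl.KStable
import Cfsg.Agent.Lib.PLocal.NoSLTwo

/-! K-infinity of any `p`-subgroup containing a self-centralizing `p`-core, in `p`-stable groups;
primitive pairs. The first theorem is `lower_le_or_moves` for an arbitrary subgroup over the core. -/

set_option autoImplicit false

universe u

open scoped commutatorElement

namespace Cfsg.Agent.Lib.Geometry.PrimitivePair

open Cfsg.Agent.Lib.FusionControl

variable {p : ℕ} [Fact p.Prime] {X : Type u} [Group X] [Finite X] {A : Subgroup X}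

theorem lower_le_or_moves_pGroup (S : Subgroup X) (hQS : Cfsg.pCore p X ≤ S) (hC : CharPType p X) (h : CoreSub p (Cfsg.pCore p X) A)
    (hcon : ∀ g ∈ S, g ∉ Cfsg.pCore p X → CubicOn A (Subgroup.zpowers g) → ¬ Moves A g)
    (R B : Subgroup S) (hR : A.subgroupOf S ≤ R)
    (hB : B ∈ Cfsg.kLowerStarFamily R) : B ≤ (Cfsg.pCore p X).subgroupOf S := by
  have := h.normal
  have := h.qnormal
  set Q := Cfsg.pCore p X with hQdef
  have hAp : IsPGroup p A := h.pgroup.to_le h.le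
  have hAS : A ≤ S := h.le.trans hQS
  have hstab := chiefStab_le_pCore hAp (CoreSub.centralizer_le hC h)
  set Z := A ⊓ Subgroup.centralizer (A : Set X) with hZ
  -- quadratic elements lie in the core
  have hquad : ∀ g ∈ S, QuadOn A (Subgroup.zpowers g) → g ∈ Q := by
    intro g hg hq
    by_contra hgQ
    refine hcon g hg hgQ hq.cubic ?_
    have : g ∉ chiefStab A := fun h' => hgQ (hstab h')
    obtain ⟨U, V, hch, hUA, u, hu, hgu⟩ := exists_of_not_mem_chiefStab this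
    exact moves_of_deg hAp hch hUA (deg_two_of_quad hq hch hUA) hu hgu
  obtain ⟨hcub, hZq⟩ := lower_cubic h hQS hR hB
  set Bx := B.map S.subtype with hBx
  set ZB := B ⊓ Subgroup.centralizer (B : Set S) with hZB
  have hZBQ : ∀ z ∈ ZB, (z : X) ∈ Q := fun z hz =>
    hquad z z.2 (hZq.mono (by rw [Subgroup.zpowers_le]; exact ⟨z, hz, rfl⟩))
  have hBS : ∀ b ∈ Bx, b ∈ S := by rintro _ ⟨b, -, rfl⟩; exact b.2
  have hBc : ∀ b ∈ Bx, CubicOn A (Subgroup.zpowers b) := fun b hb => hcub.mono (Subgroup.zpowers_le.2 hb)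
  -- `B` is trivial on the chief factors in the centre
  set N := chiefStab Z with hN
  have hBN : ∀ b ∈ Bx, b ∈ N := by
    intro b hb U V hch hUZ u hu
    by_contra hbu
    have hmv : Moves A b := by
      obtain ⟨U', V', h1, h2, h3, h4⟩ := moves_of_deg (A := Z) (hAp.to_le inf_le_left) hch hUZ
        (deg_two_of_le_centre (hBc b hb).2 hUZ) hu hbu
      exact ⟨U', V', h1, h2.trans inf_le_left, h3, h4⟩
    refine hcon b (hBS b hb) (fun hbQ => hbu ?_) (hBc b hb) hmv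
    have hUQ : U ≤ Q := hUZ.trans (inf_le_left.trans h.le)
    rw [← commutatorElement_inv]
    exact inv_mem ((chief_facts h.pgroup hch hUQ).1 (Subgroup.commutator_mem_commutator hu hbQ))
  set L := N ⊓ Subgroup.centralizer (Z : Set X) with hL
  have hLn : L.Normal := by rw [hL]; infer_instance
  have hquot : IsPGroup p (N.map (QuotientGroup.mk' L)) := by
    rintro ⟨_, x, hx, rfl⟩
    obtain ⟨a, b, ha, hb, hac, ⟨k, hk⟩, hab⟩ := Cfsg.Agent.Lib.Transfer.exists_pPart_decomp (p := p) x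
    refine ⟨k, Subtype.ext ?_⟩
    show (QuotientGroup.mk' L x) ^ p ^ k = 1
    rw [← map_pow]
    exact (QuotientGroup.eq_one_iff _).2 (commute_pow_mem hx hab ha hb (hk ▸ pow_orderOf_eq_one b) (fun haN =>
      Subgroup.mem_inf.2 ⟨haN, centralizes_of_mem_chiefStab (hAp.to_le inf_le_left) haN hac⟩))
  set H := L ⊔ Bx with hH
  have hHsub : H.IsSubnormal := isSubnormal_of_pQuotient hquot le_sup_left (sup_le inf_le_left hBN)
  -- the radical
  have hωZ : ∀ a ∈ A, ∀ a' ∈ A, ⁅a, a'⁆ ∈ Z := fun a ha a' ha' => by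
    have h1 := Subgroup.commutator_mem_commutator ha (h.le ha')
    exact Subgroup.mem_inf.2 ⟨Subgroup.commutator_le_left A Q h1, h.comm h1⟩
  let R0 : Subgroup X :=
    { carrier := {a | a ∈ A ∧ ∀ a' ∈ A, ∀ b ∈ Bx, b * ⁅a, a'⁆ = ⁅a, a'⁆ * b}
      one_mem' := ⟨one_mem _, fun a' _ b _ => by simp⟩
      mul_mem' := fun {x y} hx hy => ⟨mul_mem hx.1 hy.1, fun a' ha' b hb => by
        have e : ⁅x * y, a'⁆ = ⁅y, a'⁆ * ⁅x, a'⁆ := by
          have h1 : x * ⁅y, a'⁆ = ⁅y, a'⁆ * x :=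
            h.centralizer_comm (Subgroup.mem_inf.1 (hωZ y hy.1 a' ha')).2 hx.1
          calc ⁅x * y, a'⁆ = x * ⁅y, a'⁆ * x⁻¹ * ⁅x, a'⁆ := by simp only [commutatorElement_def]; group
            _ = _ := by rw [h1, mul_inv_cancel_right]
        rw [e]
        exact ((show Commute b ⁅y, a'⁆ from hy.2 a' ha' b hb).mul_right
          (show Commute b ⁅x, a'⁆ from hx.2 a' ha' b hb)).eq⟩
      inv_mem' := fun {x} hx => ⟨inv_mem hx.1, fun a' ha' b hb => by
        have e : ⁅x⁻¹, a'⁆ = ⁅x, a'⁆⁻¹ := by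
          have h1 : x⁻¹ * ⁅x, a'⁆⁻¹ = ⁅x, a'⁆⁻¹ * x⁻¹ :=
            h.centralizer_comm (inv_mem (Subgroup.mem_inf.1 (hωZ x hx.1 a' ha')).2) (inv_mem hx.1)
          calc ⁅x⁻¹, a'⁆ = x⁻¹ * ⁅x, a'⁆⁻¹ * x := by simp only [commutatorElement_def]; group
            _ = _ := by rw [h1, inv_mul_cancel_right]
        rw [e]
        exact (show Commute b ⁅x, a'⁆ from hx.2 a' ha' b hb).inv_right.eq⟩ }
  have hR0A : R0 ≤ A := fun a ha => ha.1
  have hfix : ∀ g : X, (∀ a ∈ R0, ∀ a' ∈ A, g * ⁅a, a'⁆ * g⁻¹ = ⁅a, a'⁆) →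
      g ∈ Subgroup.normalizer (R0 : Set X) := by
    intro g hg
    refine mem_normalizer_of_cj_le (cj_le_iff.2 fun a ha => ⟨h.normal.conj_mem a ha.1 g, fun a' ha' b hb => ?_⟩)
    have ha'' : g⁻¹ * a' * g⁻¹⁻¹ ∈ A := h.normal.conj_mem a' ha' g⁻¹
    have e : ⁅g * a * g⁻¹, a'⁆ = g * ⁅a, g⁻¹ * a' * g⁻¹⁻¹⁆ * g⁻¹ := by simp only [commutatorElement_def]; group
    rw [e, hg a ha _ ha'']
    exact ha.2 _ ha'' b hb
  have hBR0 : Bx ≤ Subgroup.normalizer (R0 : Set X) := fun b hb => hfix b fun a ha a' ha' => by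
    rw [ha.2 a' ha' b hb, mul_inv_cancel_right]
  have hHR0 : H ≤ Subgroup.normalizer (R0 : Set X) := sup_le (fun l hl => hfix l fun a ha a' ha' => by
    rw [← Subgroup.mem_centralizer_iff.1 (Subgroup.mem_inf.1 hl).2 _ (hωZ a ha.1 a' ha'), mul_inv_cancel_right]) hBR0
  obtain ⟨hB2, hRB, hBfam⟩ := hB
  set R0s := R0.subgroupOf S with hR0s
  have hR0sA : R0s ≤ A.subgroupOf S := fun a ha => hR0A ha
  have hBR : ⁅B, R0s⁆ ≤ ZB := by
    refine hBfam R0s ?_ (hR0sA.trans hR) ?_ ?_ ?_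
    · refine Subgroup.commutator_le.2 fun a ha a' ha' => Subgroup.mem_centralizer_iff.2 fun c hc => ?_
      exact Subtype.ext (h.centralizer_comm (Subgroup.mem_inf.1 (hωZ _ (hR0A ha) _ (hR0A ha'))).2 (hR0A hc))
    · intro b hb
      refine mem_normalizer_of_cj_le (cj_le_iff.2 fun a ha => ?_)
      exact (Subgroup.mem_normalizer_iff.1 (hBR0 ⟨b, hb, rfl⟩) (a : X)).1 ha
    · rw [Subgroup.commutator_comm, Subgroup.commutator_eq_bot_iff_le_centralizer, Subgroup.commutator_le]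
      intro a ha a' ha'
      refine Subgroup.mem_centralizer_iff.2 fun b hb => Subtype.ext ?_
      exact (show (a : X) ∈ R0 from ha).2 _ (hR0A ha') _ ⟨b, hb, rfl⟩
    · refine Subgroup.commutator_eq_bot_iff_le_centralizer.2 (Subgroup.commutator_le.2 fun z hz a ha => ?_)
      refine Subgroup.mem_centralizer_iff.2 fun c hc => Subtype.ext ?_
      have h1 : ⁅(a : X), (z : X)⁆ ∈ Subgroup.centralizer (A : Set X) :=
        h.comm (Subgroup.commutator_mem_commutator (hR0A ha) (hZBQ z hz))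
      have h2 : ⁅(z : X), (a : X)⁆ ∈ Subgroup.centralizer (A : Set X) := by
        rw [← commutatorElement_inv]; exact inv_mem h1
      exact h.centralizer_comm h2 (hR0A hc)
  have hAB : A.subgroupOf S ≤ Subgroup.normalizer (B : Set S) := hR.trans hRB
  intro b hb
  by_contra hbQ
  have hbx : (b : X) ∈ Bx := ⟨b, hb, rfl⟩
  have hbst : (b : X) ∉ chiefStab A := fun h' => hbQ (hstab h')
  obtain ⟨U, V, hch, hUA, u0, hu0, hbu0⟩ := exists_of_not_mem_chiefStab hbst
  refine hcon b b.2 hbQ (hBc b hbx) (moves_of_deg hAp hch hUA ?_ hu0 hbu0)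
  have := hch.2.1
  have := hch.2.2.1
  by_cases hUZ : ¬ U ⊓ Z ≤ V
  · refine deg_of_reduce (W := Z) (W' := ⊥) hch (fun y hy => ?_) hUZ (by simp)
    rw [← (hBc b hbx).2]; exact iterate_mem_iterCommutator (Subgroup.mem_inf.1 hy).2 2
  -- the double commutators lie in the radical and die there
  have hdd : ∀ a ∈ A, cit (b : X) 2 a ∈ R0 := by
    intro a ha
    refine ⟨cit_mem (N := A) _ ha 2, fun a' ha' c hc => ?_⟩
    obtain ⟨c, hc, rfl⟩ := hc
    set as : S := ⟨a, hAS ha⟩ with has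
    set as' : S := ⟨a', hAS ha'⟩ with has'
    have h1 : cit b 1 as ∈ B := by
      show ⁅b, as⁆ ∈ B
      rw [commutatorElement_def, mul_assoc, mul_assoc, ← mul_assoc as]
      exact mul_mem hb ((Subgroup.mem_normalizer_iff.1 (hAB ha) _).1 (inv_mem hb))
    have h2 : cit b 2 as ∈ ZB := by
      rw [cit_succ]
      exact Subgroup.mem_inf.2 ⟨by
        rw [commutatorElement_def]; exact mul_mem (mul_mem (mul_mem hb h1) (inv_mem hb)) (inv_mem h1),
        hB2 (Subgroup.commutator_mem_commutator hb h1)⟩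
    obtain ⟨h2a, h2b⟩ := Subgroup.mem_inf.1 h2
    have hN' := hAB (show as' ∈ A.subgroupOf S from ha')
    have h3 : ⁅cit b 2 as, as'⁆ ∈ Subgroup.centralizer (B : Set S) := by
      rw [commutatorElement_def, mul_assoc, mul_assoc, ← mul_assoc as']
      refine mul_mem h2b (Subgroup.mem_centralizer_iff.2 fun y hy => ?_)
      have h4 := Subgroup.mem_centralizer_iff.1 (inv_mem h2b) (as'⁻¹ * y * as'⁻¹⁻¹)
        ((Subgroup.mem_normalizer_iff.1 (inv_mem hN') y).1 hy)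
      calc y * (as' * (cit b 2 as)⁻¹ * as'⁻¹) = as' * (as'⁻¹ * y * as'⁻¹⁻¹ * (cit b 2 as)⁻¹) * as'⁻¹ := by group
        _ = as' * ((cit b 2 as)⁻¹ * (as'⁻¹ * y * as'⁻¹⁻¹)) * as'⁻¹ := by rw [h4]
        _ = _ := by group
    exact congrArg Subtype.val (Subgroup.mem_centralizer_iff.1 h3 c hc)
  have hkill : ∀ r ∈ R0, cit (b : X) 2 r = 1 := by
    intro r hr
    have h1 := hBR (Subgroup.commutator_mem_commutator hb
      (show (⟨r, hAS (hR0A hr)⟩ : S) ∈ R0s from hr))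
    have h2 := Subgroup.mem_centralizer_iff.1 (Subgroup.mem_inf.1 h1).2 b hb
    rw [← commutatorElement_eq_one_iff_mul_comm] at h2
    exact congrArg Subtype.val h2
  -- complete reducibility on the chief factor
  set v := QuotientGroup.mk' V with hv
  have hvs : Function.Surjective v := QuotientGroup.mk'_surjective V
  have hU1n : (U.map v).Normal := hch.2.1.map v hvs
  have hmin1 : ∀ M : Subgroup (X ⧸ V), M.Normal → M ≤ U.map v → M = ⊥ ∨ M = U.map v := by
    intro M hM hMU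
    have h1 : V ≤ M.comap v := fun y hy => by
      show v y ∈ M
      rw [show v y = 1 from (QuotientGroup.eq_one_iff y).2 hy]; exact one_mem _
    have h2 : M.comap v ≤ U := by
      refine (Subgroup.comap_mono hMU).trans ?_
      rw [Subgroup.comap_map_eq, QuotientGroup.ker_mk', sup_eq_left.2 hch.1.le]
    rcases hch.2.2.2 _ (hM.comap v) h1 h2 with h | h
    · left; rw [← Subgroup.map_comap_eq_self_of_surjective hvs M, h, hv, QuotientGroup.map_mk'_self]
    · right; rw [← Subgroup.map_comap_eq_self_of_surjective hvs M, h]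
  have hUU := (chief_facts hAp hch hUA).2.1
  have hUcomm : ∀ x ∈ U.map v, ∀ y ∈ U.map v, x * y = y * x := by
    rintro _ ⟨x, hx, rfl⟩ _ ⟨y, hy, rfl⟩
    rw [← commutatorElement_eq_one_iff_mul_comm, ← map_commutatorElement]
    exact (QuotientGroup.eq_one_iff _).2 (hUU x hx y hy)
  have hMinv : H.map v ≤ Subgroup.normalizer (((R0 ⊓ U).map v : Subgroup (X ⧸ V)) : Set (X ⧸ V)) := by
    refine (Subgroup.map_mono (fun g hg => ?_)).trans (Subgroup.le_normalizer_map v)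
    rw [mem_normalizer_iff_cj, cj_inf, mem_normalizer_iff_cj.1 (hHR0 hg),
      mem_normalizer_iff_cj.1 (show g ∈ Subgroup.normalizer (U : Set X) by rw [Subgroup.normalizer_eq_top]; trivial)]
  obtain ⟨R1, hR1U, hR1N, hR1M, hR1sup⟩ := (semiSimple_of_subnormal hU1n hmin1 (hHsub.map hvs)).exists_complement
    hUcomm (Subgroup.map_mono inf_le_right) hMinv
  intro u hu
  have hvu : v u ∈ R1 ⊔ (R0 ⊓ U).map v := hR1sup.ge ⟨u, hu, rfl⟩
  obtain ⟨r1, hr1, m, hm, hrm⟩ := Cfsg.Agent.Lib.Coprime.exists_mul_of_mem_sup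
    (fun r hr => by
      refine mem_normalizer_of_cj_le (cj_le_iff.2 fun y hy => ?_)
      rwa [hUcomm r (Subgroup.map_mono inf_le_right hr) y (hR1U hy), mul_inv_cancel_right]) hvu
  obtain ⟨y, hy, rfl⟩ := hm
  obtain ⟨r, hr, rfl⟩ := hR1U hr1
  obtain ⟨hy1, hy2⟩ := Subgroup.mem_inf.1 hy
  have hcit1 : v (cit (b : X) 2 r) = 1 := by
    have h1 : v (cit (b : X) 2 r) ∈ (R0 ⊓ U).map v :=
      ⟨_, Subgroup.mem_inf.2 ⟨hdd r (hUA hr), cit_mem _ hr 2⟩, rfl⟩
    have hbN : v (b : X) ∈ Subgroup.normalizer (R1 : Set (X ⧸ V)) :=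
      hR1N ⟨b, Subgroup.mem_sup_right hbx, rfl⟩
    have hstep : ∀ z, v z ∈ R1 → v ⁅(b : X), z⁆ ∈ R1 := fun z hz => by
      rw [map_commutatorElement, commutatorElement_def]
      exact mul_mem ((Subgroup.mem_normalizer_iff.1 hbN _).1 hz) (inv_mem hz)
    have h2 : v (cit (b : X) 2 r) ∈ R1 := by
      rw [cit_succ, cit_succ]; exact hstep _ (hstep _ hr1)
    rw [← Subgroup.mem_bot, ← hR1M]
    exact Subgroup.mem_inf.2 ⟨h2, h1⟩
  refine (QuotientGroup.eq_one_iff _).1 ?_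
  show v (cit (b : X) 2 u) = 1
  rw [cit_congr V (b : X) (show v u = v (r * y) by rw [map_mul]; exact hrm) 2,
    cit_mul_modulo hUU (b : X) hr hy2 2, hcit1, hkill y hy1, map_one, mul_one]

/-- K-infinity of a `p`-subgroup over the core is normal, or an element moves a chief factor quadratically -/
theorem kInfUpper_normal_or_moves {S : Subgroup X} (hS : IsPGroup p S) (hQS : Cfsg.pCore p X ≤ S)
    (hC : CharPType p X) (h : CoreSub p (Cfsg.pCore p X) A)
    (hcon : ∀ g : X, ¬ Moves A g) :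
    (Cfsg.inducedFunctor Cfsg.kInfUpper S).Normal := by
  have := h.normal
  have := h.qnormal
  set Q := Cfsg.pCore p X with hQ
  have hAp : IsPGroup p A := h.pgroup.to_le h.le
  have hstab := chiefStab_le_pCore hAp (CoreSub.centralizer_le hC h)
  have hseq := kSeq_le h hQS (fun b _ hq => by
    by_contra hbQ
    have : b ∉ chiefStab A := fun h' => hbQ (hstab h')
    obtain ⟨U, V, hch, hUA, u, hu, hgu⟩ := exists_of_not_mem_chiefStab this
    exact hcon b (moves_of_deg hAp hch hUA (deg_two_of_quad hq hch hUA) hu hgu))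
    (lower_le_or_moves_pGroup S hQS hC h (fun g _ _ _ => hcon g))
  have hQp : IsPGroup p Q := hS.to_le hQS
  have hW : Cfsg.IsCharPFunctor.{u} p Cfsg.kInfUpper := isCharPFunctor_kInfUpper
  have e2 := inducedFunctor_map hW S.subtype (hQp.comap_of_injective _ S.subtype_injective : IsPGroup p (Q.subgroupOf S))
    (fun t _ ht => Subtype.ext ht)
  have e1 : Cfsg.inducedFunctor (G := S) Cfsg.kInfUpper (Q.subgroupOf S) = Cfsg.kInfUpper S := (kInf_subgroup hseq).2
  change (Cfsg.inducedFunctor (G := S) Cfsg.kInfUpper (Q.subgroupOf S)).map S.subtype =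
    Cfsg.inducedFunctor Cfsg.kInfUpper ((Q.subgroupOf S).map S.subtype) at e2
  rw [e1, Subgroup.subgroupOf_map_subtype, inf_eq_left.2 hQS] at e2
  rw [show Cfsg.inducedFunctor Cfsg.kInfUpper S = Cfsg.inducedFunctor Cfsg.kInfUpper Q from e2,
    ← Subgroup.normalizer_eq_top_iff, eq_top_iff]
  refine le_trans ?_ (normalizer_le_normalizer_functor (isConjugacyFunctor_inducedFunctor hW) hQp)
  rw [Subgroup.normalizer_eq_top]

/-- with abelian Sylow 2-subgroups and `p` odd -/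
theorem kInfUpper_normal_of_abelian {S : Subgroup X} (hS : IsPGroup p S) (hQS : Cfsg.pCore p X ≤ S)
    (hC : CharPType p X) (hp2 : p ≠ 2) (hab : ∀ T : Sylow 2 X, IsMulCommutative (T : Subgroup X)) :
    (Cfsg.inducedFunctor Cfsg.kInfUpper S).Normal := by
  obtain ⟨A, hA⟩ := CoreSub.exists_coreSub (Cfsg.Agent.Lib.Cores.pCore_isPGroup p X)
  refine kInfUpper_normal_or_moves hS hQS hC hA fun g hm => ?_
  obtain ⟨N, hN, hns⟩ := not_stable_of_moves (hA.pgroup.to_le hA.le) hm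
  exact hns (((PLocal.noSLTwo_of_abelian_sylow hp2 hab).quotient N).normalizerPStable hp2)

variable {G : Type u} [Group G] [Finite G]

/-- the same inside a subgroup -/
theorem map_kInfUpper_normal {M T : Subgroup G} (hT : IsPGroup p T) (hTM : T ≤ M)
    (hQ : (Cfsg.pCore p M).map M.subtype ≤ T)
    (hC : Subgroup.centralizer (Cfsg.pCore p ↥M : Set ↥M) ≤ Cfsg.pCore p ↥M) (hp2 : p ≠ 2)
    (hab : ∀ S : Sylow 2 M, IsMulCommutative (S : Subgroup M)) :
    M ≤ Subgroup.normalizer ((Cfsg.inducedFunctor Cfsg.kInfUpper T : Subgroup G) : Set G) := by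
  have hS : IsPGroup p (T.subgroupOf M) := hT.comap_of_injective _ M.subtype_injective
  have hQS : Cfsg.pCore p M ≤ T.subgroupOf M := fun x hx => hQ ⟨x, hx, rfl⟩
  have hn := kInfUpper_normal_of_abelian hS hQS hC hp2 hab
  have e := inducedFunctor_map (p := p) isCharPFunctor_kInfUpper M.subtype hS (fun t _ ht => Subtype.ext ht)
  rw [Subgroup.subgroupOf_map_subtype, inf_eq_left.2 hTM] at e
  rw [← e]
  refine le_trans ?_ (Subgroup.le_normalizer_map M.subtype)
  rw [Subgroup.normalizer_eq_top, ← MonoidHom.range_eq_map, Subgroup.range_subtype]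

omit [Fact p.Prime] in
/-- a nontrivial subgroup of the intersection normal in both members of a primitive pair does not exist -/
theorem false_of_common_normal {M₁ M₂ A : Subgroup G} (hne : M₁ ≠ M₂)
    (hP : ∀ A : Subgroup G, A ≠ ⊥ → A ≤ M₁ ⊓ M₂ → (M₁ ≤ Subgroup.normalizer (A : Set G) → M₂ ⊓ Subgroup.normalizer (A : Set G) = M₁ ⊓ M₂) ∧ (M₂ ≤ Subgroup.normalizer (A : Set G) → M₁ ⊓ Subgroup.normalizer (A : Set G) = M₁ ⊓ M₂))
    (hA : A ≠ ⊥) (hle : A ≤ M₁ ⊓ M₂) (h1 : M₁ ≤ Subgroup.normalizer (A : Set G))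
    (h2 : M₂ ≤ Subgroup.normalizer (A : Set G)) : False := by
  have e1 := (hP A hA hle).1 h1
  have e2 := (hP A hA hle).2 h2
  rw [inf_eq_left.2 h2] at e1
  rw [inf_eq_left.2 h1] at e2
  exact hne (e2.trans e1.symm)

omit [Fact p.Prime] [Finite G] in
lemma le_normalizer_map_core (M : Subgroup G) :
    M ≤ Subgroup.normalizer (((Cfsg.pCore p M).map M.subtype : Subgroup G) : Set G) := by
  have := Cfsg.pCore_normal p M
  refine le_trans ?_ (Subgroup.le_normalizer_map M.subtype)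
  rw [Subgroup.normalizer_eq_top, ← MonoidHom.range_eq_map, Subgroup.range_subtype]

lemma eq_bot_of_core_eq_bot {M : Subgroup G}
    (hC : Subgroup.centralizer (Cfsg.pCore p ↥M : Set ↥M) ≤ Cfsg.pCore p ↥M)
    (h : (Cfsg.pCore p M).map M.subtype = ⊥) : M = ⊥ := by
  rw [Subgroup.map_eq_bot_iff_of_injective _ M.subtype_injective] at h
  refine eq_bot_iff.2 fun x hx => ?_
  have h1 : (⟨x, hx⟩ : M) ∈ Cfsg.pCore p M := hC (by
    rw [h, Subgroup.mem_centralizer_iff]; intro y hy; rw [Subgroup.mem_bot.1 hy, one_mul, mul_one])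
  rw [h, Subgroup.mem_bot] at h1
  exact Subgroup.mem_bot.2 (congrArg Subtype.val h1)

/-- for `p = 2` an abelian Sylow subgroup is the core -/
lemma le_map_core_two {M R : Subgroup G}
    (hC : Subgroup.centralizer (Cfsg.pCore 2 ↥M : Set ↥M) ≤ Cfsg.pCore 2 ↥M)
    (hab : ∀ S : Sylow 2 M, IsMulCommutative (S : Subgroup M)) (hR : IsPGroup 2 R) (hRM : R ≤ M) :
    R ≤ (Cfsg.pCore 2 M).map M.subtype := by
  have : Fact (Nat.Prime 2) := ⟨Nat.prime_two⟩
  obtain ⟨S, hS⟩ := (hR.comap_of_injective _ M.subtype_injective : IsPGroup 2 (R.subgroupOf M)).exists_le_sylow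
  intro x hx
  have hxS : (⟨x, hRM hx⟩ : M) ∈ (S : Subgroup M) := hS hx
  refine ⟨⟨x, hRM hx⟩, hC (Subgroup.mem_centralizer_iff.2 fun q hq => ?_), rfl⟩
  exact congrArg Subtype.val ((hab S).is_comm.comm ⟨q, Cfsg.Agent.Lib.Cores.pCore_le_sylow S hq⟩ ⟨_, hxS⟩)

/-- a primitive pair of characteristic `p` has a member with non-abelian Sylow 2-subgroups -/
theorem exists_nonabelian {M₁ M₂ : Subgroup G} (hne : M₁ ≠ M₂)
    (hP : ∀ A : Subgroup G, A ≠ ⊥ → A ≤ M₁ ⊓ M₂ → (M₁ ≤ Subgroup.normalizer (A : Set G) → M₂ ⊓ Subgroup.normalizer (A : Set G) = M₁ ⊓ M₂) ∧ (M₂ ≤ Subgroup.normalizer (A : Set G) → M₁ ⊓ Subgroup.normalizer (A : Set G) = M₁ ⊓ M₂))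
    (hc₁ : Subgroup.centralizer (Cfsg.pCore p ↥M₁ : Set ↥M₁) ≤ Cfsg.pCore p ↥M₁)
    (hc₂ : Subgroup.centralizer (Cfsg.pCore p ↥M₂ : Set ↥M₂) ≤ Cfsg.pCore p ↥M₂)
    (hO : (Cfsg.pCore p ↥M₁).map M₁.subtype ⊔ (Cfsg.pCore p ↥M₂).map M₂.subtype ≤ M₁ ⊓ M₂)
    (hab₁ : ∀ S : Sylow 2 ↥M₁, IsMulCommutative (S : Subgroup ↥M₁))
    (hab₂ : ∀ S : Sylow 2 ↥M₂, IsMulCommutative (S : Subgroup ↥M₂)) : False := by
  set Q₁ := (Cfsg.pCore p M₁).map M₁.subtype with hQ₁
  set Q₂ := (Cfsg.pCore p M₂).map M₂.subtype with hQ₂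
  have hQ₁D : Q₁ ≤ M₁ ⊓ M₂ := le_sup_left.trans hO
  have hQ₂D : Q₂ ≤ M₁ ⊓ M₂ := le_sup_right.trans hO
  have hp₁ : IsPGroup p Q₁ := (Cfsg.Agent.Lib.Cores.pCore_isPGroup p M₁).map _
  have hp₂ : IsPGroup p Q₂ := (Cfsg.Agent.Lib.Cores.pCore_isPGroup p M₂).map _
  have hT : IsPGroup p (Q₂ ⊔ Q₁ : Subgroup G) :=
    hp₂.to_sup_of_normal_right' hp₁ ((hQ₂D.trans inf_le_left).trans (le_normalizer_map_core M₁))
  have hne2 : (Q₂ ⊔ Q₁ : Subgroup G) ≠ ⊥ := by
    intro h
    rw [sup_eq_bot_iff] at h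
    exact hne ((eq_bot_of_core_eq_bot hc₁ h.2).trans (eq_bot_of_core_eq_bot hc₂ h.1).symm)
  by_cases hp2 : p = 2
  · subst hp2
    have e : Q₁ = Q₂ := le_antisymm (le_map_core_two hc₂ hab₂ hp₁ (hQ₁D.trans inf_le_right))
      (le_map_core_two hc₁ hab₁ hp₂ (hQ₂D.trans inf_le_left))
    refine false_of_common_normal hne hP ?_ hQ₁D (le_normalizer_map_core M₁) (e ▸ le_normalizer_map_core M₂)
    rw [← e, sup_idem] at hne2
    exact hne2
  set T := (Q₂ ⊔ Q₁ : Subgroup G) with hTdef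
  have hTD : T ≤ M₁ ⊓ M₂ := sup_le hQ₂D hQ₁D
  set K := Cfsg.inducedFunctor Cfsg.kInfUpper T with hK
  obtain ⟨hKT, hKne, -⟩ := isConjugacyFunctor_inducedFunctor (X := G) (p := p) isCharPFunctor_kInfUpper T hT
  exact false_of_common_normal hne hP (hKne hne2) (hKT.trans hTD)
    (map_kInfUpper_normal hT (hTD.trans inf_le_left) le_sup_right hc₁ hp2 hab₁)
    (map_kInfUpper_normal hT (hTD.trans inf_le_right) le_sup_left hc₂ hp2 hab₂)

end Cfsg.Agent.Lib.Geometry.PrimitivePair
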