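import Mathlib
import Cfsg.Agent.Lib.LinAux.Basic

/-!
Transvections of `SL_n` are conjugate to elementary ones.
-/

set_option autoImplicit false

namespace Cfsg.Agent.Lib.Geometry

open Matrix Cfsg.Agent.Lib.LinAux

variable {F : Type*} [Field F]

/-- A rank one square-zero perturbation of the identity is conjugate in `SL` to
`1 + c • E₁₀` with `c ≠ 0`. -/
theorem exists_conj_elementary {n : ℕ} (t : SpecialLinearGroup (Fin (n + 2)) F)
    (h1 : ((t : Matrix (Fin (n + 2)) (Fin (n + 2)) F) - 1).rank = 1)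
    (h2 : ((t : Matrix (Fin (n + 2)) (Fin (n + 2)) F) - 1) * ((t : Matrix (Fin (n + 2)) (Fin (n + 2)) F) - 1) = 0) :
    ∃ (g : SpecialLinearGroup (Fin (n + 2)) F) (c : F), c ≠ 0 ∧
      ((g⁻¹ * t * g : SpecialLinearGroup (Fin (n + 2)) F) : Matrix (Fin (n + 2)) (Fin (n + 2)) F) =
        1 + vecMulVec (Pi.single 1 c) (Pi.single 0 1) := by
  classical
  set N := (t : Matrix (Fin (n + 2)) (Fin (n + 2)) F) - 1 with hN
  obtain ⟨w, hw⟩ : ∃ w, N *ᵥ w ≠ 0 := by
    by_contra h
    push Not at h
    have : N = 0 := Matrix.ext_of_mulVec_single fun j => by rw [h, Matrix.zero_mulVec]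
    rw [this, Matrix.rank_zero] at h1
    exact zero_ne_one h1
  set u := N *ᵥ w with hu
  have hNN : ∀ x, N *ᵥ (N *ᵥ x) = 0 := fun x => by
    rw [Matrix.mulVec_mulVec, h2, Matrix.zero_mulVec]
  have hker : Module.finrank F (LinearMap.ker N.mulVecLin) = n + 1 := by
    have h := LinearMap.finrank_range_add_finrank_ker N.mulVecLin
    rw [Module.finrank_fin_fun] at h
    rw [Matrix.rank] at h1
    omega
  -- a basis of the kernel starting with `u`
  let K := LinearMap.ker N.mulVecLin
  have huK : u ∈ K := by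
    show N.mulVecLin u = 0
    exact hNN w
  have hu0 : (⟨u, huK⟩ : K) ≠ 0 := fun h => hw (congrArg Subtype.val h)
  obtain ⟨hk, bK, hbK⟩ := exists_basis_extending (k := 1) hker (fun _ => (⟨u, huK⟩ : K))
    (linearIndependent_unique_iff.mpr hu0)
  let b : Fin (n + 2) → Fin (n + 2) → F := Fin.cons w fun i => (bK i : Fin (n + 2) → F)
  have hb : LinearIndependent F b := by
    rw [linearIndependent_finCons]
    refine ⟨(bK.linearIndependent.map' K.subtype K.ker_subtype), fun hmem => hw ?_⟩
    have hle : Submodule.span F (Set.range fun i => (bK i : Fin (n + 2) → F)) ≤ K :=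
      Submodule.span_le.mpr (by rintro _ ⟨i, rfl⟩; exact (bK i).2)
    exact hle hmem
  have hb1 : b 1 = u := by
    have h := hbK 0
    show (bK 0 : Fin (n + 2) → F) = u
    rw [show (Fin.castLE hk (0 : Fin 1)) = (0 : Fin (n + 1)) from rfl] at h
    rw [h]
  set D := (colMatrix b).det
  have hD : D ≠ 0 := det_colMatrix_ne_zero hb
  let g : SpecialLinearGroup (Fin (n + 2)) F :=
    ⟨colMatrix (Function.update b 1 ((1 / D) • b 1)), det_colMatrix_update hb 1 1⟩
  refine ⟨g, D, hD, ?_⟩
  set C : Matrix (Fin (n + 2)) (Fin (n + 2)) F := 1 + vecMulVec (Pi.single 1 D) (Pi.single 0 1)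
  have hcomm : (t : Matrix (Fin (n + 2)) (Fin (n + 2)) F) * g.1 = g.1 * C := by
    refine mul_colMatrix_ext fun j => ?_
    have ht : ∀ x, (t : Matrix (Fin (n + 2)) (Fin (n + 2)) F) *ᵥ x = x + N *ᵥ x := fun x => by
      rw [hN, Matrix.sub_mulVec, Matrix.one_mulVec, add_sub_cancel]
    rw [← Matrix.mulVec_mulVec, ← Matrix.mulVec_mulVec, ht]
    simp only [C, Matrix.add_mulVec, Matrix.one_mulVec, Matrix.mulVec_add, Matrix.vecMulVec_mulVec,
      dotProduct_single, Pi.single_apply, g, colMatrix_mulVec_single]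
    refine Fin.cases ?_ (fun i => ?_) j
    · have hs : MulOpposite.op (1 : F) • (Pi.single 1 D : Fin (n + 2) → F) = D • Pi.single 1 1 := by
        rw [MulOpposite.op_one, one_smul, ← Pi.single_smul', smul_eq_mul, mul_one]
      rw [if_pos rfl, mul_one, hs, Matrix.mulVec_smul, colMatrix_mulVec_single,
        Function.update_self, smul_smul, mul_one_div_cancel hD, one_smul, hb1]
      rfl
    · have h0 : (0 : Fin (n + 2)) ≠ i.succ := (Fin.succ_ne_zero i).symm
      simp only [Fin.succ_ne_zero, if_false, zero_mul, MulOpposite.op_zero, zero_smul, Matrix.mulVec_zero]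
      congr 1
      by_cases hi : i.succ = 1
      · rw [hi, Function.update_self, Matrix.mulVec_smul, hb1, hNN, smul_zero]
      · rw [Function.update_of_ne hi]
        exact (bK i).2
  show ((g⁻¹ : SpecialLinearGroup (Fin (n + 2)) F) : Matrix (Fin (n + 2)) (Fin (n + 2)) F) *
    (t : Matrix (Fin (n + 2)) (Fin (n + 2)) F) * g.1 = C
  rw [Matrix.mul_assoc, hcomm, ← Matrix.mul_assoc,
    show ((g⁻¹ : SpecialLinearGroup (Fin (n + 2)) F) : Matrix (Fin (n + 2)) (Fin (n + 2)) F) * g.1 = 1
      from congrArg Subtype.val (inv_mul_cancel g), Matrix.one_mul]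

end Cfsg.Agent.Lib.Geometry
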