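import Cfsg.Agent.Lib.Classical.SympGroup
import Cfsg.Agent.Lib.Geometry.SympBasic
import Mathlib.Algebra.CharP.Two

/-!
The exceptional endomorphism of `Sp₄` in characteristic two, given by two by two minors.
-/

set_option autoImplicit false

namespace Cfsg.Agent.Lib.Geometry.SpFour

open Matrix
open Cfsg.Agent.Lib.Classical

variable {F : Type*} [Field F]

local notation "I4" => Fin 2 ⊕ Fin 2
set_option quotPrecheck false in
local notation "M4" => Matrix (Fin 2 ⊕ Fin 2) (Fin 2 ⊕ Fin 2) F
set_option quotPrecheck false in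
local notation "Sp4" => Subtype (fun A => A ∈ Matrix.symplecticGroup (Fin 2) F)

/-- First index of the pair attached to a basis vector. -/
def pa : I4 → I4 := Sum.elim (fun _ => Sum.inl 0) (fun _ => Sum.inr 0)

/-- Second index of the pair attached to a basis vector. -/
def pb : I4 → I4 := Sum.elim ![Sum.inl 1, Sum.inr 1] ![Sum.inr 1, Sum.inl 1]

/-- A two by two minor. -/
def mn (A : M4) (a b c d : I4) : F := A a c * A b d - A a d * A b c

/-- The matrix of minors. -/
def theta (A : M4) : M4 := Matrix.of fun i j => mn A (pa i) (pb i) (pa j) (pb j)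

theorem mn_mul (A B : M4) (a b c d : I4) :
    mn (A * B) a b c d = (∑ i, mn A a b (pa i) (pb i) * mn B (pa i) (pb i) c d) +
      mn A a b (Sum.inl 0) (Sum.inr 0) * mn B (Sum.inl 0) (Sum.inr 0) c d +
      mn A a b (Sum.inl 1) (Sum.inr 1) * mn B (Sum.inl 1) (Sum.inr 1) c d := by
  simp only [mn, Matrix.mul_apply, Fintype.sum_sum_type, Fin.sum_univ_two, pa, pb, Sum.elim_inl, Sum.elim_inr,
    Matrix.cons_val_zero, Matrix.cons_val_one]
  ring

theorem mn_transpose (A : M4) (a b c d : I4) : mn Aᵀ a b c d = mn A c d a b := by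
  simp only [mn, Matrix.transpose_apply]; ring

theorem col_rel (g : Sp4) (k : I4) :
    mn g.1 (Sum.inl 0) (Sum.inr 0) (pa k) (pb k) + mn g.1 (Sum.inl 1) (Sum.inr 1) (pa k) (pb k) = 0 := by
  have h := sp_form g (Pi.single (pa k) 1) (Pi.single (pb k) 1)
  rw [Matrix.mulVec_single_one, Matrix.mulVec_single_one, sympForm_eq_sum, sympForm_eq_sum, Fin.sum_univ_two,
    Fin.sum_univ_two] at h
  have h0 : ∀ i : Fin 2, (Pi.single (pa k) (1 : F) : I4 → F) (Sum.inr i) * (Pi.single (pb k) (1 : F) : I4 → F) (Sum.inl i) -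
      (Pi.single (pa k) (1 : F) : I4 → F) (Sum.inl i) * (Pi.single (pb k) (1 : F) : I4 → F) (Sum.inr i) = 0 := by
    intro i
    rcases k with k | k <;> fin_cases k <;> fin_cases i <;> simp [pa, pb]
  rw [h0 0, h0 1, add_zero] at h
  simp only [mn, Matrix.col_apply] at h ⊢
  linear_combination -h

theorem row_rel (g : Sp4) (k : I4) :
    mn g.1 (pa k) (pb k) (Sum.inl 0) (Sum.inr 0) + mn g.1 (pa k) (pb k) (Sum.inl 1) (Sum.inr 1) = 0 := by
  have h := col_rel ⟨g.1ᵀ, SymplecticGroup.transpose_mem g.2⟩ k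
  rwa [mn_transpose, mn_transpose] at h

theorem theta_mul [CharP F 2] (g h : Sp4) : theta (g.1 * h.1) = theta g.1 * theta h.1 := by
  ext i j
  rw [Matrix.mul_apply, theta, Matrix.of_apply, mn_mul]
  simp only [theta, Matrix.of_apply]
  rw [add_assoc, add_eq_left]
  linear_combination (mn h.1 (Sum.inl 0) (Sum.inr 0) (pa j) (pb j)) * row_rel g i +
    (mn g.1 (pa i) (pb i) (Sum.inl 1) (Sum.inr 1)) * col_rel h j -
    (mn g.1 (pa i) (pb i) (Sum.inl 1) (Sum.inr 1) * mn h.1 (Sum.inl 0) (Sum.inr 0) (pa j) (pb j)) *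
      (CharTwo.two_eq_zero : (2 : F) = 0)

theorem theta_one : theta (1 : M4) = 1 := by
  ext i j
  rcases i with i | i <;> rcases j with j | j <;> fin_cases i <;> fin_cases j <;>
    simp [theta, Matrix.of_apply, mn] <;> simp [pa, pb, Matrix.one_apply]

/-- The minors as a homomorphism to matrices. -/
def thetaHom [CharP F 2] : Sp4 →* M4 where
  toFun g := theta g.1
  map_one' := theta_one
  map_mul' g h := theta_mul g h

theorem theta_spT_mem [CharP F 2] (v : I4 → F) (c : F) :
    theta (spT v c).1 ∈ Matrix.symplecticGroup (Fin 2) F := by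
  have hT : ∀ i j, (spT v c).1 i j = (Pi.single j (1 : F) : I4 → F) i +
      c * Cfsg.sympForm 2 F (Pi.single j 1) v * v i := fun i j => by
    have h := congrFun (spT_mulVec v c (Pi.single j 1)) i
    rwa [Matrix.mulVec_single_one, Pi.add_apply, Pi.smul_apply, smul_eq_mul] at h
  rw [SymplecticGroup.mem_iff]
  have h2 : (2 : F) = 0 := CharTwo.two_eq_zero
  have h4 : (4 : F) = 0 := by linear_combination 2 * h2
  have h6 : (6 : F) = 0 := by linear_combination 3 * h2
  have h8 : (8 : F) = 0 := by linear_combination 4 * h2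
  have h16 : (16 : F) = 0 := by linear_combination 8 * h2
  ext i j
  rcases i with i | i <;> rcases j with j | j <;> fin_cases i <;> fin_cases j <;>
    simp [Matrix.mul_apply, Fintype.sum_sum_type, Fin.sum_univ_two, theta, mn, pa, pb, hT, sympForm_eq_sum,
      Matrix.J, CharTwo.sub_eq_add, CharTwo.neg_eq] <;>
    ring_nf <;> try simp [h2, h4, h6, h8, h16]

theorem theta_mem [CharP F 2] (g : Sp4) : theta g.1 ∈ Matrix.symplecticGroup (Fin 2) F := by
  let S : Submonoid Sp4 := (Matrix.symplecticGroup (Fin 2) F).comap thetaHom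
  let H : Subgroup Sp4 :=
    { S with
      inv_mem' := fun {x} hx => by
        have e : theta (x⁻¹).1 = ((⟨theta x.1, hx⟩ : Sp4)⁻¹).1 := by
          have h1 : theta (x⁻¹).1 * theta x.1 = 1 := by
            rw [← theta_mul, ← Submonoid.coe_mul, inv_mul_cancel, Submonoid.coe_one, theta_one]
          have h2 : theta x.1 * ((⟨theta x.1, hx⟩ : Sp4)⁻¹).1 = 1 :=
            congrArg Subtype.val (mul_inv_cancel (⟨theta x.1, hx⟩ : Sp4))
          exact left_inv_eq_right_inv h1 h2
        show theta (x⁻¹).1 ∈ Matrix.symplecticGroup (Fin 2) F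
        rw [e]
        exact Subtype.prop _ }
  have h : H = ⊤ := sp_eq_top_of_transvections fun v c => theta_spT_mem v c
  exact (h ▸ Subgroup.mem_top g : g ∈ H)

/-- The exceptional endomorphism. -/
def thetaSp [CharP F 2] : Sp4 →* Sp4 :=
  thetaHom.codRestrict (Matrix.symplecticGroup (Fin 2) F) theta_mem

theorem thetaSp_val [CharP F 2] (g : Sp4) : (thetaSp g).1 = theta g.1 := rfl

end Cfsg.Agent.Lib.Geometry.SpFour
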