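import Cfsg.Agent.Lib.Geometry.SpFourGraph
import Cfsg.Agent.Lib.Geometry.IsotropicTuples
import Cfsg.Agent.Lib.Classical.AutPSp.Main

/-!
Involutions of `Sp₄` in characteristic two with a small class.
-/

set_option autoImplicit false

namespace Cfsg.Agent.Lib.Geometry.SpFour

open Matrix
open Module (finrank)
open Cfsg.Agent.Lib.Classical Cfsg.Agent.Lib.Classical.AutPSp

variable {F : Type*} [Field F]

local notation "I4" => Fin 2 ⊕ Fin 2
set_option quotPrecheck false in
local notation "V4" => (Fin 2 ⊕ Fin 2 → F)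
set_option quotPrecheck false in
local notation "M4" => Matrix (Fin 2 ⊕ Fin 2) (Fin 2 ⊕ Fin 2) F
set_option quotPrecheck false in
local notation "Sp4" => Subtype (fun A => A ∈ Matrix.symplecticGroup (Fin 2) F)
set_option quotPrecheck false in
local notation "ω" => Cfsg.sympForm 2 F

/-- The short root elements. -/
def Sh (c : F) : Sp4 :=
  spN !![0, c; c, 0] (by ext i j; fin_cases i <;> fin_cases j <;> rfl)

theorem thetaSp_spT_E [CharP F 2] (c : F) : thetaSp (spT (E 0) c) = Sh c := by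
  have hT : ∀ i j, (spT (E 0 : V4) c).1 i j = (Pi.single j (1 : F) : V4) i +
      c * ω (Pi.single j 1) (E 0) * (E 0 : V4) i := fun i j => by
    have h := congrFun (spT_mulVec (E 0 : V4) c (Pi.single j 1)) i
    rwa [Matrix.mulVec_single_one, Pi.add_apply, Pi.smul_apply, smul_eq_mul] at h
  refine Subtype.ext (Matrix.ext fun i j => ?_)
  rw [thetaSp_val]
  rcases i with i | i <;> rcases j with j | j <;> fin_cases i <;> fin_cases j <;>
    simp [theta, mn, Sh, spN, hT, form_E] <;> simp [pa, pb, E, CharTwo.neg_eq]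

theorem thetaSp_Sh [CharP F 2] (c : F) : thetaSp (Sh c) = spT (E 0) (c * c) := by
  have hT : ∀ i j, (spT (E 0 : V4) (c * c)).1 i j = (Pi.single j (1 : F) : V4) i +
      c * c * ω (Pi.single j 1) (E 0) * (E 0 : V4) i := fun i j => by
    have h := congrFun (spT_mulVec (E 0 : V4) (c * c) (Pi.single j 1)) i
    rwa [Matrix.mulVec_single_one, Pi.add_apply, Pi.smul_apply, smul_eq_mul] at h
  refine Subtype.ext (Matrix.ext fun i j => ?_)
  rw [thetaSp_val, hT, form_E]
  rcases i with i | i <;> rcases j with j | j <;> fin_cases i <;> fin_cases j <;>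
    simp [theta, mn, Sh, spN] <;> simp [pa, pb, E, CharTwo.neg_eq]

theorem spM_conj_spN (A : GL (Fin 2) F) (X : Matrix (Fin 2) (Fin 2) F) (hX : Xᵀ = X) :
    spM A * spN X hX * (spM A)⁻¹ = spN (A.1 * X * A.1ᵀ) (transpose_conj_symm hX) := by
  have h := spM_spN_commutator A X hX
  rw [commutatorElement_def, mul_inv_eq_iff_eq_mul, spN_mul] at h
  rw [h]
  exact spN_congr _ _ (sub_add_cancel _ _)

theorem range_spN_sub_one {T : Matrix (Fin 2) (Fin 2) F} (hT : Tᵀ = T) (hdet : T.det ≠ 0) :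
    LinearMap.range (Matrix.toLin' ((spN T hT).1 - 1)) = Submodule.span F (Set.range (E : Fin 2 → V4)) := by
  have hap : ∀ x : V4, ((spN T hT).1 - 1) *ᵥ x = Sum.elim (T *ᵥ fun i => x (Sum.inr i)) 0 := by
    intro x
    rw [Matrix.sub_mulVec, Matrix.one_mulVec]
    show Matrix.fromBlocks 1 T 0 1 *ᵥ x - x = _
    rw [Matrix.fromBlocks_mulVec]
    funext k
    rcases k with k | k <;> fin_cases k <;> simp [Function.comp_def, Matrix.vecHead, Matrix.vecTail]
  refine le_antisymm ?_ (Submodule.span_le.mpr ?_)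
  · rintro _ ⟨x, rfl⟩
    rw [Matrix.toLin'_apply, hap, Submodule.mem_span_range_iff_exists_fun]
    refine ⟨T *ᵥ fun i => x (Sum.inr i), funext fun k => ?_⟩
    rcases k with k | k <;> fin_cases k <;> simp [Fin.sum_univ_two, E]
  · rintro _ ⟨i, rfl⟩
    obtain ⟨y, hy⟩ := (Matrix.mulVec_surjective_iff_isUnit.mpr ((Matrix.isUnit_iff_isUnit_det T).mpr
      (Ne.isUnit hdet))) (Pi.single i 1)
    refine ⟨Sum.elim 0 y, ?_⟩
    rw [Matrix.toLin'_apply, hap]
    funext k
    rcases k with k | k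
    · simp only [Sum.elim_inl, Sum.elim_inr]
      rw [hy]
      simp [E, Pi.single_apply]
    · simp [E]

theorem range_conj_sub_one (g x : Sp4) :
    LinearMap.range (Matrix.toLin' ((g * x * g⁻¹).1 - 1)) =
      (LinearMap.range (Matrix.toLin' (x.1 - 1))).map (Matrix.toLin' g.1) := by
  have hap : ∀ (z : Sp4) (v : V4), (z.1 - 1) *ᵥ v = z.1 *ᵥ v - v := fun z v => by
    rw [Matrix.sub_mulVec, Matrix.one_mulVec]
  ext w
  constructor
  · rintro ⟨v, rfl⟩
    refine ⟨_, ⟨(g⁻¹).1 *ᵥ v, rfl⟩, ?_⟩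
    rw [Matrix.toLin'_apply, Matrix.toLin'_apply, Matrix.toLin'_apply, hap, hap, Matrix.mulVec_sub,
      sp_mulVec_inv_cancel, sp_mulVec_mul, sp_mulVec_mul]
  · rintro ⟨_, ⟨v, rfl⟩, rfl⟩
    refine ⟨g.1 *ᵥ v, ?_⟩
    rw [Matrix.toLin'_apply, Matrix.toLin'_apply, Matrix.toLin'_apply, hap, hap, Matrix.mulVec_sub,
      sp_mulVec_mul, sp_mulVec_mul, sp_inv_mulVec_cancel]

theorem isoTuple_E : IsoTuple 2 2 (E : Fin 2 → V4) := by
  refine ⟨Fintype.linearIndependent_iff.mpr fun c hc i => ?_, fun a b => ?_⟩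
  · have := congrFun hc (Sum.inl i)
    fin_cases i <;> simpa [Fin.sum_univ_two, E] using this
  · rw [form_E]; simp [E]

theorem invol_cases [Fintype F] [CharP F 2] (u : Sp4) (hu : u * u = 1)
    (hcard : Nat.card {x : Sp4 // ∃ g, x = g * u * g⁻¹} ≤ Fintype.card F ^ 4 - 1) :
    (∃ (v : V4) (c : F), v ≠ 0 ∧ u = spT v c) ∨ ∃ (g : Sp4) (c : F), u = g * Sh c * g⁻¹ := by
  classical
  haveI : Finite Sp4 := Subtype.finite
  have huu : ∀ x : V4, u.1 *ᵥ (u.1 *ᵥ x) = x := fun x => by rw [← sp_mulVec_mul, hu, sp_one_mulVec]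
  have h2 : (2 : F) = 0 := CharTwo.two_eq_zero
  set R := LinearMap.range (Matrix.toLin' (u.1 - 1)) with hR
  have hmem : ∀ x, u.1 *ᵥ x - x ∈ R := fun x => ⟨x, by
    rw [Matrix.toLin'_apply, Matrix.sub_mulVec, Matrix.one_mulVec]⟩
  have hmem' : ∀ y ∈ R, ∃ x, y = u.1 *ᵥ x - x := by
    rintro _ ⟨x, rfl⟩
    exact ⟨x, by rw [Matrix.toLin'_apply, Matrix.sub_mulVec, Matrix.one_mulVec]⟩
  have hsym : ∀ x y, ω (u.1 *ᵥ x) y = ω x (u.1 *ᵥ y) := fun x y => by
    conv_lhs => rw [← huu y]
    rw [sp_form]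
  have hiso : ∀ a ∈ R, ∀ b ∈ R, ω a b = 0 := by
    intro a ha b hb
    obtain ⟨x, rfl⟩ := hmem' a ha
    obtain ⟨y, rfl⟩ := hmem' b hb
    rw [sympForm_sub_left, sympForm_sub_right, sympForm_sub_right, sp_form, hsym x y]
    linear_combination (ω x y - ω x (u.1 *ᵥ y)) * h2
  have hfixR : ∀ a ∈ R, u.1 *ᵥ a = a := by
    intro a ha
    obtain ⟨x, rfl⟩ := hmem' a ha
    rw [Matrix.mulVec_sub, huu]
    funext k
    rw [Pi.sub_apply, Pi.sub_apply]
    linear_combination (x k - (u.1 *ᵥ x) k) * h2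
  rcases Nat.lt_or_ge (finrank F R) 2 with hr | hr
  · left
    obtain ⟨⟨v, hvR⟩, hv⟩ := finrank_le_one_iff.mp (by omega : finrank F R ≤ 1)
    have hv' : ∀ x, ∃ c : F, c • v = u.1 *ᵥ x - x := fun x => by
      obtain ⟨c, hc⟩ := hv ⟨_, hmem x⟩
      exact ⟨c, congrArg Subtype.val hc⟩
    by_cases hv0 : v = 0
    · refine ⟨E 0, 0, E_ne_zero 0, ?_⟩
      rw [spT_zero]
      exact sp_ext fun x => by
        obtain ⟨c, hc⟩ := hv' x
        rw [hv0, smul_zero] at hc
        rw [sp_one_mulVec, sub_eq_zero.mp hc.symm]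
    refine ⟨v, ?_⟩
    suffices h : ∀ w, ω v w = 0 → u.1 *ᵥ w = w by
      obtain ⟨k, hk⟩ := eq_spT_of_fix hv0 h
      exact ⟨k, hv0, hk⟩
    intro w hw
    rw [← sub_eq_zero]
    by_contra hne
    obtain ⟨y, hy⟩ := exists_sympForm_eq_one hne
    obtain ⟨c, hc⟩ := hv' y
    have h1 : ω w (u.1 *ᵥ y - y) = 0 := by
      rw [← hc, sympForm_smul_right, sympForm_swap w v, hw, neg_zero, mul_zero]
    rw [sympForm_sub_left, hsym, ← sympForm_sub_right, h1] at hy
    exact zero_ne_one hy
  obtain ⟨t, ht⟩ := exists_linearIndependent_of_le_finrank hr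
  let t' : Fin 2 → V4 := fun a => (t a : V4)
  have htiso : IsoTuple 2 2 t' := ⟨ht.map' R.subtype (Submodule.ker_subtype R),
    fun a b => hiso _ (t a).2 _ (t b).2⟩
  have hspan : Submodule.span F (Set.range t') = R := by
    have hle : Submodule.span F (Set.range t') ≤ R :=
      Submodule.span_le.mpr (by rintro _ ⟨a, rfl⟩; exact (t a).2)
    refine Submodule.eq_of_le_of_finrank_le hle ?_
    rw [finrank_span_eq_card htiso.1, Fintype.card_fin]
    have hperp : R ≤ (sympBilin 2 F).orthogonal R := fun a ha =>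
      LinearMap.BilinForm.mem_orthogonal_iff.mpr fun b hb => by
        show sympBilin 2 F b a = 0
        rw [sympBilin_apply]; exact hiso b hb a ha
    have h4 := Submodule.finrank_mono hperp
    rw [finrank_orth] at h4
    omega
  obtain ⟨g, hg⟩ := exists_sp_map_tuple isoTuple_E htiso
  have hgR : ∀ a, g.1 *ᵥ E a ∈ R := fun a => by rw [hg]; exact (t a).2
  set u' : Sp4 := g⁻¹ * u * g with hu'
  have hl : ∀ a, u'.1 *ᵥ E a = E a := fun a => by
    rw [hu', sp_mulVec_mul, sp_mulVec_mul, hfixR _ (hgR a), sp_inv_mulVec_cancel]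
  have hdiff : ∀ x, u'.1 *ᵥ x - x = (g⁻¹).1 *ᵥ (u.1 *ᵥ (g.1 *ᵥ x) - g.1 *ᵥ x) := fun x => by
    rw [hu', sp_mulVec_mul, sp_mulVec_mul, Matrix.mulVec_sub, sp_inv_mulVec_cancel]
  have hd : ∀ x, ∀ k, (u'.1 *ᵥ x - x) (Sum.inr k) = 0 := by
    intro x k
    have hm := hmem (g.1 *ᵥ x)
    rw [← hspan, Submodule.mem_span_range_iff_exists_fun] at hm
    obtain ⟨c, hc⟩ := hm
    rw [hdiff, ← hc, Matrix.mulVec_sum]
    simp only [Matrix.mulVec_smul, ← hg, t', sp_inv_mulVec_cancel]
    simp [Fin.sum_univ_two, E]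
  set S : Matrix (Fin 2) (Fin 2) F := Matrix.of fun i j => u'.1 (Sum.inl i) (Sum.inr j) with hS
  have hu'eq : u'.1 = Matrix.fromBlocks 1 S 0 1 := by
    ext i j
    rcases j with j | j
    · have := congrFun (hl j) i
      rw [show (E j : V4) = Pi.single (Sum.inl j) 1 from rfl, Matrix.mulVec_single_one, Matrix.col_apply] at this
      rw [this]
      rcases i with i | i <;> simp [Pi.single_apply, Matrix.one_apply]
    · rcases i with i | i
      · simp [hS]
      · have := hd (Pi.single (Sum.inr j) 1) i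
        rw [Pi.sub_apply, Matrix.mulVec_single_one, Matrix.col_apply, sub_eq_zero] at this
        rw [this]
        simp [Pi.single_apply, Matrix.one_apply]
  have hSs : Sᵀ = S := by
    have h := u'.2
    rw [hu'eq, SymplecticGroup.fromBlocks_mem_iff] at h
    simpa using h.2.1
  have hu'N : u' = spN S hSs := Subtype.ext hu'eq
  have huN : u = g * spN S hSs * g⁻¹ := by
    rw [← hu'N, hu']; group
  have hdet : S.det ≠ 0 := by
    intro h0
    obtain ⟨z, hz0, hz⟩ := Matrix.exists_vecMul_eq_zero_iff.mpr h0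
    -- the row `z` annihilates the image, which contains every `E a`
    have key : ∀ a : Fin 2, z a = 0 := by
      intro a
      obtain ⟨x, hx⟩ := hmem' _ (hgR a)
      have hx' : u'.1 *ᵥ ((g⁻¹).1 *ᵥ x) - (g⁻¹).1 *ᵥ x = E a := by
        rw [hdiff, sp_mulVec_inv_cancel, ← hx, sp_inv_mulVec_cancel]
      have hb : (fun i => (E a : V4) (Sum.inl i)) = S *ᵥ fun i => ((g⁻¹).1 *ᵥ x) (Sum.inr i) := by
        funext i
        rw [← hx', Pi.sub_apply, hu'eq, Matrix.fromBlocks_mulVec]
        fin_cases i <;> simp [Function.comp_def, Matrix.vecHead, Matrix.vecTail]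
      have := congrArg (fun w => z ⬝ᵥ w) hb
      simp only [Matrix.dotProduct_mulVec, hz, zero_dotProduct] at this
      rw [← this]
      simp [dotProduct, E, Pi.single_apply]
    exact hz0 (funext key)
  by_cases hdiag : S 0 0 = 0 ∧ S 1 1 = 0
  · refine Or.inr ⟨g, S 0 1, ?_⟩
    rw [huN]
    congr 2
    refine spN_congr _ _ ?_
    have h10 : S 1 0 = S 0 1 := by
      conv_lhs => rw [← hSs]
      rfl
    ext i j
    fin_cases i <;> fin_cases j <;> simp [hdiag.1, hdiag.2, h10]
  exfalso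
  -- the class is too large
  obtain ⟨A, hA⟩ : ∃ A : GL (Fin 2) F, ∀ k : F, k ≠ 0 → A.1 * S * A.1ᵀ ≠ (k * k) • S := by
    have h10 : S 1 0 = S 0 1 := by
      conv_lhs => rw [← hSs]
      rfl
    by_cases hd1 : S 1 1 = 0
    · have h00 : S 0 0 ≠ 0 := fun h => hdiag ⟨h, hd1⟩
      refine ⟨Matrix.GeneralLinearGroup.mkOfDetNeZero !![1, 0; 1, 1] (by simp [Matrix.det_fin_two]), fun k hk he => ?_⟩
      have e00 := congrFun (congrFun he 0) 0
      have e01 := congrFun (congrFun he 0) 1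
      simp [Matrix.GeneralLinearGroup.mkOfDetNeZero, Matrix.mul_apply, Matrix.vecMul, dotProduct, Fin.sum_univ_two] at e00 e01
      have hk1 : k * k = 1 := mul_right_cancel₀ h00 (by rw [one_mul]; exact e00.symm)
      rw [hk1, one_mul] at e01
      exact h00 (by linear_combination e01)
    · refine ⟨Matrix.GeneralLinearGroup.mkOfDetNeZero !![1, 1; 0, 1] (by simp [Matrix.det_fin_two]), fun k hk he => ?_⟩
      have e11 := congrFun (congrFun he 1) 1
      have e01 := congrFun (congrFun he 0) 1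
      simp [Matrix.GeneralLinearGroup.mkOfDetNeZero, Matrix.mul_apply, Matrix.vecMul, dotProduct, Fin.sum_univ_two] at e11 e01
      have hk1 : k * k = 1 := mul_right_cancel₀ hd1 (by rw [one_mul]; exact e11.symm)
      rw [hk1, one_mul] at e01
      exact hd1 (by linear_combination e01)
  let T : Option Fˣ → GL (Fin 2) F := fun o => o.elim A fun k => Matrix.GeneralLinearGroup.scalar (Fin 2) k
  let X : Option Fˣ → Matrix (Fin 2) (Fin 2) F := fun o => (T o).1 * S * (T o).1ᵀ
  have hXk : ∀ k : Fˣ, X (some k) = ((k : F) * k) • S := fun k => by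
    show Matrix.scalar (Fin 2) (k : F) * S * (Matrix.scalar (Fin 2) (k : F))ᵀ = _
    rw [Matrix.scalar_apply, Matrix.diagonal_transpose, ← Matrix.smul_one_eq_diagonal]
    simp [smul_smul]
  have hXinj : Function.Injective X := by
    intro a b hab
    have hS0 : ∀ r r' : F, r • S = r' • S → r = r' := fun r r' h => by
      by_contra hne
      refine hdet ?_
      have : (r - r') • S = 0 := by rw [sub_smul, h, sub_self]
      rw [smul_eq_zero] at this
      rw [this.resolve_left (sub_ne_zero.mpr hne)]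
      simp
    rcases a with _ | a <;> rcases b with _ | b
    · rfl
    · exact absurd (hab.trans (hXk b)) (hA _ b.ne_zero)
    · exact absurd (hab.symm.trans (hXk a)) (hA _ a.ne_zero)
    · rw [hXk, hXk] at hab
      have h := hS0 _ _ hab
      refine congrArg some (Units.ext ?_)
      rcases mul_self_eq_mul_self_iff.mp h with h | h
      · exact h
      · rw [h, CharTwo.neg_eq]
  have hXdet : ∀ o, (X o).det ≠ 0 := fun o => by
    rw [Matrix.det_mul, Matrix.det_mul, Matrix.det_transpose]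
    have := Matrix.GeneralLinearGroup.det_ne_zero (T o)
    exact mul_ne_zero (mul_ne_zero this hdet) this
  choose gt hgt using fun s : {s : Fin 2 → V4 // IsoTuple 2 2 s} => exists_sp_map_tuple isoTuple_E s.2
  set C := {x : Sp4 // ∃ g, x = g * u * g⁻¹}
  let D := Σ x : C, {r : Fin 2 → LinearMap.range (Matrix.toLin' (x.1.1 - 1)) // LinearIndependent F r}
  have hrange : ∀ (s : {s : Fin 2 → V4 // IsoTuple 2 2 s}) (o : Option Fˣ),
      LinearMap.range (Matrix.toLin' ((gt s * spN (X o) (transpose_conj_symm hSs) * (gt s)⁻¹).1 - 1)) =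
        Submodule.span F (Set.range s.1) := by
    intro s o
    rw [range_conj_sub_one, range_spN_sub_one _ (hXdet o), Submodule.map_span]
    congr 1
    rw [← Set.range_comp]
    congr 1
    funext a
    exact hgt s a
  let Φ : {s : Fin 2 → V4 // IsoTuple 2 2 s} × Option Fˣ → D := fun z =>
    ⟨⟨gt z.1 * spN (X z.2) (transpose_conj_symm hSs) * (gt z.1)⁻¹,
      gt z.1 * spM (T z.2) * g⁻¹, by
        rw [huN, ← spM_conj_spN (T z.2) S hSs]; group⟩,
    ⟨fun a => ⟨z.1.1 a, by rw [hrange]; exact Submodule.subset_span ⟨a, rfl⟩⟩,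
      LinearIndependent.of_comp (Submodule.subtype _) z.1.2.1⟩⟩
  have hΦ : Function.Injective Φ := by
    rintro ⟨s, o⟩ ⟨s', o'⟩ h
    have h1 : (Φ (s, o)).1.1 = (Φ (s', o')).1.1 := by rw [h]
    have h2 : (fun a => ((Φ (s, o)).2.1 a : V4)) = fun a => ((Φ (s', o')).2.1 a : V4) := by rw [h]
    obtain rfl : s = s' := Subtype.ext h2
    have h3 : spN (X o) (transpose_conj_symm hSs) = spN (X o') (transpose_conj_symm hSs) :=
      mul_left_cancel (mul_right_cancel h1)
    refine Prod.ext rfl (hXinj ?_)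
    ext i j
    exact congrFun (congrFun (congrArg Subtype.val h3) (Sum.inl i)) (Sum.inr j)
  have hle := Nat.card_le_card_of_injective Φ hΦ
  set q := Fintype.card F with hq
  have hD : Nat.card D = Nat.card C * ((q ^ 2 - 1) * (q ^ 2 - q)) := by
    haveI := Fintype.ofFinite C
    rw [Nat.card_sigma, Finset.sum_const_nat (m := (q ^ 2 - 1) * (q ^ 2 - q)) fun x _ => ?_,
      Finset.card_univ, Nat.card_eq_fintype_card (α := C)]
    obtain ⟨_, k, hk⟩ := x
    have hfin : finrank F (LinearMap.range (Matrix.toLin' ((k * u * k⁻¹).1 - 1))) = 2 := by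
      rw [range_conj_sub_one, LinearEquiv.finrank_eq (Submodule.equivMapOfInjective _ ?_ _).symm, ← hR, ← hspan,
        finrank_span_eq_card htiso.1, Fintype.card_fin]
      exact mulVec_injective_of_hom (Matrix.symplecticGroup (Fin 2) F).subtype k
    subst hk
    rw [card_linearIndependent hfin.ge, hfin, Fin.prod_univ_two]
    simp [hq]
  rw [Nat.card_prod, hD, card_isoTuple, Finset.prod_range_succ, Finset.prod_range_one,
    Nat.card_eq_fintype_card (α := Option Fˣ), Fintype.card_option, Fintype.card_units, ← hq] at hle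
  have hq2 : 2 ≤ q := Fintype.one_lt_card
  have hC := Nat.mul_le_mul_right ((q ^ 2 - 1) * (q ^ 2 - q)) hcard
  have h := hle.trans hC
  simp only [Nat.reduceMul, Nat.sub_zero, pow_zero, pow_one, show q - 1 + 1 = q by omega] at h
  rw [show 4 - 1 = 3 from rfl, mul_assoc] at h
  have h4 : 0 < q ^ 4 - 1 := by
    have := Nat.le_self_pow (show 4 ≠ 0 by norm_num) q; omega
  have h' : (q ^ 3 - q) * q ≤ (q ^ 2 - 1) * (q ^ 2 - q) := Nat.le_of_mul_le_mul_left h h4
  have e1 : (q ^ 3 - q) * q = (q ^ 2 - 1) * q ^ 2 := by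
    rw [show q ^ 3 - q = (q ^ 2 - 1) * q by rw [Nat.sub_mul, one_mul]; ring_nf]; ring
  rw [e1] at h'
  have h5 : 0 < q ^ 2 - 1 := by
    have := Nat.le_self_pow (show 2 ≠ 0 by norm_num) q; omega
  have := Nat.le_of_mul_le_mul_left h' h5
  have := Nat.le_self_pow (show 2 ≠ 0 by norm_num) q
  omega

end Cfsg.Agent.Lib.Geometry.SpFour
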