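import Cfsg.Agent.Lib.Geometry.SpFourAut

/-!
The outer automorphism group of `PSp₄(2^f)`.
-/

set_option autoImplicit false

namespace Cfsg.Agent.Lib.Geometry.SpFour

open Matrix
open Cfsg.Agent.Lib.Classical Cfsg.Agent.Lib.Classical.AutPSp

variable {F : Type*} [Field F] [Fintype F] [CharP F 2]

set_option quotPrecheck false in
local notation "P4" => Cfsg.PSp 2 F

theorem inn_eq_range_dia : Cfsg.Inn P4 = (dia (F := F) (m := 2)).range :=
  le_antisymm inn_le_range (by rintro _ ⟨g, rfl⟩; exact dia_mem_inn_of_two (by norm_num) g)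

theorem orderOf_squaring {f : ℕ} (hF : Fintype.card F = 2 ^ f) (σ : F ≃+* F) (hσ : ∀ c, σ c = c * c) :
    orderOf σ = f := by
  have hpow : ∀ (k : ℕ) (c : F), (σ ^ k) c = c ^ 2 ^ k := by
    intro k
    induction k with
    | zero => intro c; simp
    | succ k ih => intro c; rw [pow_succ, RingAut.mul_apply, hσ, ih, ← sq, ← pow_mul, ← pow_succ']
  refine Nat.dvd_antisymm ((AutPSL.gal_cyclic_card (F := F) hF).2 ▸ orderOf_dvd_natCard σ) ?_
  have hk := pow_orderOf_eq_one σ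
  haveI : Finite (F ≃+* F) := Finite.of_injective (fun e => (e : F → F)) DFunLike.coe_injective
  set k := orderOf σ with hkdef
  have hkpos : 0 < k := orderOf_pos σ
  obtain ⟨g, hg⟩ := IsCyclic.exists_ofOrder_eq_natCard (α := Fˣ)
  have hgk : g ^ (2 ^ k - 1) = 1 := by
    have h := hpow k (g : F)
    rw [hk, RingAut.one_apply] at h
    refine mul_right_cancel (b := g) (Units.ext ?_)
    rw [one_mul, ← pow_succ, Nat.sub_add_cancel Nat.one_le_two_pow, Units.val_pow_eq_pow_val, ← h]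
  have hdvd := orderOf_dvd_of_pow_eq_one hgk
  rw [hg, Nat.card_units, Nat.card_eq_fintype_card, hF] at hdvd
  have hg' := Nat.pow_sub_one_gcd_pow_sub_one 2 f k
  rw [Nat.gcd_eq_left hdvd] at hg'
  have hfk : 2 ^ f = 2 ^ Nat.gcd f k := by
    have h1 := Nat.one_le_two_pow (n := f)
    have h2 := Nat.one_le_two_pow (n := Nat.gcd f k)
    omega
  rw [Nat.pow_right_injective le_rfl hfk]
  exact Nat.gcd_dvd_right f k

theorem out_cyclic {f : ℕ} (hF : Fintype.card F = 2 ^ f) :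
    IsCyclic (Cfsg.Out P4) ∧ Nat.card (Cfsg.Out P4) = 2 * f := by
  haveI : Finite P4 := Finite.of_surjective _ (pr_surjective (F := F) (m := 2))
  have hsub : Nat.card (Cfsg.Inn P4) = Nat.card P4 := by
    rw [inn_eq_range_dia, SympAut.card_range_dia 2 (by norm_num)]
    exact Nat.card_congr (prEquiv (F := F)).toEquiv
  have hcard : Nat.card (Cfsg.Out P4) = 2 * f := by
    have h := Subgroup.card_eq_card_quotient_mul_card_subgroup (Cfsg.Inn P4)
    rw [card_mulAut hF, hsub] at h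
    exact (Nat.eq_of_mul_eq_mul_right Nat.card_pos h).symm
  refine ⟨?_, hcard⟩
  set K : (F ≃+* F) →* Cfsg.Out P4 := (QuotientGroup.mk' (Cfsg.Inn P4)).comp fld with hK
  have hKinj : Function.Injective K := by
    refine (injective_iff_map_eq_one K).mpr fun σ hσ => ?_
    have hmem : fld σ ∈ Cfsg.Inn P4 := (QuotientGroup.eq_one_iff _).mp hσ
    rw [inn_eq_range_dia] at hmem
    obtain ⟨g, hg⟩ := hmem
    exact SympAut.eq_one_of_fld_eq_dia 2 (by norm_num) hg.symm
  have hdia : ∀ g : Cfsg.GSp 2 F, (QuotientGroup.mk' (Cfsg.Inn P4)) (dia g) = 1 := fun g =>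
    (QuotientGroup.eq_one_iff _).mpr (dia_mem_inn_of_two (by norm_num) g)
  set x : Cfsg.Out P4 := QuotientGroup.mk' (Cfsg.Inn P4) (thetaP) with hx
  obtain ⟨g, σ, hsq, hσ⟩ := thetaP_sq (F := F)
  have hx2 : x ^ 2 = K σ := by
    rw [sq, hx, ← map_mul, hsq, map_mul, hdia, one_mul]; rfl
  have hodd : ∀ j, x ^ (2 * j + 1) ≠ 1 := by
    intro j h
    rw [pow_succ, pow_mul, hx2, ← map_pow, ← eq_inv_iff_mul_eq_one, ← map_inv] at h
    have h' : QuotientGroup.mk' (Cfsg.Inn P4) (fld (σ ^ j)⁻¹) = QuotientGroup.mk' (Cfsg.Inn P4) (thetaP) := by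
      rw [map_inv fld, map_inv, show QuotientGroup.mk' (Cfsg.Inn P4) (fld (σ ^ j)) = K (σ ^ j) from rfl, h,
        map_inv, inv_inv]
    obtain ⟨z, hz, e⟩ := (QuotientGroup.mk'_eq_mk' _).mp h'
    rw [inn_eq_range_dia] at hz
    obtain ⟨k, rfl⟩ := hz
    refine thetaP_not_dia_fld ((galG (σ ^ j)⁻¹) k) (σ ^ j)⁻¹ ?_
    rw [← fld_mul_dia, e]
  refine isCyclic_of_orderOf_eq_card x ?_
  rw [hcard]
  have heven : 2 ∣ orderOf x := by
    by_contra h
    obtain ⟨j, hj⟩ : Odd (orderOf x) := Nat.odd_iff.mpr (by omega)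
    exact hodd j (hj ▸ pow_orderOf_eq_one x)
  have h2 : orderOf (x ^ 2) = f := by rw [hx2, orderOf_injective K hKinj, orderOf_squaring hF σ hσ]
  rw [orderOf_pow' x two_ne_zero, Nat.gcd_eq_right heven] at h2
  omega

end Cfsg.Agent.Lib.Geometry.SpFour
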