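import Cfsg.Agent.Lib.Geometry.Stabilizing
import Cfsg.Agent.Lib.Geometry.SympBasis
import Cfsg.Agent.Lib.Geometry.SympBasic
import Cfsg.Agent.Lib.Geometry.HermBasis
import Cfsg.Agent.Lib.Geometry.UnitaryBasic
import Mathlib.LinearAlgebra.BilinearForm.Orthogonal

/-!
Stabilisers of non-degenerate subspaces in isometry groups split as direct products.
-/

set_option autoImplicit false

namespace Cfsg.Agent.Lib.Geometry

open scoped Matrix
open Module (finrank)

variable {F : Type*} [Field F] {ι ι₁ ι₂ : Type}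
  [Fintype ι] [DecidableEq ι] [Fintype ι₁] [DecidableEq ι₁] [Fintype ι₂] [DecidableEq ι₂]

/-- A matrix preserves a form. -/
def Preserves (f : (ι → F) → (ι → F) → F) (M : Matrix ι ι F) : Prop := ∀ u v, f (M *ᵥ u) (M *ᵥ v) = f u v

/-- The stabiliser of the first summand of an orthogonal splitting. -/
theorem stab_equiv_prod {H H₁ H₂ : Type*} [Group H] [Group H₁] [Group H₂]
    (f : (ι → F) → (ι → F) → F) (f₁ : (ι₁ → F) → (ι₁ → F) → F) (f₂ : (ι₂ → F) → (ι₂ → F) → F)
    (r : H →* Matrix ι ι F) (r₁ : H₁ →* Matrix ι₁ ι₁ F) (r₂ : H₂ →* Matrix ι₂ ι₂ F)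
    (hr : Function.Injective r) (hr₁ : Function.Injective r₁) (hr₂ : Function.Injective r₂)
    (hm : ∀ M, (∃ h, r h = M) ↔ Preserves f M) (hm₁ : ∀ M, (∃ h, r₁ h = M) ↔ Preserves f₁ M)
    (hm₂ : ∀ M, (∃ h, r₂ h = M) ↔ Preserves f₂ M)
    (ψ : (ι → F) ≃ₗ[F] (ι₁ → F) × (ι₂ → F))
    (hψ : ∀ u v, f u v = f₁ (ψ u).1 (ψ v).1 + f₂ (ψ u).2 (ψ v).2)
    (h₁0 : ∀ u, f₁ u 0 = 0 ∧ f₁ 0 u = 0) (h₂0 : ∀ u, f₂ u 0 = 0 ∧ f₂ 0 u = 0)
    (hnd : ∀ v, (∀ u, f₁ u v = 0) → v = 0) (W : Submodule F (ι → F))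
    (hW : ∀ v, v ∈ W ↔ (ψ v).2 = 0) :
    Nonempty (↥(Cfsg.stabilizing r (W : Set (ι → F))) ≃* H₁ × H₂) := by
  classical
  let mk : H₁ × H₂ → Matrix ι ι F := fun h => LinearMap.toMatrix'
    ((ψ.symm : (ι₁ → F) × (ι₂ → F) →ₗ[F] ι → F) ∘ₗ ((r₁ h.1).mulVecLin.prodMap (r₂ h.2).mulVecLin) ∘ₗ
      (ψ : (ι → F) →ₗ[F] (ι₁ → F) × (ι₂ → F)))
  have hmk : ∀ h v, ψ (mk h *ᵥ v) = (r₁ h.1 *ᵥ (ψ v).1, r₂ h.2 *ᵥ (ψ v).2) := by
    intro h v
    rw [← Matrix.toLin'_apply, Matrix.toLin'_toMatrix']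
    simp [LinearMap.prodMap_apply, Matrix.mulVecLin_apply]
  have hpres : ∀ h, Preserves f (mk h) := fun h u v => by
    rw [hψ, hψ u v, hmk, hmk]
    exact congrArg₂ (· + ·) ((hm₁ _).mp ⟨h.1, rfl⟩ _ _) ((hm₂ _).mp ⟨h.2, rfl⟩ _ _)
  choose φ hφ using fun h => (hm (mk h)).mpr (hpres h)
  have hmul : ∀ a b, φ (a * b) = φ a * φ b := fun a b => hr (by
    rw [map_mul, hφ, hφ, hφ]
    refine Matrix.ext_of_mulVec_single fun i => ψ.injective ?_
    rw [← Matrix.mulVec_mulVec, hmk, hmk, hmk, Prod.fst_mul, Prod.snd_mul, map_mul, map_mul,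
      Matrix.mulVec_mulVec, Matrix.mulVec_mulVec])
  let Φ : H₁ × H₂ →* H := MonoidHom.mk' φ hmul
  have hinj : Function.Injective Φ := fun a b h => by
    have e : mk a = mk b := by rw [← hφ, ← hφ]; exact congrArg r h
    refine Prod.ext (hr₁ (Matrix.ext_of_mulVec_single fun i => ?_)) (hr₂ (Matrix.ext_of_mulVec_single fun i => ?_))
    · have h' := congrArg Prod.fst (congrArg ψ (congrArg (· *ᵥ ψ.symm (Pi.single i 1, 0)) e))
      simpa [hmk] using h'
    · have h' := congrArg Prod.snd (congrArg ψ (congrArg (· *ᵥ ψ.symm (0, Pi.single i 1)) e))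
      simpa [hmk] using h'
  have hrange : Φ.range = Cfsg.stabilizing r (W : Set (ι → F)) := by
    apply le_antisymm
    · rintro _ ⟨h, rfl⟩
      rw [mem_stabilizing_submodule_iff]
      intro v hv
      rw [show r (Φ h) = mk h from hφ h, hW, hmk, (hW v).mp hv, Matrix.mulVec_zero]
    · intro g hg
      rw [mem_stabilizing_submodule_iff] at hg
      let G : (ι₁ → F) × (ι₂ → F) →ₗ[F] (ι₁ → F) × (ι₂ → F) :=
        (ψ : (ι → F) →ₗ[F] _) ∘ₗ (r g).mulVecLin ∘ₗ (ψ.symm : _ →ₗ[F] ι → F)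
      have hG : ∀ p, G p = ψ (r g *ᵥ ψ.symm p) := fun _ => rfl
      have hGinj : Function.Injective G :=
        ψ.injective.comp ((mulVec_injective_of_hom r g).comp ψ.symm.injective)
      have hGf : ∀ p p', f₁ (G p).1 (G p').1 + f₂ (G p).2 (G p').2 = f₁ p.1 p'.1 + f₂ p.2 p'.2 := by
        intro p p'
        rw [hG, hG, ← hψ, (hm (r g)).mp ⟨g, rfl⟩, hψ, ψ.apply_symm_apply, ψ.apply_symm_apply]
      have hG1 : ∀ x, (G (x, 0)).2 = 0 := fun x => (hW _).mp (hg _ ((hW _).mpr (by simp)))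
      let A : (ι₁ → F) →ₗ[F] ι₁ → F := LinearMap.fst F _ _ ∘ₗ G ∘ₗ LinearMap.inl F _ _
      let D : (ι₂ → F) →ₗ[F] ι₂ → F := LinearMap.snd F _ _ ∘ₗ G ∘ₗ LinearMap.inr F _ _
      have hA : ∀ x, A x = (G (x, 0)).1 := fun _ => rfl
      have hAs : Function.Surjective A := LinearMap.surjective_of_injective fun a b h => by
        have : G (a, 0) = G (b, 0) := Prod.ext h (by rw [hG1, hG1])
        exact (Prod.ext_iff.mp (hGinj this)).1
      have hG2 : ∀ y, (G (0, y)).1 = 0 := fun y => hnd _ fun z => by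
        obtain ⟨x, rfl⟩ := hAs z
        have h := hGf (x, 0) (0, y)
        rw [hG1, (h₂0 _).2, add_zero, (h₁0 x).1, (h₂0 y).2, add_zero] at h
        exact h
      have hsplit : ∀ p, G p = (A p.1, D p.2) := fun p => by
        rw [show p = (p.1, 0) + (0, p.2) by ext <;> simp, map_add]
        refine Prod.ext ?_ ?_
        · simp [hG2, hA]
        · simp [hG1, D]
      obtain ⟨a, ha⟩ := (hm₁ (LinearMap.toMatrix' A)).mpr fun u v => by
        have h := hGf (u, 0) (v, 0)
        rw [hsplit, hsplit] at h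
        simp only [map_zero] at h
        rw [(h₂0 _).1, add_zero, add_zero] at h
        simpa [← Matrix.toLin'_apply, Matrix.toLin'_toMatrix'] using h
      obtain ⟨d, hd⟩ := (hm₂ (LinearMap.toMatrix' D)).mpr fun u v => by
        have h := hGf (0, u) (0, v)
        rw [hsplit, hsplit] at h
        simp only [map_zero] at h
        rw [(h₁0 _).1, zero_add, zero_add] at h
        simpa [← Matrix.toLin'_apply, Matrix.toLin'_toMatrix'] using h
      refine ⟨(a, d), hr ((hφ _).trans ?_)⟩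
      refine Matrix.ext_of_mulVec_single fun i => ψ.injective ?_
      rw [hmk]
      have h := hsplit (ψ (Pi.single i 1))
      rw [hG, ψ.symm_apply_apply] at h
      rw [h, ha, hd, ← Matrix.toLin'_apply, ← Matrix.toLin'_apply, Matrix.toLin'_toMatrix', Matrix.toLin'_toMatrix']
  exact ⟨((MonoidHom.ofInjective hinj).trans (MulEquiv.subgroupCongr hrange)).symm⟩

omit [Fintype ι] [DecidableEq ι] [Fintype ι₁] [DecidableEq ι₁] [Fintype ι₂] [DecidableEq ι₂] in
/-- A non-degenerate alternating space of dimension `2k` in standard coordinates. -/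
theorem exists_std_symp {V : Type*} [AddCommGroup V] [Module F V] [FiniteDimensional F V]
    (B : LinearMap.BilinForm F V) (hA : B.IsAlt) (hB : ∀ u, (∀ v, B u v = 0) → u = 0) {k : ℕ}
    (hk : finrank F V = 2 * k) :
    ∃ φ : V ≃ₗ[F] (Fin k ⊕ Fin k → F), ∀ u v, Cfsg.sympForm k F (φ u) (φ v) = B u v := by
  obtain ⟨m, j, b, h1, h2, h3, h4⟩ := exists_sympBasis B hA
  have hj : j = 0 := by
    by_contra hj
    exact b.ne_zero (Sum.inr ⟨0, Nat.pos_of_ne_zero hj⟩) (hB _ (h4 _))
  subst hj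
  have hmk : m = k := by
    have := Module.finrank_eq_card_basis b
    simp at this
    omega
  subst hmk
  let σ : (Fin m ⊕ Fin m) ⊕ Fin 0 ≃ Fin m ⊕ Fin m := (Equiv.sumEmpty _ _).trans (Equiv.sumComm _ _)
  let c := b.reindex σ
  refine ⟨c.equivFun, fun u v => ?_⟩
  have key : (sympBilin m F).comp (c.equivFun : V →ₗ[F] _) (c.equivFun : V →ₗ[F] _) = B := by
    refine LinearMap.BilinForm.ext_basis c fun i i' => ?_
    have hs : ∀ j, c.equivFun (c j) = Pi.single j 1 := fun j => by ext l; simp [Pi.single_apply, Finsupp.single_apply, eq_comm]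
    rw [LinearMap.BilinForm.comp_apply, LinearEquiv.coe_coe, hs, hs, sympBilin_apply, sympForm_eq_sum]
    rcases i with i | i <;> rcases i' with i' | i' <;> simp [c, σ, Pi.single_apply]
    · exact (h3 i i').symm
    · rw [← LinearMap.IsAlt.neg hA, h1]
    · simp [h1, eq_comm]
    · exact (h2 i i').symm
  rw [← key, LinearMap.BilinForm.comp_apply, sympBilin_apply]
  rfl

omit [Fintype ι] [DecidableEq ι] [Fintype ι₁] [DecidableEq ι₁] [Fintype ι₂] [DecidableEq ι₂] in
theorem sympForm_zero {k : ℕ} (u : Fin k ⊕ Fin k → F) :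
    Cfsg.sympForm k F u 0 = 0 ∧ Cfsg.sympForm k F 0 u = 0 := by
  rw [← sympBilin_apply, ← sympBilin_apply]
  simp

omit [Fintype ι] [DecidableEq ι] [Fintype ι₁] [DecidableEq ι₁] [Fintype ι₂] [DecidableEq ι₂] in
theorem sp_preserves_iff {k : ℕ} (M : Matrix (Fin k ⊕ Fin k) (Fin k ⊕ Fin k) F) :
    (∃ h, Cfsg.spToMat k F h = M) ↔ Preserves (Cfsg.sympForm k F) M :=
  ⟨by rintro ⟨h, rfl⟩; exact mem_symplecticGroup_iff_form.mp h.2,
    fun h => ⟨⟨M, mem_symplecticGroup_iff_form.mpr h⟩, rfl⟩⟩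

omit [Fintype ι] [DecidableEq ι] [Fintype ι₁] [DecidableEq ι₁] [Fintype ι₂] [DecidableEq ι₂] in
/-- Stabilisers of non-degenerate subspaces in the symplectic group. -/
theorem sp_stab_equiv (m k : ℕ) (hk : k ≤ m) (W : Submodule F (Fin m ⊕ Fin m → F)) (hWk : finrank F W = 2 * k)
    (hW : ∀ u ∈ W, (∀ v ∈ W, Cfsg.sympForm m F u v = 0) → u = 0) :
    Nonempty (↥(Cfsg.stabilizing (Cfsg.spToMat m F) (W : Set (Fin m ⊕ Fin m → F))) ≃*
      Matrix.symplecticGroup (Fin k) F × Matrix.symplecticGroup (Fin (m - k)) F) := by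
  set B := sympBilin m F with hB
  have hA : B.IsAlt := sympBilin_isAlt
  have hBn := sympBilin_nondegenerate F m
  set W' := B.orthogonal W with hW'
  have hdim : finrank F (Fin m ⊕ Fin m → F) = m + m := by simp [Module.finrank_fintype_fun_eq_card]
  have hc : IsCompl W W' := by
    refine (LinearMap.BilinForm.isCompl_orthogonal_iff_disjoint hA.isRefl).mpr ?_
    rw [Submodule.disjoint_def]
    intro u hu hu'
    refine hW u hu fun v hv => ?_
    rw [sympForm_swap, ← sympBilin_apply, show B v u = 0 from hu' v hv, neg_zero]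
  have hW'n : ∀ u ∈ W', (∀ v ∈ W', B u v = 0) → u = 0 := fun u hu h => hBn.1 u fun v => by
    obtain ⟨a, ha, b, hb, rfl⟩ := Submodule.mem_sup.mp (hc.sup_eq_top ▸ Submodule.mem_top (x := v))
    rw [map_add, h b hb, add_zero]
    exact hA.isRefl _ _ (hu a ha)
  have hd' : finrank F W' = 2 * (m - k) := by
    have h := Submodule.finrank_add_eq_of_isCompl hc
    rw [hdim, hWk] at h
    omega
  obtain ⟨φ₁, hφ₁⟩ := exists_std_symp (B.restrict W) (fun x => hA x.1)
    (fun u hu => Subtype.ext (hW u u.2 fun v hv => by rw [← sympBilin_apply]; exact hu ⟨v, hv⟩)) hWk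
  obtain ⟨φ₂, hφ₂⟩ := exists_std_symp (B.restrict W') (fun x => hA x.1)
    (fun u hu => Subtype.ext (hW'n u u.2 fun v hv => hu ⟨v, hv⟩)) hd'
  let e := W.prodEquivOfIsCompl W' hc
  refine stab_equiv_prod (Cfsg.sympForm m F) (Cfsg.sympForm k F) (Cfsg.sympForm (m - k) F)
    (Cfsg.spToMat m F) (Cfsg.spToMat k F) (Cfsg.spToMat (m - k) F) Subtype.val_injective Subtype.val_injective
    Subtype.val_injective sp_preserves_iff sp_preserves_iff sp_preserves_iff (e.symm.trans (φ₁.prodCongr φ₂))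
    (fun u v => ?_) sympForm_zero sympForm_zero
    (fun v h => (sympBilin_nondegenerate F k).2 v fun u => by rw [sympBilin_apply]; exact h u) W fun v => ?_
  · obtain ⟨p, rfl⟩ := e.surjective u
    obtain ⟨p', rfl⟩ := e.surjective v
    simp only [LinearEquiv.trans_apply, e.symm_apply_apply, LinearEquiv.prodCongr_apply, hφ₁, hφ₂]
    rw [← sympBilin_apply]
    simp only [e, Submodule.coe_prodEquivOfIsCompl', map_add, LinearMap.add_apply]
    rw [show B (p.1 : Fin m ⊕ Fin m → F) p'.2 = 0 from p'.2.2 _ p.1.2,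
      show B (p.2 : Fin m ⊕ Fin m → F) p'.1 = 0 from hA.isRefl _ _ (p.2.2 _ p'.1.2)]
    simp [LinearMap.BilinForm.restrict_apply, hB]
  · simp only [LinearEquiv.trans_apply, LinearEquiv.prodCongr_apply, LinearEquiv.map_eq_zero_iff]
    exact (Submodule.prodEquivOfIsCompl_symm_apply_snd_eq_zero _ _ hc).symm

section Unitary

variable [Fintype F] {q : ℕ}

omit [Fintype ι] [DecidableEq ι] [Fintype ι₁] [DecidableEq ι₁] [Fintype ι₂] [DecidableEq ι₂] in
theorem gu_preserves_iff (hF : Fintype.card F = q ^ 2) {k : ℕ} (M : Matrix (Fin k) (Fin k) F) :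
    (∃ h : Cfsg.GU k F q, ((Cfsg.glToMat (Fin k) F).comp (Cfsg.GU k F q).subtype) h = M) ↔
      Preserves (Cfsg.hermForm k F q) M := by
  constructor
  · rintro ⟨h, rfl⟩
    exact mem_GU_iff.mp h.2
  · intro h
    have hu : IsUnit M := Matrix.mulVec_injective_iff_isUnit.mp fun a b e => by
      refine sub_eq_zero.mp ((hermBilin_nondegenerate (n := k) hF).1 (a - b) fun v => ?_)
      rw [hermBilin_apply, ← h v (a - b), Matrix.mulVec_sub, sub_eq_zero.mpr (show M *ᵥ a = M *ᵥ b from e),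
        ← hermBilin_apply hF, map_zero, LinearMap.zero_apply]
    exact ⟨⟨hu.unit, mem_GU_iff.mpr h⟩, rfl⟩

omit [Fintype ι] [DecidableEq ι] [Fintype ι₁] [DecidableEq ι₁] [Fintype ι₂] [DecidableEq ι₂] in
/-- Stabilisers of non-degenerate subspaces in the unitary group. -/
theorem gu_stab_equiv (hF : Fintype.card F = q ^ 2) (n k : ℕ) (hk : k ≤ n) (W : Submodule F (Fin n → F))
    (hWk : finrank F W = k) (hW : ∀ u ∈ W, (∀ v ∈ W, Cfsg.hermForm n F q u v = 0) → u = 0) :
    Nonempty (↥((Cfsg.stabilizing (Cfsg.glToMat (Fin n) F) (W : Set (Fin n → F))).subgroupOf (Cfsg.GU n F q)) ≃*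
      ↥(Cfsg.GU k F q) × ↥(Cfsg.GU (n - k) F q)) := by
  set B := hermBilin n hF with hB
  have hS : B.IsSymm := hermBilin_isSymm hF
  have hsymm : ∀ u v, B u v = 0 → B v u = 0 := fun u v h => by rw [← hS.eq u v, h, map_zero]
  set W' : Submodule F (Fin n → F) :=
    { carrier := {v | ∀ w ∈ W, B w v = 0}
      add_mem' := fun ha hb w hw => by rw [map_add, ha w hw, hb w hw, add_zero]
      zero_mem' := fun w _ => map_zero _
      smul_mem' := fun c v hv w hw => by rw [map_smul, hv w hw, smul_zero] } with hW'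
  have hdisj : Disjoint W W' := by
    rw [Submodule.disjoint_def]
    intro u hu hu'
    refine hW u hu fun v hv => ?_
    rw [← hermBilin_apply hF]
    exact hu' v hv
  -- the orthogonal projection
  have hdim : n ≤ finrank F W + finrank F W' := by
    let c := Module.finBasis F W
    let T : (Fin n → F) →ₗ[F] (Fin (finrank F W) → F) := LinearMap.pi fun i => B (c i)
    have hker : LinearMap.ker T = W' := by
      ext v
      constructor
      · intro hv w hw
        have h := congrArg (fun x : W => (x : Fin n → F)) (c.sum_repr ⟨w, hw⟩)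
        simp only [Submodule.coe_sum, Submodule.coe_smul] at h
        rw [← h, map_sum, LinearMap.sum_apply]
        refine Finset.sum_eq_zero fun i _ => ?_
        rw [LinearMap.map_smulₛₗ, LinearMap.smul_apply, show B (c i) v = 0 from congrFun hv i, smul_zero]
      · intro hv
        exact funext fun i => hv _ (c i).2
    have h := T.finrank_range_add_finrank_ker
    rw [hker, Module.finrank_fintype_fun_eq_card, Fintype.card_fin] at h
    have h2 := Submodule.finrank_le (LinearMap.range T)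
    rw [Module.finrank_fintype_fun_eq_card, Fintype.card_fin] at h2
    omega
  have hc : IsCompl W W' := by
    refine Submodule.isCompl_iff_disjoint _ _ ?_ |>.mpr hdisj
    rw [Module.finrank_fintype_fun_eq_card, Fintype.card_fin]
    exact hdim
  have hd' : finrank F W' = n - k := by
    have h := Submodule.finrank_add_eq_of_isCompl hc
    rw [Module.finrank_fintype_fun_eq_card, Fintype.card_fin, hWk] at h
    omega
  have coords : ∀ (X : Submodule F (Fin n → F)), (∀ u ∈ X, (∀ v ∈ X, B u v = 0) → u = 0) → ∀ j, finrank F X = j →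
      ∃ φ : X ≃ₗ[F] (Fin j → F), ∀ u v : X, Cfsg.hermForm j F q (φ u) (φ v) = Cfsg.hermForm n F q u v := by
    intro X hX j hj
    subst hj
    let BX : X →ₛₗ[frobQ hF] X →ₗ[F] F :=
      LinearMap.mk₂'ₛₗ (frobQ hF) (RingHom.id F) (fun u v => B u v)
        (fun u u' v => by rw [Submodule.coe_add, map_add, LinearMap.add_apply])
        (fun c u v => by rw [Submodule.coe_smul, LinearMap.map_smulₛₗ, LinearMap.smul_apply])
        (fun u v v' => by rw [Submodule.coe_add, map_add])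
        (fun c u v => by rw [Submodule.coe_smul, map_smul, RingHom.id_apply])
    have hXl : ∀ u : X, (∀ v : X, BX u v = 0) → u = 0 := fun u h =>
      Subtype.ext (hX u u.2 fun v hv => h ⟨v, hv⟩)
    obtain ⟨b, hb⟩ := exists_orthonormal_basis (frobQ_ne_id hF) (frobQ_frobQ hF) BX ⟨fun u v => hS.eq _ _⟩
      ⟨hXl, fun v h => hXl v fun u => hsymm _ _ (h u)⟩
    refine ⟨b.equivFun, fun u v => ?_⟩
    rw [← hermBilin_apply hF, ← hermBilin_apply hF]
    show hermBilin _ hF (b.equivFun v) (b.equivFun u) = BX v u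
    conv_rhs => rw [← b.sum_equivFun v, ← b.sum_equivFun u]
    simp only [map_sum, LinearMap.sum_apply, LinearMap.map_smulₛₗ, LinearMap.smul_apply, map_smul, hb, smul_eq_mul,
      RingHom.id_apply, mul_ite, mul_one, mul_zero, Finset.sum_ite_eq', Finset.mem_univ, if_true, Finset.sum_ite_eq]
    rw [hermBilin_apply hF, Cfsg.hermForm]
    exact Finset.sum_congr rfl fun i _ => by simp [frobQ_apply, mul_comm]
  obtain ⟨φ₁, hφ₁⟩ := coords W (fun u hu h => hW u hu fun v hv => by
    rw [← hermBilin_apply hF]; exact hsymm _ _ (h v hv)) k hWk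
  have hW'n : ∀ u ∈ W', (∀ v ∈ W', B u v = 0) → u = 0 := fun u hu h =>
    (hermBilin_nondegenerate hF).1 u fun v => by
      obtain ⟨a, ha, b, hb, rfl⟩ := Submodule.mem_sup.mp (hc.sup_eq_top ▸ Submodule.mem_top (x := v))
      rw [map_add, h b hb, add_zero]
      exact hsymm _ _ (hu a ha)
  obtain ⟨φ₂, hφ₂⟩ := coords W' hW'n (n - k) hd'
  let e := W.prodEquivOfIsCompl W' hc
  have zero : ∀ (j : ℕ) (u : Fin j → F), Cfsg.hermForm j F q u 0 = 0 ∧ Cfsg.hermForm j F q 0 u = 0 := fun j u => by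
    rw [← hermBilin_apply hF, ← hermBilin_apply hF]; simp
  obtain ⟨Φ⟩ := stab_equiv_prod (Cfsg.hermForm n F q) (Cfsg.hermForm k F q) (Cfsg.hermForm (n - k) F q)
    ((Cfsg.glToMat (Fin n) F).comp (Cfsg.GU n F q).subtype) ((Cfsg.glToMat (Fin k) F).comp (Cfsg.GU k F q).subtype)
    ((Cfsg.glToMat (Fin (n - k)) F).comp (Cfsg.GU (n - k) F q).subtype)
    (fun a b h => Subtype.ext (Units.ext h)) (fun a b h => Subtype.ext (Units.ext h))
    (fun a b h => Subtype.ext (Units.ext h)) (gu_preserves_iff hF) (gu_preserves_iff hF) (gu_preserves_iff hF)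
    (e.symm.trans (φ₁.prodCongr φ₂))
    (fun u v => by
      obtain ⟨p, rfl⟩ := e.surjective u
      obtain ⟨p', rfl⟩ := e.surjective v
      simp only [LinearEquiv.trans_apply, e.symm_apply_apply, LinearEquiv.prodCongr_apply, hφ₁, hφ₂]
      simp only [← hermBilin_apply hF, e, Submodule.coe_prodEquivOfIsCompl', map_add, LinearMap.add_apply, ← hB]
      rw [show B (p'.1 : Fin n → F) p.2 = 0 from p.2.2 _ p'.1.2,
        show B (p'.2 : Fin n → F) p.1 = 0 from hsymm _ _ (p'.2.2 _ p.1.2)]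
      simp)
    (zero k) (zero (n - k))
    (fun v h => (hermBilin_nondegenerate hF).1 v fun u => (hermBilin_apply hF v u).trans (h u)) W
    (fun v => by
      simp only [LinearEquiv.trans_apply, LinearEquiv.prodCongr_apply, LinearEquiv.map_eq_zero_iff]
      exact (Submodule.prodEquivOfIsCompl_symm_apply_snd_eq_zero _ _ hc).symm)
  exact ⟨(MulEquiv.subgroupCongr (by ext g; exact Iff.rfl)).trans Φ⟩

end Unitary

end Cfsg.Agent.Lib.Geometry
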