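import Cfsg.Prelude.Def_Classical
import Mathlib

/-!
Symmetric groups acting on even-weight vectors over the field with two elements.
-/

set_option autoImplicit false

namespace Cfsg.Agent.Lib.Geometry.SymEmbed

open Matrix

variable {N : ℕ} {ι : Type} [Fintype ι] [DecidableEq ι]

/-- Coordinates. -/
def coord (d : ι → Fin N → ZMod 2) (x : Fin N → ZMod 2) (i : ι) : ZMod 2 := ∑ k, d i k * x k

/-- The vector with given coordinates. -/
def lift (b : ι → Fin N → ZMod 2) (v : ι → ZMod 2) (k : Fin N) : ZMod 2 := ∑ i, v i * b i k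

/-- Data of a basis of even vectors modulo constants. -/
structure Data (b d : ι → Fin N → ZMod 2) : Prop where
  even_b : ∀ i, ∑ k, b i k = 0
  even_d : ∀ i, ∑ k, d i k = 0
  dual : ∀ i j, coord d (b j) i = if i = j then 1 else 0
  span : ∀ x : Fin N → ZMod 2, ∑ k, x k = 0 → ∃ c : ZMod 2, lift b (coord d x) = fun k => x k + c

variable {b d : ι → Fin N → ZMod 2}

/-- The matrix of a permutation. -/
def permM (b d : ι → Fin N → ZMod 2) (π : Equiv.Perm (Fin N)) : Matrix ι ι (ZMod 2) :=
  Matrix.of fun i j => coord d (fun k => b j (π.symm k)) i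

theorem even_lift (h : Data b d) (v : ι → ZMod 2) : ∑ k, lift b v k = 0 := by
  simp only [lift]
  rw [Finset.sum_comm]
  simp [← Finset.mul_sum, h.even_b]

theorem coord_lift (h : Data b d) (v : ι → ZMod 2) : coord d (lift b v) = v := by
  funext i
  have := fun j => h.dual i j
  simp only [coord] at this
  simp only [coord, lift, Finset.mul_sum]
  rw [Finset.sum_comm]
  calc (∑ j, ∑ k, d i k * (v j * b j k)) = ∑ j, v j * ∑ k, d i k * b j k :=
        Finset.sum_congr rfl fun j _ => by
          rw [Finset.mul_sum]; exact Finset.sum_congr rfl fun k _ => by ring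
    _ = v i := by simp [this]

theorem permM_mulVec (π : Equiv.Perm (Fin N)) (v : ι → ZMod 2) :
    permM b d π *ᵥ v = coord d (fun k => lift b v (π.symm k)) := by
  funext i
  simp only [Matrix.mulVec, dotProduct, permM, Matrix.of_apply, coord, lift, Finset.mul_sum, Finset.sum_mul]
  rw [Finset.sum_comm]
  exact Finset.sum_congr rfl fun k _ => Finset.sum_congr rfl fun j _ => by ring

theorem coord_add_const (h : Data b d) (x : Fin N → ZMod 2) (c : ZMod 2) :
    coord d (fun k => x k + c) = coord d x := by
  funext i
  simp [coord, mul_add, Finset.sum_add_distrib, ← Finset.sum_mul, h.even_d]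

theorem even_perm {x : Fin N → ZMod 2} (hx : ∑ k, x k = 0) (π : Equiv.Perm (Fin N)) :
    ∑ k, x (π.symm k) = 0 := by
  rw [← hx]; exact Equiv.sum_comp π.symm x

theorem permM_mul (h : Data b d) (π τ : Equiv.Perm (Fin N)) :
    permM b d (π * τ) = permM b d π * permM b d τ := by
  refine Matrix.ext_of_mulVec_single fun j => ?_
  rw [← Matrix.mulVec_mulVec, permM_mulVec τ, permM_mulVec π, permM_mulVec (π * τ)]
  set y := fun k => lift b (Pi.single j 1) (τ.symm k) with hy
  obtain ⟨c, hc⟩ := h.span y (even_perm (even_lift h _) τ)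
  rw [hc]
  exact (coord_add_const h (fun k => y (π.symm k)) c).symm

theorem permM_one (h : Data b d) : permM b d 1 = 1 := by
  refine Matrix.ext_of_mulVec_single fun j => ?_
  rw [permM_mulVec, Matrix.one_mulVec]
  exact coord_lift h _

/-- The representation. -/
def permHom (h : Data b d) : Equiv.Perm (Fin N) →* GL ι (ZMod 2) :=
  MonoidHom.toHomUnits
    { toFun := permM b d
      map_one' := permM_one h
      map_mul' := permM_mul h }

theorem permHom_coe (h : Data b d) (π : Equiv.Perm (Fin N)) :
    (permHom h π : Matrix ι ι (ZMod 2)) = permM b d π := rfl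

/-- Invariance of a function of the vectors. -/
theorem invariant (h : Data b d) {α : Type} (g : (Fin N → ZMod 2) → α)
    (hperm : ∀ x (π : Equiv.Perm (Fin N)), g (fun k => x (π.symm k)) = g x)
    (hshift : ∀ x c, ∑ k, x k = 0 → ∑ k, (x k + c) = (0 : ZMod 2) → g (fun k => x k + c) = g x)
    (π : Equiv.Perm (Fin N)) (v : ι → ZMod 2) : g (lift b (permM b d π *ᵥ v)) = g (lift b v) := by
  rw [permM_mulVec]
  have he := even_perm (even_lift h v) π
  obtain ⟨c, hc⟩ := h.span _ he
  rw [hc, hshift _ c he ?_, hperm]
  have := even_lift h (coord d fun k => lift b v (π.symm k))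
  rwa [hc] at this

theorem permHom_injective (h : Data b d) (hN : 5 ≤ N) : Function.Injective (permHom h) := by
  classical
  refine (injective_iff_map_eq_one _).mpr fun π hπ => Equiv.ext fun k => ?_
  have hM : permM b d π = 1 := by rw [← permHom_coe h, hπ, Units.val_one]
  have key : ∀ l, l ≠ k → π k = k ∨ π k = l := by
    intro l hl
    set x : Fin N → ZMod 2 := fun m => if m = k ∨ m = l then 1 else 0 with hx
    have hxe : ∑ m, x m = 0 := by
      rw [hx, Finset.sum_boole]
      rw [show (Finset.univ.filter fun m => m = k ∨ m = l) = {k, l} by ext; simp,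
        Finset.card_pair hl.symm]
      rfl
    obtain ⟨c, hc⟩ := h.span x hxe
    have hfix := congrArg (fun M => M *ᵥ coord d x) hM
    simp only [Matrix.one_mulVec] at hfix
    rw [permM_mulVec, hc] at hfix
    rw [coord_add_const h] at hfix
    obtain ⟨e, he⟩ := h.span _ (even_perm hxe π)
    rw [hfix, hc] at he
    obtain ⟨m, hm⟩ : ∃ m : Fin N, m ∉ ({k, l, π k, π l} : Finset (Fin N)) := by
      by_contra hc'
      push Not at hc'
      have : (Finset.univ : Finset (Fin N)).card ≤ ({k, l, π k, π l} : Finset (Fin N)).card :=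
        Finset.card_le_card fun m _ => hc' m
      rw [Finset.card_univ, Fintype.card_fin] at this
      have h4 := (this.trans Finset.card_le_four)
      omega
    simp only [Finset.mem_insert, Finset.mem_singleton, not_or] at hm
    have h1 := congrFun he m
    have h2 := congrFun he (π k)
    simp only [hx, Equiv.symm_apply_apply, true_or, if_true] at h1 h2
    rw [if_neg (by tauto), if_neg (by
      rw [not_or, Equiv.symm_apply_eq, Equiv.symm_apply_eq]; exact ⟨hm.2.2.1, hm.2.2.2⟩)] at h1
    rw [show c = e by simpa using h1] at h2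
    have h3 := add_right_cancel h2
    split_ifs at h3 with hcase
    · exact hcase
    · exact absurd h3 zero_ne_one
  obtain ⟨l, hl, l', hl', hne⟩ : ∃ l, l ≠ k ∧ ∃ l', l' ≠ k ∧ l ≠ l' := by
    have h2 : 1 < ((Finset.univ : Finset (Fin N)).erase k).card := by
      rw [Finset.card_erase_of_mem (Finset.mem_univ k), Finset.card_univ, Fintype.card_fin]; omega
    obtain ⟨l, hl, l', hl', hne⟩ := Finset.one_lt_card.mp h2
    exact ⟨l, Finset.ne_of_mem_erase hl, l', Finset.ne_of_mem_erase hl', hne⟩
  rcases key l hl with e | e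
  · exact e
  · rcases key l' hl' with e' | e'
    · exact e'
    · exact absurd (e.symm.trans e') hne

/-- Weight over two. -/
def halfWeight (x : Fin N → ZMod 2) : ZMod 2 := (((Finset.univ.filter fun k => x k = 1).card / 2 : ℕ) : ZMod 2)

theorem halfWeight_perm (x : Fin N → ZMod 2) (π : Equiv.Perm (Fin N)) :
    halfWeight (fun k => x (π.symm k)) = halfWeight x := by
  unfold halfWeight
  congr 2
  exact Finset.card_bij' (fun k _ => π.symm k) (fun k _ => π k) (by simp) (by simp) (by simp) (by simp)

end Cfsg.Agent.Lib.Geometry.SymEmbed
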