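import Cfsg.Agent.Lib.Geometry.SymEmbed

/-!
`S_{2n} ≤ Sp_{2n-2}(2)`.
-/

set_option autoImplicit false

namespace Cfsg.Agent.Lib.Geometry.SymEmbed

open Matrix

variable (m : ℕ)

/-- The pairs. -/
def ev (i : Fin m) (k : Fin (2 * (m + 1))) : ZMod 2 := if k.1 = 2 * i.1 ∨ k.1 = 2 * i.1 + 1 then 1 else 0

/-- Their partners. -/
def fv (i : Fin m) (k : Fin (2 * (m + 1))) : ZMod 2 :=
  if k.1 < 2 * i.1 ∨ k.1 = 2 * i.1 + 1 ∨ k.1 = 2 * m then 1 else 0

theorem sum_split (f : ℕ → ZMod 2) : ∀ n, ∑ k : Fin (2 * n), f k = ∑ j : Fin n, (f (2 * j) + f (2 * j + 1))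
  | 0 => by simp
  | n + 1 => by
    have e : ∀ (N : ℕ) (g : ℕ → ZMod 2), ∑ k : Fin N, g k = ∑ k ∈ Finset.range N, g k := fun N g =>
      Fin.sum_univ_eq_sum_range g N
    rw [e, e (n + 1) fun j => f (2 * j) + f (2 * j + 1), Finset.sum_range_succ, ← e n, ← sum_split f n, e,
      show 2 * (n + 1) = 2 * n + 1 + 1 by ring, Finset.sum_range_succ, Finset.sum_range_succ]
    ring

theorem ev_sum (i : Fin m) (x : Fin (2 * (m + 1)) → ZMod 2) :
    ∑ k, ev m i k * x k = x ⟨2 * i.1, by omega⟩ + x ⟨2 * i.1 + 1, by omega⟩ := by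
  simp only [ev, ite_mul, one_mul, zero_mul]
  rw [← Finset.sum_filter, show (Finset.univ.filter fun k : Fin (2 * (m + 1)) => k.1 = 2 * i.1 ∨ k.1 = 2 * i.1 + 1) =
    {⟨2 * i.1, by omega⟩, ⟨2 * i.1 + 1, by omega⟩} by ext k; simp [Fin.ext_iff],
    Finset.sum_pair (by simp [Fin.ext_iff])]

theorem fv_sum (i : Fin m) (x : Fin (2 * (m + 1)) → ZMod 2) :
    ∑ k, fv m i k * x k = (∑ j : Fin i.1, (x ⟨2 * j.1, by omega⟩ + x ⟨2 * j.1 + 1, by omega⟩)) +
      x ⟨2 * i.1 + 1, by omega⟩ + x ⟨2 * m, by omega⟩ := by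
  let f : ℕ → ZMod 2 := fun k => if h : k < 2 * (m + 1) then x ⟨k, h⟩ else 0
  simp only [fv, ite_mul, one_mul, zero_mul]
  rw [← Finset.sum_filter, show (Finset.univ.filter fun k : Fin (2 * (m + 1)) =>
      k.1 < 2 * i.1 ∨ k.1 = 2 * i.1 + 1 ∨ k.1 = 2 * m) =
    (Finset.univ.filter fun k : Fin (2 * (m + 1)) => k.1 < 2 * i.1) ∪
      {⟨2 * i.1 + 1, by omega⟩, ⟨2 * m, by omega⟩} by ext k; simp [Fin.ext_iff]; tauto,
    Finset.sum_union ?_, Finset.sum_pair (by simp [Fin.ext_iff]; omega), add_assoc]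
  · congr 1
    refine Eq.trans ?_ ((sum_split f i.1).trans (Finset.sum_congr rfl fun j _ => ?_))
    · refine Finset.sum_bij' (fun k hk => ⟨k.1, by simpa using hk⟩) (fun k _ => ⟨k.1, by omega⟩) (by simp)
        (fun k _ => by simp [k.2]) (by simp) (by simp) fun k hk => ?_
      simp [f, k.2]
    · simp only [f]
      rw [dif_pos (by omega), dif_pos (by omega)]
  · rw [Finset.disjoint_left]
    intro k hk hk'
    simp [Fin.ext_iff] at hk hk'
    omega

/-- The basis. -/
def bSymp : Fin m ⊕ Fin m → Fin (2 * (m + 1)) → ZMod 2 := Sum.elim (ev m) (fv m)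

/-- The dual basis. -/
def dSymp : Fin m ⊕ Fin m → Fin (2 * (m + 1)) → ZMod 2 := Sum.elim (fv m) (ev m)

theorem ev_val (i : Fin m) (j : ℕ) (hj : j < m + 1) :
    ev m i ⟨2 * j, by omega⟩ = (if j = i.1 then 1 else 0) ∧
      ev m i ⟨2 * j + 1, by omega⟩ = (if j = i.1 then 1 else 0) := by
  constructor <;> simp only [ev] <;> split_ifs <;> first | rfl | omega

theorem ev_ev (i j : Fin m) : ∑ k, ev m i k * ev m j k = 0 := by
  rw [ev_sum, (ev_val m j i.1 (by omega)).1, (ev_val m j i.1 (by omega)).2]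
  exact CharTwo.add_self_eq_zero _

theorem ev_fv (i j : Fin m) : ∑ k, ev m i k * fv m j k = if i = j then 1 else 0 := by
  rw [ev_sum]
  simp only [fv, Fin.ext_iff]
  have hi := i.2
  have hj := j.2
  split_ifs <;> first | omega | exact CharTwo.add_self_eq_zero (1 : ZMod 2) | simp_all | simp

theorem fv_fv (i j : Fin m) : ∑ k, fv m i k * fv m j k = 0 := by
  wlog h : i.1 ≤ j.1 generalizing i j
  · rw [← this j i (by omega)]
    exact Finset.sum_congr rfl fun k _ => mul_comm _ _
  rw [fv_sum, Finset.sum_eq_zero (fun k _ => ?_)]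
  · simp only [fv]
    have hi := i.2
    rw [zero_add]
    split_ifs <;> first | omega | exact CharTwo.add_self_eq_zero (1 : ZMod 2) | simp_all
  · simp only [fv]
    have hk := k.2
    split_ifs <;> first | omega | exact CharTwo.add_self_eq_zero (1 : ZMod 2) | simp_all

theorem even_ev (i : Fin m) : ∑ k, ev m i k = 0 := by
  simpa [CharTwo.add_self_eq_zero] using ev_sum m i fun _ => 1

theorem even_fv (i : Fin m) : ∑ k, fv m i k = 0 := by
  simpa [CharTwo.add_self_eq_zero, add_assoc] using fv_sum m i fun _ => 1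

theorem data_symp : Data (bSymp m) (dSymp m) where
  even_b := by rintro (i | i) <;> [exact even_ev m i; exact even_fv m i]
  even_d := by rintro (i | i) <;> [exact even_fv m i; exact even_ev m i]
  dual := by
    rintro (i | i) (j | j) <;> simp only [coord, bSymp, dSymp, Sum.elim_inl, Sum.elim_inr]
    · rw [Finset.sum_congr rfl fun k _ => mul_comm (fv m i k) (ev m j k), ev_fv]
      by_cases h : i = j <;> simp [h, Ne.symm]
    · rw [fv_fv]; simp
    · rw [ev_ev]; simp
    · rw [ev_fv]
      by_cases h : i = j <;> simp [h]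
  span := by
    intro x hx
    set v := coord (dSymp m) x
    set y := fun k => lift (bSymp m) v k + x k with hy
    have hye : ∑ k, y k = 0 := by
      rw [hy, Finset.sum_add_distrib, hx, add_zero]
      simp only [lift]
      rw [Finset.sum_comm]
      refine Finset.sum_eq_zero fun i _ => ?_
      rw [← Finset.mul_sum]
      rcases i with i | i <;> simp [bSymp, even_ev, even_fv]
    have hco : ∀ i, ∑ k, dSymp m i k * y k = 0 := by
      intro i
      have hd : ∑ k, dSymp m i k * lift (bSymp m) v k = v i := by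
        simp only [lift, Finset.mul_sum]
        rw [Finset.sum_comm, Finset.sum_congr rfl fun j _ => ?_, Finset.sum_ite_eq, if_pos (Finset.mem_univ i)]
        have e : ∑ k, dSymp m i k * (v j * bSymp m j k) = v j * ∑ k, dSymp m i k * bSymp m j k := by
          rw [Finset.mul_sum]; exact Finset.sum_congr rfl fun k _ => by ring
        rw [e]
        rcases i with i | i <;> rcases j with j | j <;> simp only [bSymp, dSymp, Sum.elim_inl, Sum.elim_inr]
        · rw [Finset.sum_congr rfl fun k _ => mul_comm (fv m i k) (ev m j k), ev_fv]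
          by_cases h : i = j <;> simp [h, Ne.symm]
        · rw [fv_fv]; simp
        · rw [ev_ev]; simp
        · rw [ev_fv]
          by_cases h : i = j <;> simp [h]
      simp only [hy, mul_add, Finset.sum_add_distrib, hd]
      exact CharTwo.add_self_eq_zero (v i)
    -- the two entries of a pair agree, and all pairs agree
    have hpair : ∀ j, ∀ hj : j < m, y ⟨2 * j, by omega⟩ = y ⟨2 * j + 1, by omega⟩ := fun j hj => by
      have h := hco (Sum.inr ⟨j, hj⟩)
      simp only [dSymp, Sum.elim_inr, ev_sum] at h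
      exact CharTwo.add_eq_zero.mp h
    have hall : ∀ j, ∀ hj : j < m, y ⟨2 * j + 1, by omega⟩ = y ⟨2 * m, by omega⟩ := fun j hj => by
      have h := hco (Sum.inl ⟨j, hj⟩)
      simp only [dSymp, Sum.elim_inl, fv_sum] at h
      rw [Finset.sum_eq_zero (fun k _ => by rw [hpair k.1 (by omega)]; exact CharTwo.add_self_eq_zero _), zero_add] at h
      exact CharTwo.add_eq_zero.mp h
    have hlast : y ⟨2 * m + 1, by omega⟩ = y ⟨2 * m, by omega⟩ := by
      let f : ℕ → ZMod 2 := fun k => if h : k < 2 * (m + 1) then y ⟨k, h⟩ else 0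
      have h := sum_split f (m + 1)
      rw [show ∑ k : Fin (2 * (m + 1)), f k = ∑ k, y k from
        Finset.sum_congr rfl fun k _ => by simp [f, k.2], hye, Fin.sum_univ_castSucc,
        Finset.sum_eq_zero (fun j _ => ?_), zero_add] at h
      · simp only [f, Fin.val_last] at h
        rw [dif_pos (by omega), dif_pos (by omega)] at h
        exact (CharTwo.add_eq_zero.mp h.symm).symm
      · simp only [f, Fin.val_castSucc]
        rw [dif_pos (by omega), dif_pos (by omega), hpair j.1 j.2]
        exact CharTwo.add_self_eq_zero _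
    refine ⟨y ⟨2 * m, by omega⟩, funext fun k => ?_⟩
    have hk : y k = y ⟨2 * m, by omega⟩ := by
      obtain ⟨k, hk⟩ := k
      rcases Nat.even_or_odd' k with ⟨j, rfl | rfl⟩
      · rcases Nat.lt_or_ge j m with h | h
        · rw [hpair j h, hall j h]
        · obtain rfl : j = m := by omega
          rfl
      · rcases Nat.lt_or_ge j m with h | h
        · exact hall j h
        · obtain rfl : j = m := by omega
          exact hlast
    rw [← hk, hy]
    show _ = x k + (lift (bSymp m) v k + x k)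
    linear_combination -(CharTwo.add_self_eq_zero (x k))

theorem symp_form (u w : Fin m ⊕ Fin m → ZMod 2) :
    ∑ k, lift (bSymp m) u k * lift (bSymp m) w k = u ⬝ᵥ (Matrix.J (Fin m) (ZMod 2) *ᵥ w) := by
  have e : ∀ i j, ∑ k, bSymp m i k * bSymp m j k = Matrix.J (Fin m) (ZMod 2) i j := by
    rintro (i | i) (j | j) <;> simp only [bSymp, Sum.elim_inl, Sum.elim_inr, Matrix.J, Matrix.fromBlocks_apply₁₁,
      Matrix.fromBlocks_apply₁₂, Matrix.fromBlocks_apply₂₁, Matrix.fromBlocks_apply₂₂, Matrix.zero_apply,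
      Matrix.neg_apply, Matrix.one_apply, CharTwo.neg_eq]
    · exact ev_ev m i j
    · exact ev_fv m i j
    · rw [Finset.sum_congr rfl fun k _ => mul_comm (fv m i k) (ev m j k), ev_fv]
      by_cases h : i = j <;> simp [h, Ne.symm]
    · exact fv_fv m i j
  simp only [dotProduct, Matrix.mulVec, lift, Finset.sum_mul, Finset.mul_sum]
  rw [Finset.sum_comm]
  conv_rhs => rw [Finset.sum_comm]
  refine Finset.sum_congr rfl fun i _ => ?_
  rw [Finset.sum_comm]
  refine Finset.sum_congr rfl fun j _ => ?_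
  rw [← e, Finset.sum_mul, Finset.mul_sum]
  exact Finset.sum_congr rfl fun k _ => by ring

theorem dot_invariant (π : Equiv.Perm (Fin (2 * (m + 1)))) (u w : Fin m ⊕ Fin m → ZMod 2) :
    ∑ k, lift (bSymp m) (permM (bSymp m) (dSymp m) π *ᵥ u) k * lift (bSymp m) (permM (bSymp m) (dSymp m) π *ᵥ w) k =
      ∑ k, lift (bSymp m) u k * lift (bSymp m) w k := by
  have h := data_symp m
  rw [permM_mulVec, permM_mulVec]
  obtain ⟨c, hc⟩ := h.span _ (even_perm (even_lift h u) π)
  obtain ⟨e, he⟩ := h.span _ (even_perm (even_lift h w) π)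
  rw [hc, he]
  simp only [add_mul, mul_add, Finset.sum_add_distrib, ← Finset.mul_sum, ← Finset.sum_mul,
    even_perm (even_lift h u) π, even_perm (even_lift h w) π, mul_zero, zero_mul, add_zero, Finset.sum_const,
    Finset.card_univ, Fintype.card_fin]
  rw [Equiv.sum_comp π.symm (fun k => lift (bSymp m) u k * lift (bSymp m) w k)]
  have h2 : ((2 * (m + 1) : ℕ) : ZMod 2) = 0 := by push_cast; rw [show (2 : ZMod 2) = 0 from rfl, zero_mul]
  simp only [nsmul_eq_mul]
  rw [show ((2 * m + 2 * 1 : ℕ) : ZMod 2) = 0 by rw [← h2]; congr 1]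
  simp

theorem symm_embeds (hm : 2 ≤ m) :
    ∃ f : Equiv.Perm (Fin (2 * (m + 1))) →* Matrix.symplecticGroup (Fin m) (ZMod 2), Function.Injective f := by
  let g : Equiv.Perm (Fin (2 * (m + 1))) →* Matrix (Fin m ⊕ Fin m) (Fin m ⊕ Fin m) (ZMod 2) :=
    (Units.coeHom _).comp (permHom (data_symp m))
  refine ⟨g.codRestrict (Matrix.symplecticGroup (Fin m) (ZMod 2)) fun π => ?_, fun x y h => ?_⟩
  · rw [SymplecticGroup.mem_iff']
    refine Matrix.ext fun i j => ?_
    have := dot_invariant m π (Pi.single i 1) (Pi.single j 1)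
    rw [symp_form, symp_form, Matrix.mulVec_single_one, Matrix.mulVec_single_one, single_dotProduct, one_mul,
      Matrix.mulVec_single_one, Matrix.col_apply] at this
    rw [← this, Matrix.mul_assoc]
    simp [g, permHom_coe, Matrix.mul_apply, Matrix.mulVec, dotProduct]
  · exact permHom_injective (data_symp m) (by omega) (Units.ext (congrArg Subtype.val h))

end Cfsg.Agent.Lib.Geometry.SymEmbed
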