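import Cfsg.Agent.Lib.Geometry.IsotropicTuples
import Mathlib.LinearAlgebra.Matrix.GeneralLinearGroup.Card

/-!
Orders of parabolic subgroups of the symplectic group; the symplectic quadrangle.
-/

set_option autoImplicit false

namespace Cfsg.Agent.Lib.Geometry

open scoped Matrix
open Module (finrank)

variable {F : Type*} [Field F] [Fintype F]

/-- Independent tuples in a flag. -/
theorem card_flag_tuples {V : Type*} [AddCommGroup V] [Module F V] [Finite V] : ∀ (j : ℕ) (X : Fin j → Submodule F V),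
    Monotone X → (∀ a, finrank F (X a) = a + 1) →
    Nat.card {t : Fin j → V // LinearIndependent F t ∧ ∀ a, t a ∈ X a} =
      ∏ i ∈ Finset.range j, (Fintype.card F ^ (i + 1) - Fintype.card F ^ i)
  | 0, _, _, _ => by
    rw [Finset.prod_range_zero, Nat.card_eq_one_iff_exists]
    exact ⟨⟨Fin.elim0, linearIndependent_empty_type, fun a => a.elim0⟩, fun t => Subtype.ext (Subsingleton.elim _ _)⟩
  | j + 1, X, hX, hd => by
    classical
    rw [Finset.prod_range_succ, ← card_flag_tuples j (fun a => X a.castSucc)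
      (fun a b h => hX (Fin.castSucc_le_castSucc_iff.mpr h)) (fun a => by simpa using hd a.castSucc)]
    let e : {t : Fin (j + 1) → V // LinearIndependent F t ∧ ∀ a, t a ∈ X a} ≃
        Σ p : {t : Fin j → V // LinearIndependent F t ∧ ∀ a, t a ∈ X a.castSucc},
          {x : V // x ∈ X (Fin.last j) ∧ x ∉ Submodule.span F (Set.range p.1)} :=
      { toFun := fun t =>
          have h : LinearIndependent F (Fin.init t.1) ∧ t.1 (Fin.last j) ∉ Submodule.span F (Set.range (Fin.init t.1)) :=
            linearIndependent_finSnoc.mp (by rw [Fin.snoc_init_self]; exact t.2.1)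
          ⟨⟨Fin.init t.1, h.1, fun a => t.2.2 a.castSucc⟩, t.1 (Fin.last j), t.2.2 _, h.2⟩
        invFun := fun s => ⟨Fin.snoc s.1.1 s.2.1, linearIndependent_finSnoc.mpr ⟨s.1.2.1, s.2.2.2⟩,
          fun a => by
            refine Fin.lastCases ?_ (fun b => ?_) a
            · simpa using s.2.2.1
            · simpa using s.1.2.2 b⟩
        left_inv := fun t => Subtype.ext (Fin.snoc_init_self t.1)
        right_inv := fun ⟨⟨p, hp⟩, x, hx⟩ => Sigma.subtype_ext (Subtype.ext (by simp)) (by simp) }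
    haveI := Fintype.ofFinite {t : Fin j → V // LinearIndependent F t ∧ ∀ a, t a ∈ X a.castSucc}
    rw [Nat.card_congr e, Nat.card_sigma,
      Nat.card_eq_fintype_card (α := {t : Fin j → V // LinearIndependent F t ∧ ∀ a, t a ∈ X a.castSucc}), mul_comm]
    rw [Finset.sum_congr rfl fun p _ => ?_, Finset.sum_const, Finset.card_univ, smul_eq_mul, mul_comm]
    have hfr : finrank F (Submodule.span F (Set.range p.1)) = j :=
      (finrank_span_eq_card p.2.1).trans (Fintype.card_fin j)
    have hle : Submodule.span F (Set.range p.1) ≤ X (Fin.last j) := by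
      rw [Submodule.span_le]
      rintro _ ⟨a, rfl⟩
      exact hX (Fin.le_last _) (p.2.2 a)
    change Nat.card ↥(((X (Fin.last j)) : Set V) \ ((Submodule.span F (Set.range p.1) : Submodule F V) : Set V)) = _
    rw [Nat.card_coe_set_eq, Set.ncard_sdiff (SetLike.coe_subset_coe.mpr hle) (Set.toFinite _),
      ← Nat.card_coe_set_eq, ← Nat.card_coe_set_eq, SetLike.coe_sort_coe, SetLike.coe_sort_coe,
      Module.natCard_eq_pow_finrank (K := F) (V := Submodule.span F (Set.range p.1)),
      Module.natCard_eq_pow_finrank (K := F) (V := X (Fin.last j)),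
      hfr, hd, Fin.val_last, Nat.card_eq_fintype_card]

theorem prod_split (f : ℕ → ℕ) : ∀ {m k : ℕ}, k ≤ m →
    ∏ i ∈ Finset.range m, f i = (∏ i ∈ Finset.range (m - k), f i) * ∏ i ∈ Finset.range k, f (m - 1 - i)
  | m, 0, _ => by simp
  | m, k + 1, h => by
    rw [prod_split f (show k ≤ m by omega), Finset.prod_range_succ (fun i => f (m - 1 - i)),
      show m - k = (m - (k + 1)) + 1 by omega, Finset.prod_range_succ, show m - 1 - k = m - (k + 1) by omega]
    ring

theorem isoTuple_count_eq (m k : ℕ) (hk : k ≤ m) :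
    ∏ i ∈ Finset.range k, (Fintype.card F ^ (2 * m - i) - Fintype.card F ^ i) =
      Fintype.card F ^ (∑ i ∈ Finset.range k, i) *
        ∏ i ∈ Finset.range k, (Fintype.card F ^ (2 * (m - 1 - i + 1)) - 1) := by
  rw [← Finset.prod_pow_eq_pow_sum, ← Finset.prod_mul_distrib]
  refine Finset.prod_congr rfl fun i hi => ?_
  rw [Finset.mem_range] at hi
  rw [Nat.mul_sub, mul_one, ← pow_add, show i + 2 * (m - 1 - i + 1) = 2 * m - i by omega]

theorem prod_pos_count (m k : ℕ) :
    0 < ∏ i ∈ Finset.range k, (Fintype.card F ^ (2 * (m - 1 - i + 1)) - 1) :=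
  Finset.prod_pos fun i _ => Nat.sub_pos_of_lt (Nat.one_lt_pow (by omega) Fintype.one_lt_card)

/-- Maximal parabolic subgroups. -/
theorem card_stab_isotropic {m k : ℕ} (hk : k ≤ m) (W : Submodule F (Fin m ⊕ Fin m → F)) (hWk : finrank F W = k)
    (hW : ∀ u ∈ W, ∀ v ∈ W, Cfsg.sympForm m F u v = 0) :
    Nat.card ↥(Cfsg.stabilizing (Cfsg.spToMat m F) (W : Set (Fin m ⊕ Fin m → F))) =
      Fintype.card F ^ (k * (k + 1) / 2 + 2 * k * (m - k)) * (Fintype.card F ^ ((m - k) ^ 2) *
        ∏ i ∈ Finset.range (m - k), (Fintype.card F ^ (2 * (i + 1)) - 1)) *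
        ∏ i : Fin k, (Fintype.card F ^ k - Fintype.card F ^ (i : ℕ)) := by
  classical
  let c := Module.finBasisOfFinrankEq F W hWk
  set T : (Fin k → Fin m ⊕ Fin m → F) → Prop := fun t => LinearIndependent F t ∧ ∀ a, t a ∈ W with hT
  have hli : LinearIndependent F fun a => ((c a : W) : Fin m ⊕ Fin m → F) :=
    c.linearIndependent.map' W.subtype (Submodule.ker_subtype W)
  have hspan : ∀ t, T t → Submodule.span F (Set.range t) = W := fun t ht =>
    Submodule.eq_of_le_of_finrank_eq (Submodule.span_le.mpr (by rintro _ ⟨a, rfl⟩; exact ht.2 a))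
      ((finrank_span_eq_card ht.1).trans (by rw [Fintype.card_fin, hWk]))
  have h := card_stab_mul (m := m) (j := k) (Cfsg.stabilizing (Cfsg.spToMat m F) (W : Set (Fin m ⊕ Fin m → F))) T
    (fun t ht => ⟨ht.1, fun a b => hW _ (ht.2 a) _ (ht.2 b)⟩) (t₀ := fun a => (c a : Fin m ⊕ Fin m → F))
    ⟨hli, fun a => (c a).2⟩ (fun g => by
      rw [mem_stabilizing_submodule_iff]
      constructor
      · exact fun hg => ⟨hli.map' (Matrix.mulVecLin g.1)
          (LinearMap.ker_eq_bot.mpr (mulVec_injective_of_hom (Cfsg.spToMat m F) g)), fun a => hg _ (c a).2⟩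
      · intro ht v hv
        rw [← hspan _ ⟨hli, fun a => (c a).2⟩] at hv
        induction hv using Submodule.span_induction with
        | mem y hy => obtain ⟨a, rfl⟩ := hy; exact ht.2 a
        | zero => rw [Matrix.mulVec_zero]; exact W.zero_mem
        | add y z _ _ h1 h2 => rw [Matrix.mulVec_add]; exact W.add_mem h1 h2
        | smul a y _ h1 => rw [Matrix.mulVec_smul]; exact W.smul_mem a h1)
  rw [card_isoTuple, isoTuple_count_eq m k hk, Cfsg.Agent.Lib.Classical.card_sp, prod_split _ hk] at h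
  have hTc : Nat.card {t // T t} = ∏ i : Fin k, (Fintype.card F ^ k - Fintype.card F ^ (i : ℕ)) := by
    rw [Nat.card_congr (β := {s : Fin k → W // LinearIndependent F s})
      { toFun := fun t => ⟨fun a => ⟨t.1 a, t.2.2 a⟩, LinearIndependent.of_comp W.subtype t.2.1⟩
        invFun := fun s => ⟨fun a => (s.1 a : Fin m ⊕ Fin m → F), s.2.map' W.subtype (Submodule.ker_subtype W),
          fun a => (s.1 a).2⟩
        left_inv := fun t => rfl
        right_inv := fun s => rfl },
      card_linearIndependent (hWk.ge), hWk]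
  rw [hTc] at h
  have hq : 0 < Fintype.card F := Fintype.card_pos
  have hsum : (∑ i ∈ Finset.range k, i) + (k * (k + 1) / 2 + 2 * k * (m - k) + (m - k) ^ 2) = m ^ 2 := by
    obtain ⟨d, rfl⟩ := Nat.exists_eq_add_of_le hk
    rw [Nat.add_sub_cancel_left, Finset.sum_range_id]
    have h1 : k * (k - 1) / 2 + k * (k + 1) / 2 = k * k := by
      rcases k with _ | k
      · simp
      obtain ⟨e, he⟩ := Nat.even_mul_succ_self k
      obtain ⟨e', he'⟩ := Nat.even_mul_succ_self (k + 1)
      rw [Nat.add_sub_cancel, mul_comm (k + 1) k, he, he']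
      have : e + e + (e' + e') = 2 * ((k + 1) * (k + 1)) := by rw [← he, ← he']; ring
      omega
    calc k * (k - 1) / 2 + (k * (k + 1) / 2 + 2 * k * d + d ^ 2)
        = (k * (k - 1) / 2 + k * (k + 1) / 2) + 2 * k * d + d ^ 2 := by ring
      _ = _ := by rw [h1]; ring
  refine Nat.eq_of_mul_eq_mul_right
    (Nat.mul_pos (pow_pos hq (∑ i ∈ Finset.range k, i)) (prod_pos_count (F := F) m k)) (h.trans ?_)
  rw [← hsum, pow_add, pow_add]
  ring

/-- The Borel subgroup. -/
theorem card_borel_sp (m : ℕ) :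
    Nat.card ↥(⨅ k : Fin m, Cfsg.stabilizing (Cfsg.spToMat m F) {v : Fin m ⊕ Fin m → F |
      (∀ i : Fin m, (k : ℕ) < (i : ℕ) → v (Sum.inl i) = 0) ∧ ∀ i : Fin m, v (Sum.inr i) = 0}) =
      Fintype.card F ^ (m ^ 2) * (Fintype.card F - 1) ^ m := by
  classical
  let P : Fin m → Fin m ⊕ Fin m → Prop := fun k x => x.elim (fun i : Fin m => (k : ℕ) < (i : ℕ)) (fun _ => True)
  have hset : ∀ k : Fin m, {v : Fin m ⊕ Fin m → F | (∀ i : Fin m, (k : ℕ) < (i : ℕ) → v (Sum.inl i) = 0) ∧
      ∀ i : Fin m, v (Sum.inr i) = 0} = {v | ∀ x, P k x → v x = 0} := fun k => Set.ext fun v =>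
    ⟨fun h => by rintro (i | i) hx; exacts [h.1 i hx, h.2 i],
      fun h => ⟨fun i hi => h (Sum.inl i) hi, fun i => h (Sum.inr i) trivial⟩⟩
  set X : Fin m → Submodule F (Fin m ⊕ Fin m → F) := fun k => coordSubspace F (P k) with hX
  have hmono : Monotone X := fun a b hab v hv x hx => hv x (by
    rcases x with i | i
    · exact lt_of_le_of_lt (Fin.le_def.mp hab) hx
    · trivial)
  have hdim : ∀ k, finrank F (X k) = k + 1 := fun k => by
    rw [hX, finrank_coordSubspace, Fintype.card_congr (β := {i : Fin m // (i : ℕ) < k + 1})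
      { toFun := fun x => match x with
          | ⟨Sum.inl i, h⟩ => ⟨i, Nat.lt_succ_of_le (not_lt.mp h)⟩
          | ⟨Sum.inr i, h⟩ => absurd trivial h
        invFun := fun i => ⟨Sum.inl i.1, not_lt.mpr (Nat.le_of_lt_succ i.2)⟩
        left_inv := by
          rintro ⟨i | i, h⟩
          · rfl
          · exact absurd trivial h
        right_inv := fun i => rfl }, ← Nat.card_eq_fintype_card,
      Nat.card_congr (β := Fin (k + 1))
        { toFun := fun i => ⟨i.1.1, i.2⟩
          invFun := fun i => ⟨⟨i.1, by omega⟩, i.2⟩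
          left_inv := fun i => rfl
          right_inv := fun i => rfl }, Nat.card_fin]
  let t₀ : Fin m → Fin m ⊕ Fin m → F := fun a => Pi.single (Sum.inl a) 1
  have hli : LinearIndependent F t₀ := (Pi.linearIndependent_single_one (Fin m ⊕ Fin m) F).comp _ Sum.inl_injective
  have hmem : ∀ a, t₀ a ∈ X a := fun a x hx => by
    rcases x with i | i
    · simp only [t₀]
      refine Pi.single_eq_of_ne (fun e => ?_) _
      rw [Sum.inl.inj e] at hx
      exact lt_irrefl _ hx
    · simp [t₀]
  set S := ⨅ k : Fin m, Cfsg.stabilizing (Cfsg.spToMat m F) {v : Fin m ⊕ Fin m → F |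
      (∀ i : Fin m, (k : ℕ) < (i : ℕ) → v (Sum.inl i) = 0) ∧ ∀ i : Fin m, v (Sum.inr i) = 0}
  have h := card_stab_mul S (fun t => LinearIndependent F t ∧ ∀ a, t a ∈ X a)
    (fun t ht => ⟨ht.1, fun a b => by
      rw [sympForm_eq_sum]
      exact Finset.sum_eq_zero fun i _ => by
        rw [ht.2 a (Sum.inr i) trivial, ht.2 b (Sum.inr i) trivial]; ring⟩) (t₀ := t₀) ⟨hli, hmem⟩ (fun g => by
      simp only [S, Subgroup.mem_iInf, hset, mem_stabilizing_coord_iff]
      constructor
      · intro hg
        refine ⟨hli.map' (Matrix.mulVecLin g.1)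
          (LinearMap.ker_eq_bot.mpr (mulVec_injective_of_hom (Cfsg.spToMat m F) g)), fun a x hx => ?_⟩
        show (g.1 *ᵥ Pi.single (Sum.inl a) 1) x = 0
        rw [Matrix.mulVec_single_one]
        exact hg a x (Sum.inl a) hx (lt_irrefl (a : ℕ))
      · rintro ⟨-, hg⟩ k x (b | b) hx hy
        · have hb := hmono (Fin.le_def.mpr (not_lt.mp hy) : b ≤ k) (hg b) x hx
          rw [show t₀ b = Pi.single (Sum.inl b) 1 from rfl, Matrix.mulVec_single_one] at hb
          exact hb
        · exact absurd trivial hy)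
  rw [card_flag_tuples m X hmono hdim, card_isoTuple, isoTuple_count_eq m m le_rfl, Cfsg.Agent.Lib.Classical.card_sp,
    prod_split (fun i => Fintype.card F ^ (2 * (i + 1)) - 1) (le_refl m), Nat.sub_self, Finset.prod_range_zero, one_mul] at h
  refine Nat.eq_of_mul_eq_mul_right
    (Nat.mul_pos (pow_pos Fintype.card_pos (∑ i ∈ Finset.range m, i)) (prod_pos_count (F := F) m m)) (h.trans ?_)
  rw [show ∏ i ∈ Finset.range m, (Fintype.card F ^ (i + 1) - Fintype.card F ^ i) =
      Fintype.card F ^ (∑ i ∈ Finset.range m, i) * (Fintype.card F - 1) ^ m by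
    rw [← Finset.prod_pow_eq_pow_sum]
    rw [show (Fintype.card F - 1) ^ m = ∏ _i ∈ Finset.range m, (Fintype.card F - 1) by simp,
      ← Finset.prod_mul_distrib]
    exact Finset.prod_congr rfl fun i _ => by rw [Nat.mul_sub, mul_one, pow_succ]]
  ring

/-- The lines of the symplectic quadrangle. -/
theorem card_isotropic_lines :
    Nat.card {W : Submodule F (Fin 2 ⊕ Fin 2 → F) // finrank F W = 2 ∧
        ∀ u ∈ W, ∀ v ∈ W, Cfsg.sympForm 2 F u v = 0} = (Fintype.card F + 1) * (Fintype.card F ^ 2 + 1) ∧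
      ∀ v : Fin 2 ⊕ Fin 2 → F, v ≠ 0 → Nat.card {W : Submodule F (Fin 2 ⊕ Fin 2 → F) // finrank F W = 2 ∧ v ∈ W ∧
        ∀ u ∈ W, ∀ w ∈ W, Cfsg.sympForm 2 F u w = 0} = Fintype.card F + 1 := by
  classical
  set q := Fintype.card F with hq
  have hq2 : 2 ≤ q := Fintype.one_lt_card
  have hspan : ∀ t : Fin 2 → Fin 2 ⊕ Fin 2 → F, IsoTuple 2 2 t →
      finrank F (Submodule.span F (Set.range t)) = 2 ∧
        ∀ u ∈ Submodule.span F (Set.range t), ∀ v ∈ Submodule.span F (Set.range t), Cfsg.sympForm 2 F u v = 0 := by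
    intro t ht
    refine ⟨(finrank_span_eq_card ht.1).trans (Fintype.card_fin 2), fun u hu v hv => ?_⟩
    obtain ⟨c, rfl⟩ := (Submodule.mem_span_range_iff_exists_fun F).mp hu
    obtain ⟨d, rfl⟩ := (Submodule.mem_span_range_iff_exists_fun F).mp hv
    rw [← sympBilin_apply]
    simp only [map_sum, LinearMap.sum_apply, map_smul, LinearMap.smul_apply, sympBilin_apply, ht.2, smul_zero,
      Finset.sum_const_zero]
  -- bases of a fixed line, possibly with a fixed first vector
  have fib : ∀ (P : (Fin 2 ⊕ Fin 2 → F) → Prop) (W : Submodule F (Fin 2 ⊕ Fin 2 → F)), finrank F W = 2 →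
      (∀ u ∈ W, ∀ v ∈ W, Cfsg.sympForm 2 F u v = 0) →
      Nat.card {t : {t // IsoTuple 2 2 t ∧ P (t 0)} // Submodule.span F (Set.range t.1) = W} =
        Nat.card {s : Fin 2 → W // LinearIndependent F s ∧ P (s 0)} := fun P W hW2 hW => Nat.card_congr
    { toFun := fun t => ⟨fun a => ⟨t.1.1 a, (le_of_eq t.2) (Submodule.subset_span ⟨a, rfl⟩)⟩,
        LinearIndependent.of_comp W.subtype t.1.2.1.1, t.1.2.2⟩
      invFun := fun s => ⟨⟨fun a => (s.1 a : Fin 2 ⊕ Fin 2 → F),
          ⟨s.2.1.map' W.subtype (Submodule.ker_subtype W), fun a b => hW _ (s.1 a).2 _ (s.1 b).2⟩, s.2.2⟩,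
        Submodule.eq_of_le_of_finrank_eq (Submodule.span_le.mpr (by rintro _ ⟨a, rfl⟩; exact (s.1 a).2))
          ((finrank_span_eq_card (s.2.1.map' W.subtype (Submodule.ker_subtype W))).trans
            (by rw [Fintype.card_fin, hW2]))⟩
      left_inv := fun t => rfl
      right_inv := fun s => rfl }
  refine ⟨?_, fun v hv => ?_⟩
  · let L := {W : Submodule F (Fin 2 ⊕ Fin 2 → F) // finrank F W = 2 ∧ ∀ u ∈ W, ∀ v ∈ W, Cfsg.sympForm 2 F u v = 0}
    haveI : Fintype L := Fintype.ofFinite L
    have h := Nat.card_congr (Equiv.sigmaFiberEquiv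
      (fun t : {t // IsoTuple (F := F) 2 2 t ∧ True} => (⟨_, hspan t.1 t.2.1⟩ : L)))
    have hfib : ∀ W : L, Nat.card {t : {t // IsoTuple (F := F) 2 2 t ∧ True} // (⟨_, hspan t.1 t.2.1⟩ : L) = W} =
        (q ^ 2 - 1) * (q ^ 2 - q) := by
      intro W
      rw [Nat.card_congr (Equiv.subtypeEquivRight (q := fun t => Submodule.span F (Set.range t.1) = W.1)
        (fun t => Subtype.ext_iff))]
      rw [fib (fun _ => True) W.1 W.2.1 W.2.2, Nat.card_congr (Equiv.subtypeEquivRight (fun s => and_iff_left trivial)),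
        card_linearIndependent W.2.1.ge, W.2.1, Fin.prod_univ_two]
      simp [hq]
    rw [Nat.card_sigma, Finset.sum_congr rfl fun W _ => hfib W, Finset.sum_const, Finset.card_univ, smul_eq_mul,
      Nat.card_congr (Equiv.subtypeEquivRight (fun t => and_iff_left trivial)), card_isoTuple,
      ← Nat.card_eq_fintype_card] at h
    simp only [Finset.prod_range_succ, Finset.prod_range_zero, one_mul, ← hq] at h
    have h1 : 0 < (q ^ 2 - 1) * (q ^ 2 - q) := Nat.mul_pos (Nat.sub_pos_of_lt (Nat.one_lt_pow two_ne_zero hq2))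
      (Nat.sub_pos_of_lt (by nlinarith))
    refine Nat.eq_of_mul_eq_mul_right h1 (h.trans ?_)
    obtain ⟨r, hr⟩ : ∃ r, q = r + 2 := ⟨q - 2, by omega⟩
    rw [hr]
    zify [Nat.one_le_pow _ _ (show 0 < r + 2 by omega), show (r + 2) ^ 1 ≤ (r + 2) ^ (2 * 2 - 1) from
      Nat.pow_le_pow_right (by omega) (by norm_num), show r + 2 ≤ (r + 2) ^ 2 from Nat.le_self_pow two_ne_zero _]
    norm_num
    ring
  · let L := {W : Submodule F (Fin 2 ⊕ Fin 2 → F) // finrank F W = 2 ∧ v ∈ W ∧
      ∀ u ∈ W, ∀ w ∈ W, Cfsg.sympForm 2 F u w = 0}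
    haveI : Fintype L := Fintype.ofFinite L
    have h := Nat.card_congr (Equiv.sigmaFiberEquiv
      (fun t : {t // IsoTuple (F := F) 2 2 t ∧ t 0 = v} =>
        (⟨_, (hspan t.1 t.2.1).1, Submodule.subset_span ⟨0, t.2.2⟩, (hspan t.1 t.2.1).2⟩ : L)))
    have hvli : LinearIndependent F (fun _ : Fin 1 => v) := linearIndependent_unique_iff.mpr hv
    have hspan1 : ∀ {w : Fin 2 ⊕ Fin 2 → F} (hw : w ≠ 0),
        finrank F (Submodule.span F ({w} : Set (Fin 2 ⊕ Fin 2 → F))) = 1 := fun hw => finrank_span_singleton hw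
    have htot : Nat.card {t // IsoTuple (F := F) 2 2 t ∧ t 0 = v} = q ^ 3 - q := by
      have e : {t // IsoTuple (F := F) 2 2 t ∧ t 0 = v} ≃
          ↥((((sympBilin 2 F).orthogonal (Submodule.span F {v})) : Set (Fin 2 ⊕ Fin 2 → F)) \
            (Submodule.span F {v} : Submodule F _)) :=
        { toFun := fun t => ⟨t.1 1, by
            have h' := (isoTuple_snoc_iff (fun _ : Fin 1 => v) (t.1 1)).mp (by
              convert t.2.1
              funext a; fin_cases a <;> simp [t.2.2, Fin.snoc])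
            rw [Set.range_const] at h'
            exact ⟨h'.2.1, h'.2.2⟩⟩
          invFun := fun x => ⟨![v, x.1], by
            have h' := (isoTuple_snoc_iff (fun _ : Fin 1 => v) x.1).mpr
              ⟨⟨hvli, fun _ _ => sympForm_self v⟩, by rw [Set.range_const]; exact ⟨x.2.1, x.2.2⟩⟩
            convert h'
            funext a; fin_cases a <;> simp [Fin.snoc], rfl⟩
          left_inv := fun t => Subtype.ext (funext fun a => by fin_cases a <;> simp [t.2.2])
          right_inv := fun x => Subtype.ext rfl }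
      have hle : Submodule.span F {v} ≤ (sympBilin 2 F).orthogonal (Submodule.span F {v}) := by
        rw [Submodule.span_le, Set.singleton_subset_iff, SetLike.mem_coe, LinearMap.BilinForm.mem_orthogonal_iff]
        intro y hy
        obtain ⟨c, rfl⟩ := Submodule.mem_span_singleton.mp hy
        show sympBilin 2 F (c • v) v = 0
        rw [sympBilin_apply, Cfsg.Agent.Lib.Classical.sympForm_smul_left, sympForm_self, mul_zero]
      rw [Nat.card_congr e, Nat.card_coe_set_eq, Set.ncard_sdiff (SetLike.coe_subset_coe.mpr hle) (Set.toFinite _),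
        ← Nat.card_coe_set_eq, ← Nat.card_coe_set_eq, SetLike.coe_sort_coe, SetLike.coe_sort_coe,
        Module.natCard_eq_pow_finrank (K := F) (V := Submodule.span F ({v} : Set (Fin 2 ⊕ Fin 2 → F))),
        Module.natCard_eq_pow_finrank (K := F) (V := (sympBilin 2 F).orthogonal (Submodule.span F {v})),
        finrank_orth, hspan1 hv, Nat.card_eq_fintype_card, pow_one]
    have hfib : ∀ W : L, Nat.card {t : {t // IsoTuple (F := F) 2 2 t ∧ t 0 = v} //
        (⟨_, (hspan t.1 t.2.1).1, Submodule.subset_span ⟨0, t.2.2⟩, (hspan t.1 t.2.1).2⟩ : L) = W} = q ^ 2 - q := by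
      intro W
      rw [Nat.card_congr (Equiv.subtypeEquivRight (q := fun t => Submodule.span F (Set.range t.1) = W.1)
        (fun t => Subtype.ext_iff)), fib (fun w => w = v) W.1 W.2.1 W.2.2.2]
      set w : W.1 := ⟨v, W.2.2.1⟩ with hw
      have hw0 : w ≠ 0 := fun e => hv (congrArg Subtype.val e)
      have hwli : LinearIndependent F (fun _ : Fin 1 => w) := linearIndependent_unique_iff.mpr hw0
      rw [Nat.card_congr (β := ↥((Set.univ : Set W.1) \ (Submodule.span F {w} : Submodule F W.1)))
        { toFun := fun s => ⟨s.1 1, Set.mem_univ _, by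
            have h' : LinearIndependent F (Fin.snoc (fun _ : Fin 1 => w) (s.1 1) : Fin 2 → W.1) := by
              convert s.2.1
              funext a; fin_cases a <;> simp [Fin.snoc]
              exact Subtype.ext s.2.2.symm
            rw [linearIndependent_finSnoc, Set.range_const] at h'
            exact h'.2⟩
          invFun := fun x => ⟨![w, x.1], (LinearIndependent.pair_iff' hw0).mpr
              (fun a e => x.2.2 (Submodule.mem_span_singleton.mpr ⟨a, e⟩)), rfl⟩
          left_inv := fun s => Subtype.ext (funext fun a => by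
            fin_cases a
            · exact Subtype.ext s.2.2.symm
            · rfl)
          right_inv := fun x => Subtype.ext rfl },
        Nat.card_coe_set_eq, Set.ncard_sdiff (Set.subset_univ _) (Set.toFinite _), Set.ncard_univ,
        ← Nat.card_coe_set_eq, SetLike.coe_sort_coe,
        Module.natCard_eq_pow_finrank (K := F) (V := Submodule.span F ({w} : Set W.1)), finrank_span_singleton hw0,
        Module.natCard_eq_pow_finrank (K := F) (V := W.1), W.2.1, Nat.card_eq_fintype_card, pow_one]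
    rw [Nat.card_sigma, Finset.sum_congr rfl fun W _ => hfib W, Finset.sum_const, Finset.card_univ, smul_eq_mul, htot,
      ← Nat.card_eq_fintype_card] at h
    refine Nat.eq_of_mul_eq_mul_right (Nat.sub_pos_of_lt (show q < q ^ 2 by nlinarith)) (h.trans ?_)
    obtain ⟨r, hr⟩ : ∃ r, q = r + 2 := ⟨q - 2, by omega⟩
    rw [hr]
    zify [show r + 2 ≤ (r + 2) ^ 2 from Nat.le_self_pow two_ne_zero _,
      show r + 2 ≤ (r + 2) ^ 3 from Nat.le_self_pow three_ne_zero _]
    ring

end Cfsg.Agent.Lib.Geometry
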