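import Cfsg.Agent.Lib.Geometry.Stabilizing
import Cfsg.Prelude.Def_ClassicalGeometry

/-!
The diagonal torus of the symplectic group and its normaliser.
-/

set_option autoImplicit false
set_option maxHeartbeats 400000

namespace Cfsg.Agent.Lib.Geometry.SympTorus

open Matrix

variable {m : ℕ} {F : Type*} [Field F]

local notation "ιm" => Fin m ⊕ Fin m
local notation "Spm" => Subtype (fun A => A ∈ Matrix.symplecticGroup (Fin m) F)

/-- The other element of a pair. -/
def sw (m : ℕ) : Equiv.Perm (Fin m ⊕ Fin m) := Equiv.sumComm (Fin m) (Fin m)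

theorem sw_sw (i : ιm) : sw m (sw m i) = i := by cases i <;> rfl

/-- The diagonal torus. -/
def torus (m : ℕ) (F : Type*) [Field F] : Subgroup (Matrix.symplecticGroup (Fin m) F) :=
  ⨅ i : Fin m ⊕ Fin m, Cfsg.stabilizing (Cfsg.spToMat m F)
    ((Submodule.span F {(Pi.single i (1 : F) : Fin m ⊕ Fin m → F)} : Submodule F (Fin m ⊕ Fin m → F)) :
      Set (Fin m ⊕ Fin m → F))

theorem mem_torus_iff (g : Spm) : g ∈ torus m F ↔ ∀ i k : ιm, k ≠ i → g.1 k i = 0 := by
  rw [torus, Subgroup.mem_iInf]
  refine forall_congr' fun i => ?_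
  rw [mem_stabilizing_submodule_iff]
  constructor
  · intro h k hk
    obtain ⟨c, hc⟩ := Submodule.mem_span_singleton.mp (h _ (Submodule.mem_span_singleton_self _))
    have := congrFun hc k
    change c • (Pi.single i (1 : F) : ιm → F) k = (g.1 *ᵥ Pi.single i 1) k at this
    rw [Pi.single_eq_of_ne hk, smul_zero] at this
    simpa using this.symm
  · intro h v hv
    obtain ⟨c, rfl⟩ := Submodule.mem_span_singleton.mp hv
    refine Submodule.mem_span_singleton.mpr ⟨c * g.1 i i, ?_⟩
    funext k
    show _ = (g.1 *ᵥ (c • Pi.single i 1)) k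
    rw [mulVec_smul, Pi.smul_apply, Pi.smul_apply, mulVec_single_one, col_apply, smul_eq_mul, smul_eq_mul]
    by_cases hk : k = i
    · subst hk; rw [Pi.single_eq_same, mul_one]
    · rw [Pi.single_eq_of_ne hk, h k hk]; ring

theorem J_sw_ne (i : ιm) : Matrix.J (Fin m) F i (sw m i) ≠ 0 := by
  cases i <;> simp [sw, Matrix.J]

theorem J_eq_zero {i l : ιm} (h : l ≠ sw m i) : Matrix.J (Fin m) F i l = 0 := by
  cases i with
  | inl a => cases l with
    | inl b => simp [Matrix.J]
    | inr b =>
      have : a ≠ b := fun e => h (by subst e; rfl)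
      simp [Matrix.J, this]
  | inr a => cases l with
    | inr b => simp [Matrix.J]
    | inl b =>
      have : a ≠ b := fun e => h (by subst e; rfl)
      simp [Matrix.J, this]

theorem J_skew' (i : ιm) : Matrix.J (Fin m) F (sw m i) i = -Matrix.J (Fin m) F i (sw m i) := by
  cases i <;> simp [sw, Matrix.J]

/-- A monomial matrix. -/
def mon (σ : Equiv.Perm ιm) (c : ιm → F) : Matrix ιm ιm F := Matrix.of fun k i => if k = σ i then c i else 0

theorem mon_form (σ : Equiv.Perm ιm) (c : ιm → F) (i l : ιm) :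
    ((mon σ c)ᵀ * Matrix.J (Fin m) F * mon σ c) i l = c i * c l * Matrix.J (Fin m) F (σ i) (σ l) := by
  rw [Matrix.mul_apply, Finset.sum_eq_single (σ l) (fun k _ hk => by simp [mon, hk]) (by simp),
    Matrix.mul_apply, Finset.sum_eq_single (σ i) (fun k _ hk => by simp [mon, hk]) (by simp)]
  simp [mon]
  ring

theorem mem_sp_mon {σ : Equiv.Perm ιm} (hσ : ∀ i, σ (sw m i) = sw m (σ i)) {c : ιm → F}
    (hc : ∀ i, c i * c (sw m i) * Matrix.J (Fin m) F (σ i) (sw m (σ i)) = Matrix.J (Fin m) F i (sw m i)) :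
    mon σ c ∈ Matrix.symplecticGroup (Fin m) F := by
  refine SymplecticGroup.mem_iff'.mpr (Matrix.ext fun i l => ?_)
  rw [mon_form]
  by_cases h : l = sw m i
  · subst h; rw [hσ]; exact hc i
  · rw [J_eq_zero h, J_eq_zero (fun e => h (σ.injective (e.trans (hσ i).symm))), mul_zero]

theorem exists_diag (a : ιm → F) (ha : ∀ i, a i * a (sw m i) = 1) :
    ∃ t : Spm, t ∈ torus m F ∧ t.1 = Matrix.diagonal a := by
  have hm : mon (1 : Equiv.Perm ιm) a = Matrix.diagonal a := by
    ext k i
    show (if k = (1 : Equiv.Perm ιm) i then a i else 0) = _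
    rw [Equiv.Perm.one_apply, Matrix.diagonal_apply]
    split_ifs with h
    · rw [h]
    · rfl
  have hsp : mon (1 : Equiv.Perm ιm) a ∈ Matrix.symplecticGroup (Fin m) F := by
    refine mem_sp_mon (σ := 1) (fun i => ?_) fun i => ?_
    · rw [Equiv.Perm.one_apply, Equiv.Perm.one_apply]
    · rw [ha, one_mul, Equiv.Perm.one_apply]
  refine ⟨⟨mon (1 : Equiv.Perm ιm) a, hsp⟩, (mem_torus_iff _).mpr fun i k hk => ?_, hm⟩
  show (if k = (1 : Equiv.Perm ιm) i then a i else 0) = 0
  rw [Equiv.Perm.one_apply, if_neg hk]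

/-- A monomial element of the normaliser. -/
def IsMon (g : Spm) (σ : Equiv.Perm ιm) : Prop := ∀ i k : ιm, g.1 k i = 0 ↔ k ≠ σ i

theorem torus_diag {t : Spm} (ht : t ∈ torus m F) : t.1 = Matrix.diagonal fun i => t.1 i i := by
  ext k i
  by_cases h : k = i
  · subst h; simp
  · rw [(mem_torus_iff t).mp ht i k h, Matrix.diagonal_apply_ne _ h]

theorem IsMon.unique {g : Spm} {σ τ : Equiv.Perm ιm} (h : IsMon g σ) (h' : IsMon g τ) : σ = τ :=
  Equiv.ext fun i => by
    by_contra hne
    exact absurd rfl ((h i (σ i)).mp ((h' i (σ i)).mpr hne))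

theorem IsMon.mul {g h : Spm} {σ τ : Equiv.Perm ιm} (hg : IsMon g σ) (hh : IsMon h τ) : IsMon (g * h) (σ * τ) := by
  intro i k
  have e : (g * h).1 k i = g.1 k (τ i) * h.1 (τ i) i := by
    show (g.1 * h.1) k i = _
    rw [Matrix.mul_apply, Finset.sum_eq_single (τ i) (fun l _ hl => by rw [(hh i l).mpr hl, mul_zero]) (by simp)]
  rw [e, mul_eq_zero, or_iff_left (fun h0 => absurd rfl ((hh i (τ i)).mp h0))]
  exact hg (τ i) k

theorem IsMon.comm {g : Spm} {σ : Equiv.Perm ιm} (hg : IsMon g σ) (i : ιm) : σ (sw m i) = sw m (σ i) := by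
  by_contra hne
  refine J_sw_ne (F := F) i ?_
  rw [← SymplecticGroup.mem_iff'.mp g.2, Matrix.mul_apply,
    Finset.sum_eq_single (σ (sw m i)) (fun k _ hk => by rw [(hg (sw m i) k).mpr hk, mul_zero]) (by simp),
    Matrix.mul_apply, Finset.sum_eq_single (σ i) (fun k _ hk => by
      rw [Matrix.transpose_apply, (hg i k).mpr hk, zero_mul]) (by simp), J_eq_zero hne, mul_zero, zero_mul]

theorem IsMon.mem_normalizer {g : Spm} {σ : Equiv.Perm ιm} (hg : IsMon g σ) :
    g ∈ Subgroup.normalizer (torus m F : Set Spm) := by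
  have hinv : IsMon g⁻¹ σ⁻¹ := by
    intro i k
    have e : ∀ k, (g.1 * (g⁻¹ : Spm).1) (σ k) i = g.1 (σ k) k * (g⁻¹ : Spm).1 k i := fun k => by
      rw [Matrix.mul_apply, Finset.sum_eq_single k (fun l _ hl => by
        rw [(hg l (σ k)).mpr (fun h => hl (σ.injective h).symm), zero_mul]) (by simp)]
    have h1 : g.1 * (g⁻¹ : Spm).1 = 1 := congrArg Subtype.val (mul_inv_cancel g)
    have h2 := e k
    rw [h1] at h2
    have hne : g.1 (σ k) k ≠ 0 := fun h0 => absurd rfl ((hg k (σ k)).mp h0)
    constructor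
    · intro h0 hk
      rw [h0, mul_zero, hk, ← Equiv.Perm.mul_apply, mul_inv_cancel, Equiv.Perm.one_apply, Matrix.one_apply_eq] at h2
      exact one_ne_zero h2
    · intro hk
      rw [Matrix.one_apply_ne (fun e => hk (by rw [← e, ← Equiv.Perm.mul_apply, inv_mul_cancel]; rfl))] at h2
      exact (mul_eq_zero.mp h2.symm).resolve_left hne
  have key : ∀ {a b : Spm} {ρ : Equiv.Perm ιm}, IsMon a ρ → IsMon b ρ⁻¹ → ∀ t ∈ torus m F, a * t * b ∈ torus m F := by
    intro a b ρ ha hb t ht
    refine (mem_torus_iff _).mpr fun i k hk => ?_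
    show (a.1 * t.1 * b.1) k i = 0
    rw [torus_diag ht, Matrix.mul_apply]
    refine Finset.sum_eq_zero fun l _ => ?_
    rw [Matrix.mul_diagonal]
    by_cases hl : l = ρ⁻¹ i
    · rw [(ha l k).mpr (by rw [hl, ← Equiv.Perm.mul_apply, mul_inv_cancel]; exact hk)]; ring
    · rw [(hb i l).mpr hl, mul_zero]
  rw [Subgroup.mem_normalizer_iff]
  refine fun t => ⟨fun ht => key hg hinv t ht, fun ht => ?_⟩
  have := key hinv (by rw [inv_inv]; exact hg) _ ht
  simpa [mul_assoc] using this

variable [Fintype F]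

theorem exists_sep (hq : 4 ≤ Fintype.card F) {k l : ιm} (h : k ≠ l) :
    ∃ a : ιm → F, (∀ i, a i * a (sw m i) = 1) ∧ a k ≠ a l := by
  classical
  obtain ⟨b, hb⟩ : ∃ b : F, b ∉ ({0, 1, -1} : Finset F) := by
    by_contra hcon
    push Not at hcon
    have := (Finset.card_le_card (fun x (_ : x ∈ (Finset.univ : Finset F)) => hcon x)).trans Finset.card_le_three
    rw [Finset.card_univ] at this
    omega
  simp only [Finset.mem_insert, Finset.mem_singleton, not_or] at hb
  obtain ⟨hb0, hb1, hbm⟩ := hb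
  have hbb : b ≠ b⁻¹ := fun e => by
    have : b * b = 1 := by nth_rewrite 2 [e]; exact mul_inv_cancel₀ hb0
    rcases mul_self_eq_one_iff.mp this with h | h
    · exact hb1 h
    · exact hbm h
  let a : ιm → F := fun i => if i = k then b else if i = sw m k then b⁻¹ else 1
  have hsk : sw m k ≠ k := by cases k <;> simp [sw]
  refine ⟨a, fun i => ?_, ?_⟩
  · by_cases h1 : i = k
    · subst h1; simp [a, hsk, hb0]
    · by_cases h2 : i = sw m k
      · subst h2; simp [a, hsk, sw_sw, hb0]
      · have h3 : sw m i ≠ k := fun e => h2 (by rw [← e, sw_sw])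
        have h4 : sw m i ≠ sw m k := fun e => h1 ((sw m).injective e)
        simp [a, h1, h2, h3, h4]
  · by_cases h2 : l = sw m k
    · simp [a, h2, hsk, hbb]
    · simp [a, h.symm, h2, hb1]

theorem exists_isMon (hq : 4 ≤ Fintype.card F) {g : Spm} (hg : g ∈ Subgroup.normalizer (torus m F : Set Spm)) :
    ∃ σ : Equiv.Perm ιm, IsMon g σ := by
  classical
  have h1 : (g⁻¹ : Spm).1 * g.1 = 1 := congrArg Subtype.val (inv_mul_cancel g)
  have hcol : ∀ i, ∃ k, g.1 k i ≠ 0 := by
    intro i
    by_contra hcon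
    push Not at hcon
    have := congrFun (congrFun h1 i) i
    rw [Matrix.one_apply_eq, Matrix.mul_apply, Finset.sum_eq_zero (fun k _ => by rw [hcon k, mul_zero])] at this
    exact zero_ne_one this
  have huniq : ∀ i k l, g.1 k i ≠ 0 → g.1 l i ≠ 0 → k = l := by
    intro i k l hk hl
    by_contra hne
    obtain ⟨a, ha, hal⟩ := exists_sep hq hne
    obtain ⟨t, ht, hta⟩ := exists_diag a ha
    have hm := (Subgroup.mem_normalizer_iff.mp (inv_mem hg) t).mp ht
    set t' : Spm := g⁻¹ * t * g⁻¹⁻¹ with ht'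
    have e : t.1 * g.1 = g.1 * t'.1 := by
      have : t * g = g * t' := by rw [ht']; group
      exact congrArg Subtype.val this
    rw [hta, torus_diag hm] at e
    have ek := congrFun (congrFun e k) i
    have el := congrFun (congrFun e l) i
    rw [Matrix.diagonal_mul, Matrix.mul_diagonal] at ek el
    refine hal ?_
    rw [mul_comm (g.1 k i)] at ek
    rw [mul_comm (g.1 l i)] at el
    rw [mul_right_cancel₀ hk ek, mul_right_cancel₀ hl el]
  choose s hs using hcol
  have hs' : ∀ i k, g.1 k i = 0 ↔ k ≠ s i := fun i k =>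
    ⟨fun h e => hs i (e ▸ h), fun h => by_contra fun h0 => h (huniq i k (s i) h0 (hs i))⟩
  have hinj : Function.Injective s := by
    intro i i' e
    by_contra hne
    have e1 : ∀ j l, ((g⁻¹ : Spm).1 * g.1) l j = (g⁻¹ : Spm).1 l (s j) * g.1 (s j) j := fun j l => by
      rw [Matrix.mul_apply, Finset.sum_eq_single (s j) (fun k _ hk => by rw [(hs' j k).mpr hk, mul_zero]) (by simp)]
    have a1 := e1 i i
    have a2 := e1 i' i
    rw [h1, Matrix.one_apply_eq] at a1
    rw [h1, Matrix.one_apply_ne hne, ← e] at a2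
    rcases mul_eq_zero.mp a2.symm with h | h
    · rw [h, zero_mul] at a1; exact one_ne_zero a1
    · exact hs i' (e ▸ h)
  exact ⟨Equiv.ofBijective s (Finite.injective_iff_bijective.mp hinj), hs'⟩

theorem card_torus : Nat.card (torus m F) = (Fintype.card F - 1) ^ m := by
  classical
  let a : (Fin m → Fˣ) → ιm → F := fun u => Sum.elim (fun i => (u i : F)) fun i => ((u i)⁻¹ : Fˣ)
  have ha : ∀ u i, a u i * a u (sw m i) = 1 := fun u i => by cases i <;> simp [a, sw]
  choose t ht hta using fun u => exists_diag (a u) (ha u)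
  let Φ : (Fin m → Fˣ) → torus m F := fun u => ⟨t u, ht u⟩
  have hΦ : Function.Bijective Φ := by
    refine ⟨fun u v e => funext fun i => Units.ext ?_, fun x => ?_⟩
    · have e' : (t u).1 = (t v).1 := congrArg (fun z : torus m F => z.1.1) e
      rw [hta, hta] at e'
      simpa [a] using congrFun (Matrix.diagonal_injective e') (Sum.inl i)
    · have hd := torus_diag x.2
      have hp : ∀ i : Fin m, x.1.1 (Sum.inl i) (Sum.inl i) * x.1.1 (Sum.inr i) (Sum.inr i) = 1 := by
        intro i
        have e := congrFun (congrFun (SymplecticGroup.mem_iff'.mp x.1.2) (Sum.inl i)) (Sum.inr i)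
        rw [hd] at e
        rw [Matrix.diagonal_transpose, Matrix.mul_diagonal, Matrix.diagonal_mul] at e
        have hJ : Matrix.J (Fin m) F (Sum.inl i) (Sum.inr i) = -1 := by simp [Matrix.J]
        rw [hJ] at e
        linear_combination -e
      refine ⟨fun i => Units.mk0 (x.1.1 (Sum.inl i) (Sum.inl i)) (fun h0 => zero_ne_one (by rw [← hp i, h0, zero_mul])),
        Subtype.ext (Subtype.ext ?_)⟩
      show (t _).1 = x.1.1
      refine ((hta _).trans (congrArg Matrix.diagonal ?_)).trans hd.symm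
      funext k
      cases k with
      | inl i => rfl
      | inr i =>
        show ((Units.mk0 _ _)⁻¹ : Fˣ) = x.1.1 (Sum.inr i) (Sum.inr i)
        rw [Units.val_inv_eq_inv_val, Units.val_mk0]
        exact inv_eq_of_mul_eq_one_right (hp i)
  rw [← Nat.card_congr (Equiv.ofBijective Φ hΦ), Nat.card_fun, Nat.card_units, Nat.card_fin,
    Nat.card_eq_fintype_card]

omit [Fintype F] in
/-- The permutations preserving the pairs. -/
theorem card_pairPerm (m : ℕ) :
    Nat.card (Subgroup.centralizer ({sw m} : Set (Equiv.Perm (Fin m ⊕ Fin m)))) = 2 ^ m * m.factorial := by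
  classical
  let dec : Fin m ⊕ Fin m → Fin m × Bool := Sum.elim (fun a => (a, false)) fun a => (a, true)
  let enc : Fin m × Bool → Fin m ⊕ Fin m := fun p => if p.2 then Sum.inr p.1 else Sum.inl p.1
  let E : Fin m ⊕ Fin m ≃ Fin m × Bool :=
    ⟨dec, enc, fun x => by cases x <;> rfl, fun p => by obtain ⟨a, b⟩ := p; cases b <;> rfl⟩
  let mk : Equiv.Perm (Fin m) × (Fin m → Bool) → Equiv.Perm (Fin m ⊕ Fin m) := fun d =>
    E.trans (Equiv.trans
      { toFun := fun p => (d.1 p.1, xor p.2 (d.2 p.1))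
        invFun := fun p => (d.1.symm p.1, xor p.2 (d.2 (d.1.symm p.1)))
        left_inv := fun p => by simp
        right_inv := fun p => by simp } E.symm)
  have hsw : ∀ x, E (sw m x) = ((E x).1, !(E x).2) := fun x => by cases x <;> rfl
  have hmk : ∀ d x, E (mk d x) = (d.1 (E x).1, xor (E x).2 (d.2 (E x).1)) := fun d x => E.apply_symm_apply _
  have hmem : ∀ d, mk d ∈ Subgroup.centralizer ({sw m} : Set (Equiv.Perm (Fin m ⊕ Fin m))) := fun d => by
    rw [Subgroup.mem_centralizer_singleton_iff]
    refine Equiv.ext fun x => E.injective ?_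
    rw [Equiv.Perm.mul_apply, Equiv.Perm.mul_apply, hmk, hsw, hsw, hmk]
    simp
  let Φ : Equiv.Perm (Fin m) × (Fin m → Bool) →
      Subgroup.centralizer ({sw m} : Set (Equiv.Perm (Fin m ⊕ Fin m))) := fun d => ⟨mk d, hmem d⟩
  have hΦ : Function.Bijective Φ := by
    refine ⟨fun d d' e => ?_, fun x => ?_⟩
    · have key : ∀ a, (d.1 a, d.2 a) = (d'.1 a, d'.2 a) := fun a => by
        have := congrArg (fun z : Subgroup.centralizer ({sw m} : Set _) => E (z.1 (E.symm (a, false)))) e
        simpa [Φ, hmk] using this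
      exact Prod.ext (Equiv.ext fun a => (Prod.ext_iff.mp (key a)).1) (funext fun a => (Prod.ext_iff.mp (key a)).2)
    · obtain ⟨σ, hσ⟩ := x
      have hc : ∀ y, σ (sw m y) = sw m (σ y) := fun y =>
        Equiv.congr_fun (Subgroup.mem_centralizer_singleton_iff.mp hσ) y
      let f : Fin m → Fin m := fun a => (E (σ (E.symm (a, false)))).1
      have hall : ∀ a b, E (σ (E.symm (a, b))) = (f a, xor b (E (σ (E.symm (a, false)))).2) := by
        intro a b
        cases b with
        | false => simp [f]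
        | true =>
          have e : E.symm (a, true) = sw m (E.symm (a, false)) := E.injective (by rw [hsw]; simp)
          rw [e, hc, hsw]
          simp [f]
      have hf : Function.Injective f := fun a a' e => by
        set b := (E (σ (E.symm (a, false)))).2
        set b' := (E (σ (E.symm (a', false)))).2
        have := (hall a b).trans ((show (f a, xor b b) = (f a', xor b' b') by rw [e]; simp).trans (hall a' b').symm)
        exact (Prod.ext_iff.mp (E.symm.injective (σ.injective (E.injective this)))).1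
      refine ⟨(Equiv.ofBijective f (Finite.injective_iff_bijective.mp hf),
        fun a => (E (σ (E.symm (a, false)))).2), Subtype.ext (Equiv.ext fun y => E.injective ?_)⟩
      show E (mk _ y) = E (σ y)
      rw [hmk]
      conv_rhs => rw [← E.symm_apply_apply y, hall]
      rfl
  rw [← Nat.card_congr (Equiv.ofBijective Φ hΦ), Nat.card_prod, Nat.card_fun, Nat.card_perm, Nat.card_fin,
    Nat.card_eq_fintype_card, Fintype.card_bool, mul_comm]

/-- The order of the normaliser. -/
theorem card_normalizer (hq : 4 ≤ Fintype.card F) :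
    Nat.card (Subgroup.normalizer (torus m F : Set Spm)) = 2 ^ m * m.factorial * (Fintype.card F - 1) ^ m := by
  classical
  choose π hπ using fun g : Subgroup.normalizer (torus m F : Set Spm) => exists_isMon hq g.2
  let φ : Subgroup.normalizer (torus m F : Set Spm) →*
      Subgroup.centralizer ({sw m} : Set (Equiv.Perm ιm)) := MonoidHom.mk' (fun g => ⟨π g, by
    rw [Subgroup.mem_centralizer_singleton_iff]
    exact Equiv.ext fun i => (hπ g).comm i⟩) fun a b => Subtype.ext ((hπ (a * b)).unique ((hπ a).mul (hπ b)))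
  have hsur : Function.Surjective φ := by
    rintro ⟨σ, hσ⟩
    have hc : ∀ y, σ (sw m y) = sw m (σ y) := fun y =>
      Equiv.congr_fun (Subgroup.mem_centralizer_singleton_iff.mp hσ) y
    let c : ιm → F := Sum.elim (fun _ => 1) fun a =>
      Matrix.J (Fin m) F (Sum.inl a) (Sum.inr a) / Matrix.J (Fin m) F (σ (Sum.inl a)) (sw m (σ (Sum.inl a)))
    have hc0 : ∀ i, c i ≠ 0 := by
      rintro (a | a)
      · exact one_ne_zero
      · exact div_ne_zero (J_sw_ne (Sum.inl a)) (J_sw_ne _)
    have hcc : ∀ i, c i * c (sw m i) * Matrix.J (Fin m) F (σ i) (sw m (σ i)) = Matrix.J (Fin m) F i (sw m i) := by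
      rintro (a | a)
      · show 1 * c (Sum.inr a) * _ = _
        rw [one_mul]
        exact div_mul_cancel₀ _ (J_sw_ne _)
      · show c (Sum.inr a) * 1 * _ = _
        have e : σ (Sum.inr a) = sw m (σ (Sum.inl a)) := hc (Sum.inl a)
        have e' : Matrix.J (Fin m) F (Sum.inr a) (sw m (Sum.inr a)) = -Matrix.J (Fin m) F (Sum.inl a) (Sum.inr a) :=
          J_skew' (Sum.inl a)
        rw [e, sw_sw, J_skew', e', mul_one, mul_neg]
        exact congrArg Neg.neg (div_mul_cancel₀ _ (J_sw_ne _))
    let g : Spm := ⟨mon σ c, mem_sp_mon hc hcc⟩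
    have hg : IsMon g σ := fun i k => by
      show mon σ c k i = 0 ↔ _
      by_cases h : k = σ i <;> simp [mon, h, hc0 i]
    exact ⟨⟨g, hg.mem_normalizer⟩, Subtype.ext ((hπ _).unique hg)⟩
  have hker : φ.ker = (torus m F).subgroupOf (Subgroup.normalizer (torus m F : Set Spm)) := by
    ext g
    rw [MonoidHom.mem_ker, Subgroup.mem_subgroupOf]
    constructor
    · intro h
      have h' : π g = 1 := congrArg Subtype.val h
      exact (mem_torus_iff _).mpr fun i k hk => (hπ g i k).mpr (by rw [h']; exact hk)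
    · intro h
      refine Subtype.ext ((hπ g).unique fun i k => ⟨fun h0 e => ?_, fun hk => (mem_torus_iff _).mp h i k hk⟩)
      obtain ⟨l, hl⟩ : ∃ l, g.1.1 l i ≠ 0 := ⟨π g i, fun h0 => absurd rfl ((hπ g i (π g i)).mp h0)⟩
      exact hl (if he : l = i then by rw [he]; rw [show k = i from e] at h0; exact h0 else (mem_torus_iff _).mp h i l he)
  have h := φ.ker.card_mul_index
  rw [Subgroup.index_ker, MonoidHom.range_eq_top.mpr hsur, Subgroup.card_top, card_pairPerm, hker,
    Nat.card_congr (Subgroup.subgroupOfEquivOfLe Subgroup.le_normalizer).toEquiv, card_torus] at h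
  rw [← h, mul_comm]

end Cfsg.Agent.Lib.Geometry.SympTorus
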