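import Mathlib

/-!
Matrices of pure tensors combined with permutations of the factors.
-/

set_option autoImplicit false

namespace Cfsg.Agent.Lib.Geometry.TensorSpin

open Matrix

variable {F : Type*} [CommRing F] {t k : ℕ}

/-- A pure tensor followed by a permutation of the factors. -/
def tensP (σ : Equiv.Perm (Fin t)) (f : Fin t → Matrix (Fin k) (Fin k) F) :
    Matrix (Fin t → Fin k) (Fin t → Fin k) F :=
  Matrix.of fun x y => ∏ i, f i (x i) (y (σ i))

theorem tensP_apply (σ : Equiv.Perm (Fin t)) (f : Fin t → Matrix (Fin k) (Fin k) F) (x y : Fin t → Fin k) :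
    tensP σ f x y = ∏ i, f i (x i) (y (σ i)) := rfl

/-- A pure tensor. -/
abbrev tens (f : Fin t → Matrix (Fin k) (Fin k) F) : Matrix (Fin t → Fin k) (Fin t → Fin k) F :=
  tensP 1 f

theorem tensP_mul (σ τ : Equiv.Perm (Fin t)) (f g : Fin t → Matrix (Fin k) (Fin k) F) :
    tensP σ f * tensP τ g = tensP (τ * σ) (fun i => f i * g (σ i)) := by
  ext x z
  rw [Matrix.mul_apply]
  simp only [tensP_apply, Matrix.mul_apply, Equiv.Perm.mul_apply]
  rw [Fintype.prod_sum]
  refine Fintype.sum_equiv (Equiv.piCongrLeft (fun _ => Fin k) σ.symm) _ _ fun y => ?_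
  rw [Finset.prod_mul_distrib, ← Equiv.prod_comp σ (fun j => g j (y j) (z (τ j)))]
  simp [Equiv.piCongrLeft_apply]

theorem tens_mul (f g : Fin t → Matrix (Fin k) (Fin k) F) : tens f * tens g = tens (fun i => f i * g i) := by
  simpa using tensP_mul 1 1 f g

theorem tensP_transpose (σ : Equiv.Perm (Fin t)) (f : Fin t → Matrix (Fin k) (Fin k) F) :
    (tensP σ f)ᵀ = tensP σ⁻¹ (fun j => (f (σ⁻¹ j))ᵀ) := by
  ext x y
  simp only [transpose_apply, tensP_apply]
  rw [← Equiv.prod_comp σ (fun j => f (σ⁻¹ j) (y (σ⁻¹ j)) (x j))]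
  simp

theorem tens_one : tens (fun _ : Fin t => (1 : Matrix (Fin k) (Fin k) F)) = 1 := by
  ext x y
  simp only [tensP_apply, Equiv.Perm.one_apply, Matrix.one_apply]
  by_cases h : x = y
  · subst h; simp
  · rw [if_neg h]
    obtain ⟨i, hi⟩ := Function.ne_iff.mp h
    exact Finset.prod_eq_zero (Finset.mem_univ i) (if_neg hi)

theorem tens_eq_zero {f : Fin t → Matrix (Fin k) (Fin k) F} {i : Fin t} (h : f i = 0) : tens f = 0 := by
  ext x y
  simp only [tensP_apply, Matrix.zero_apply]
  exact Finset.prod_eq_zero (Finset.mem_univ i) (by rw [h]; rfl)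

theorem tens_update_apply (f : Fin t → Matrix (Fin k) (Fin k) F) (l : Fin t) (a : Matrix (Fin k) (Fin k) F)
    (x y : Fin t → Fin k) :
    tens (Function.update f l a) x y = a (x l) (y l) * ∏ i ∈ Finset.univ.erase l, f i (x i) (y i) := by
  show ∏ i, Function.update f l a i (x i) (y i) = _
  rw [← Finset.mul_prod_erase _ _ (Finset.mem_univ l)]
  congr 1
  · simp
  · exact Finset.prod_congr rfl fun i hi => by simp [Function.update_of_ne (Finset.ne_of_mem_erase hi)]

theorem tens_update_add (f : Fin t → Matrix (Fin k) (Fin k) F) (l : Fin t) (a b : Matrix (Fin k) (Fin k) F) :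
    tens (Function.update f l (a + b)) = tens (Function.update f l a) + tens (Function.update f l b) := by
  ext x y
  simp [tens_update_apply, add_mul]

theorem tens_update_smul (f : Fin t → Matrix (Fin k) (Fin k) F) (l : Fin t) (c : F) (a : Matrix (Fin k) (Fin k) F) :
    tens (Function.update f l (c • a)) = c • tens (Function.update f l a) := by
  ext x y
  simp [tens_update_apply, mul_assoc]

/-- The anticommutator of pure tensors commuting in all slots but one. -/
theorem tens_anti (f g : Fin t → Matrix (Fin k) (Fin k) F) (l : Fin t) (h : ∀ j, j ≠ l → g j * f j = f j * g j) :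
    tens f * tens g + tens g * tens f =
      tens (Function.update (fun j => f j * g j) l (f l * g l + g l * f l)) := by
  rw [tens_mul, tens_mul, tens_update_add, Function.update_eq_self]
  congr 2
  funext j
  rcases eq_or_ne j l with rfl | hj
  · simp
  · simp [Function.update_of_ne hj, h j hj]

theorem tensP_exchange (f : Fin t → Matrix (Fin k) (Fin k) F) (σ : Equiv.Perm (Fin t)) (y x x' : Fin t → Fin k)
    (i : Fin t) :
    tensP σ f x y * tensP σ f x' y =
      tensP σ f (Function.update x i (x' i)) y * tensP σ f (Function.update x' i (x i)) y := by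
  simp only [tensP_apply, ← Finset.prod_mul_distrib]
  refine Finset.prod_congr rfl fun j _ => ?_
  rcases eq_or_ne j i with rfl | hj
  · simp [mul_comm]
  · simp [Function.update_of_ne hj]

theorem tens_unique {F : Type*} [Field F] {f g : Fin t → Matrix (Fin k) (Fin k) F}
    (hg : ∀ i, ∃ a b, g i a b ≠ 0) (h : tens f = tens g) (i : Fin t) : ∃ c : F, f i = c • g i := by
  choose a b hab using hg
  have e := congrFun (congrFun h a) b
  simp only [tensP_apply, Equiv.Perm.one_apply] at e
  have hprod : ∏ j, g j (a j) (b j) ≠ 0 := Finset.prod_ne_zero_iff.mpr fun j _ => hab j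
  have hf : ∏ j ∈ Finset.univ.erase i, f j (a j) (b j) ≠ 0 := by
    have := e ▸ hprod
    rw [← Finset.mul_prod_erase _ _ (Finset.mem_univ i)] at this
    exact (mul_ne_zero_iff.mp this).2
  refine ⟨(∏ j ∈ Finset.univ.erase i, g j (a j) (b j)) / ∏ j ∈ Finset.univ.erase i, f j (a j) (b j), ?_⟩
  ext p q
  have e' := congrFun (congrFun h (Function.update a i p)) (Function.update b i q)
  simp only [tensP_apply, Equiv.Perm.one_apply] at e'
  rw [← Finset.mul_prod_erase _ _ (Finset.mem_univ i),
    ← Finset.mul_prod_erase _ (fun j => g j (Function.update a i p j) (Function.update b i q j)) (Finset.mem_univ i)] at e'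
  simp only [Function.update_self] at e'
  rw [Finset.prod_congr rfl (fun j hj => by rw [Function.update_of_ne (Finset.ne_of_mem_erase hj),
      Function.update_of_ne (Finset.ne_of_mem_erase hj)] :
      ∀ j ∈ Finset.univ.erase i, f j (Function.update a i p j) (Function.update b i q j) = f j (a j) (b j)),
    Finset.prod_congr rfl (fun j hj => by rw [Function.update_of_ne (Finset.ne_of_mem_erase hj),
      Function.update_of_ne (Finset.ne_of_mem_erase hj)] :
      ∀ j ∈ Finset.univ.erase i, g j (Function.update a i p j) (Function.update b i q j) = g j (a j) (b j))] at e'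
  rw [Matrix.smul_apply, smul_eq_mul, div_mul_eq_mul_div, eq_div_iff hf, e']
  ring

end Cfsg.Agent.Lib.Geometry.TensorSpin
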