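import Cfsg.Prelude.Def_GeometricClasses
import Cfsg.Agent.Lib.Geometry.TensorPerm
import Cfsg.Agent.Lib.Geometry.SympBasis

import Cfsg.Agent.Lib.MaxSub.Orth

/-!
The stabiliser of a tensor power of a small symplectic space inside an orthogonal group in characteristic two is not
maximal: it preserves a space of operators supported on single factors, and so does a larger subgroup.
-/

set_option autoImplicit false

namespace Cfsg.Agent.Lib.Geometry.TensorSpin

open Matrix QuadraticMap
open scoped commutatorElement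

variable {F : Type*} [Field F] {t k : ℕ}

/-- The antidiagonal form. -/
def J (k : ℕ) (F : Type*) [Field F] : Matrix (Fin k) (Fin k) F :=
  Matrix.of fun a b => if b = a.rev then 1 else 0

theorem J_sq : J k F * J k F = 1 := by
  ext a b
  rw [Matrix.mul_apply, Finset.sum_eq_single a.rev (fun j _ hj => by simp [J, hj]) (fun h => absurd (Finset.mem_univ _) h)]
  simp [J, Matrix.one_apply, Fin.rev_rev, eq_comm]

theorem J_mul_apply (A : Matrix (Fin k) (Fin k) F) (a b : Fin k) : (J k F * A) a b = A a.rev b := by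
  simp [J, Matrix.mul_apply]

/-- An operator on one factor. -/
def slot (l : Fin t) (Y : Matrix (Fin k) (Fin k) F) : Matrix (Fin t → Fin k) (Fin t → Fin k) F :=
  tens (Function.update (fun _ => 1) l Y)

/-- The span of the operators supported on one factor. -/
def opSpace (S : Set (Matrix (Fin k) (Fin k) F)) : Submodule F (Matrix (Fin t → Fin k) (Fin t → Fin k) F) :=
  Submodule.span F {M | ∃ (l : Fin t) (Y : Matrix (Fin k) (Fin k) F), Y ∈ S ∧ M = slot l Y}

theorem slot_mem {S : Set (Matrix (Fin k) (Fin k) F)} (l : Fin t) {Y : Matrix (Fin k) (Fin k) F} (hY : Y ∈ S) :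
    slot l Y ∈ opSpace S :=
  Submodule.subset_span ⟨l, Y, hY, rfl⟩

theorem opSpace_apply {S : Set (Matrix (Fin k) (Fin k) F)} {M : Matrix (Fin t → Fin k) (Fin t → Fin k) F}
    (hM : M ∈ opSpace S) {x y : Fin t → Fin k} {j m : Fin t} (hjm : j ≠ m) (hj : x j ≠ y j) (hm : x m ≠ y m) :
    M x y = 0 := by
  induction hM using Submodule.span_induction with
  | mem M hM =>
    obtain ⟨l, Y, -, rfl⟩ := hM
    show ∏ i, Function.update (fun _ => (1 : Matrix (Fin k) (Fin k) F)) l Y i (x i) (y i) = (0 : F)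
    by_cases h : j = l
    · refine Finset.prod_eq_zero (Finset.mem_univ m) ?_
      rw [Function.update_of_ne (fun e => hjm (h.trans e.symm)), Matrix.one_apply_ne hm]
    · refine Finset.prod_eq_zero (Finset.mem_univ j) ?_
      rw [Function.update_of_ne h, Matrix.one_apply_ne hj]
  | zero => rfl
  | add a b _ _ ha hb => rw [Matrix.add_apply, ha, hb, add_zero]
  | smul c a _ ha => rw [Matrix.smul_apply, ha, smul_zero]

/-- Conjugation preserves the operator space. -/
def fixOp (S : Set (Matrix (Fin k) (Fin k) F)) : Subgroup (GL (Fin t → Fin k) F) where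
  carrier := {g | (∀ M ∈ opSpace (t := t) S, g.1 * M * (g⁻¹).1 ∈ opSpace S) ∧
    ∀ M ∈ opSpace (t := t) S, (g⁻¹).1 * M * g.1 ∈ opSpace S}
  mul_mem' {a b} ha hb := by
    constructor
    · intro M hM
      have h := ha.1 _ (hb.1 _ hM)
      simpa [_root_.mul_inv_rev, mul_assoc] using h
    · intro M hM
      have h := hb.2 _ (ha.2 _ hM)
      simpa [_root_.mul_inv_rev, mul_assoc] using h
  one_mem' := ⟨fun M hM => by simpa using hM, fun M hM => by simpa using hM⟩
  inv_mem' {a} ha := ⟨fun M hM => by simpa using ha.2 M hM, fun M hM => by simpa using ha.1 M hM⟩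

theorem mem_fixOp_of {S : Set (Matrix (Fin k) (Fin k) F)} [Finite F] {g : GL (Fin t → Fin k) F}
    (h : ∀ (l : Fin t), ∀ Y ∈ S, g.1 * slot l Y * (g⁻¹).1 ∈ opSpace S) : g ∈ fixOp S := by
  let L : Matrix (Fin t → Fin k) (Fin t → Fin k) F →ₗ[F] Matrix (Fin t → Fin k) (Fin t → Fin k) F :=
    (LinearMap.mulLeft F g.1).comp (LinearMap.mulRight F (g⁻¹).1)
  have hL : ∀ M, L M = g.1 * M * (g⁻¹).1 := fun M => (mul_assoc _ _ _).symm
  have hle : (opSpace (t := t) S).map L ≤ opSpace S := by
    rw [opSpace, Submodule.map_span_le]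
    rintro _ ⟨l, Y, hY, rfl⟩
    rw [hL]
    exact h l Y hY
  have hinj : Function.Injective L := fun M N e => by
    rw [hL, hL] at e
    exact (Units.mul_right_inj g).mp ((Units.mul_left_inj g⁻¹).mp e)
  have heq : (opSpace (t := t) S).map L = opSpace S :=
    Submodule.eq_of_le_of_finrank_eq hle
      (Submodule.equivMapOfInjective L hinj _).finrank_eq.symm
  refine ⟨fun M hM => hL M ▸ hle ⟨M, hM, rfl⟩, fun M hM => ?_⟩
  rw [← heq] at hM
  obtain ⟨N, hN, rfl⟩ := hM
  rw [hL]
  simpa [mul_assoc] using hN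

/-! ### Elements of the wreath product -/

theorem exists_tensP [Finite F] {g : GL (Fin t → Fin k) F} (hg : g ∈ Cfsg.Geo.tensorWreathStandard k t F) :
    ∃ (σ : Equiv.Perm (Fin t)) (gs : Fin t → GL (Fin k) F), g.1 = tensP σ (fun i => (gs i).1) := by
  haveI : Finite (GL (Fin t → Fin k) F) := inferInstance
  rw [Cfsg.Geo.tensorWreathStandard, ← Subgroup.mem_toSubmonoid, Subgroup.closure_toSubmonoid_of_finite] at hg
  induction hg using Submonoid.closure_induction with
  | mem g hg =>
    rcases hg with ⟨gs, hgs⟩ | ⟨σ, hσ⟩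
    · exact ⟨1, gs, Matrix.ext fun x y => by rw [hgs]; rfl⟩
    · refine ⟨σ⁻¹, fun _ => 1, Matrix.ext fun x y => ?_⟩
      rw [hσ, tensP_apply]
      simp only [Units.val_one, Matrix.one_apply]
      split_ifs with h
      · subst h
        refine (Finset.prod_eq_one fun i _ => ?_).symm
        simp
      · obtain ⟨i, hi⟩ := Function.ne_iff.mp h
        refine (Finset.prod_eq_zero (Finset.mem_univ (σ i)) ?_).symm
        simp
        intro e
        exact hi e.symm
  | one => exact ⟨1, fun _ => 1, by simpa using (tens_one (F := F) (t := t) (k := k)).symm⟩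
  | mul a b _ _ ha hb =>
    obtain ⟨σ, gs, hσ⟩ := ha
    obtain ⟨τ, hs, hτ⟩ := hb
    exact ⟨τ * σ, fun i => gs i * hs (σ i), by rw [Units.val_mul, hσ, hτ, tensP_mul]; rfl⟩

theorem tensP_slot (σ : Equiv.Perm (Fin t)) (gs : Fin t → GL (Fin k) F) (l : Fin t) (Y : Matrix (Fin k) (Fin k) F) :
    tensP σ (fun i => (gs i).1) * slot (σ l) Y =
      slot l ((gs l).1 * Y * (gs l)⁻¹.1) * tensP σ (fun i => (gs i).1) := by
  rw [slot, slot, tens, tens, tensP_mul, tensP_mul, one_mul, mul_one]
  congr 1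
  funext i
  rcases eq_or_ne i l with rfl | h
  · simp [mul_assoc]
  · simp [Function.update_of_ne h, Function.update_of_ne (σ.injective.ne h)]

variable [Fintype F]

/-- The standard model: the polar form is the tensor power of the antidiagonal form and pure tensors are singular. -/
structure Model (Q : QuadraticForm F ((Fin t → Fin k) → F)) (c : F) : Prop where
  two : (2 : F) = 0
  c_ne : c ≠ 0
  polar : ∀ x y, polarBilin Q x y = c * (x ⬝ᵥ (tens (fun _ : Fin t => J k F) *ᵥ y))
  pure : ∀ xs : Fin t → Fin k → F, Q (fun a => ∏ i, xs i (a i)) = 0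

variable {Q : QuadraticForm F ((Fin t → Fin k) → F)} {c : F}

theorem gram_of_isometry (hM : Model Q c) {g : GL (Fin t → Fin k) F} (hg : g ∈ Cfsg.isometryGroup F ⇑Q) :
    g.1ᵀ * tens (fun _ : Fin t => J k F) * g.1 = tens (fun _ : Fin t => J k F) := by
  refine Matrix.ext fun a b => ?_
  have h := Cfsg.Agent.Lib.MaxSub.Orth.iso_polar hg (Pi.single a 1) (Pi.single b 1)
  rw [hM.polar, hM.polar] at h
  have h' := mul_left_cancel₀ hM.c_ne h
  rw [Matrix.mulVec_mulVec, ← Matrix.vecMul_transpose, ← Matrix.dotProduct_mulVec, Matrix.mulVec_mulVec] at h'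
  simpa [← mul_assoc] using h'

theorem wreath_le_fixOp (hM : Model Q c) (a₀ : Fin k) {S : Set (Matrix (Fin k) (Fin k) F)}
    (hS : ∀ (g : GL (Fin k) F) (d : F), d ≠ 0 → g.1ᵀ * J k F * g.1 = d • J k F →
      ∀ Y ∈ S, g.1 * Y * (g⁻¹).1 ∈ S) :
    Cfsg.Geo.tensorWreathStandard k t F ⊓ Cfsg.isometryGroup F ⇑Q ≤ fixOp S := by
  rintro g ⟨hgT, hgI⟩
  obtain ⟨σ, gs, hg⟩ := exists_tensP hgT
  have hsim : ∀ i, ∃ d : F, d ≠ 0 ∧ (gs i).1ᵀ * J k F * (gs i).1 = d • J k F := by
    intro i
    have e := gram_of_isometry hM hgI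
    rw [hg, tensP_transpose, tens, tensP_mul, tensP_mul] at e
    simp only [one_mul, mul_inv_cancel, Equiv.Perm.one_apply] at e
    obtain ⟨d, hd⟩ := tens_unique (i := σ i) (fun _ => ⟨a₀, a₀.rev, by simp [J]⟩) e
    simp only [Equiv.Perm.inv_def, Equiv.symm_apply_apply] at hd
    refine ⟨d, fun h0 => ?_, hd⟩
    rw [h0, zero_smul] at hd
    have h1 : J k F = 0 := by
      calc J k F = ((gs i).1 * (gs i)⁻¹.1)ᵀ * J k F * ((gs i).1 * (gs i)⁻¹.1) := by
            rw [Units.mul_inv, Matrix.transpose_one, one_mul, mul_one]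
        _ = ((gs i)⁻¹.1)ᵀ * ((gs i).1ᵀ * J k F * (gs i).1) * (gs i)⁻¹.1 := by
            simp only [Matrix.transpose_mul, mul_assoc]
        _ = 0 := by rw [hd, mul_zero, zero_mul]
    have := congrFun (congrFun h1 a₀) a₀.rev
    simp [J] at this
  refine mem_fixOp_of fun l Y hY => ?_
  obtain ⟨d, hd0, hd⟩ := hsim (σ.symm l)
  have e := tensP_slot σ gs (σ.symm l) Y
  rw [Equiv.apply_symm_apply, ← hg] at e
  rw [e, mul_assoc, Units.mul_inv, mul_one]
  exact slot_mem _ (hS _ d hd0 hd Y hY)

/-! ### Involutions -/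

omit [Fintype F] in
theorem slot_self (f : Fin t → Matrix (Fin k) (Fin k) F) (l : Fin t) (Y : Matrix (Fin k) (Fin k) F) :
    tens f * slot l Y = tens (Function.update f l (f l * Y)) ∧
      slot l Y * tens f = tens (Function.update f l (Y * f l)) := by
  constructor <;> rw [slot, tens_mul] <;> congr 1 <;> funext i <;> rcases eq_or_ne i l with rfl | h <;>
    simp [*]

/-- The unit `1 + N`. -/
def invo (h2 : (2 : F) = 0) (f : Fin t → Matrix (Fin k) (Fin k) F) (i : Fin t) (hi : f i * f i = 0) :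
    GL (Fin t → Fin k) F :=
  have e : (1 + tens f) * (1 + tens f) = 1 := by
    have hN : tens f * tens f = 0 := by rw [tens_mul]; exact tens_eq_zero hi
    rw [add_mul, mul_add, mul_add, hN, one_mul, mul_one, one_mul, add_zero, add_assoc, ← two_smul F (tens f), h2,
      zero_smul, add_zero]
  ⟨1 + tens f, 1 + tens f, e, e⟩

omit [Fintype F] in
theorem invo_inv (h2 : (2 : F) = 0) (f : Fin t → Matrix (Fin k) (Fin k) F) (i : Fin t) (hi : f i * f i = 0) :
    (invo h2 f i hi)⁻¹ = invo h2 f i hi :=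
  Units.ext rfl

theorem invo_mem (hM : Model Q c) (f : Fin t → Matrix (Fin k) (Fin k) F) (i : Fin t) (hi : f i * f i = 0)
    (hsym : ∀ j, (J k F * f j)ᵀ = J k F * f j) (j : Fin t) (hdiag : ∀ a, (J k F * f j) a a = 0) :
    invo hM.two f i hi ∈ Cfsg.isometryGroup F ⇑Q := by
  set G := tens (fun _ : Fin t => J k F) with hG
  set N := tens f with hN'
  have hN : N * N = 0 := by rw [hN', tens_mul]; exact tens_eq_zero hi
  have hGN : (G * N)ᵀ = G * N := by
    rw [hG, hN', tens_mul, tens, tensP_transpose, inv_one]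
    congr 1
    funext l
    exact hsym l
  have hGsym : Gᵀ = G := by
    rw [hG, tens, tensP_transpose, inv_one]
    congr 1
    funext l
    ext a b
    show J k F b a = J k F a b
    simp only [J, Matrix.of_apply]
    congr 1
    exact propext ⟨fun e => by rw [e, Fin.rev_rev], fun e => by rw [e, Fin.rev_rev]⟩
  have hB : ∀ x y, polarBilin Q (N *ᵥ x) y = polarBilin Q x (N *ᵥ y) := fun x y => by
    rw [hM.polar, hM.polar, ← hG, Matrix.mulVec_mulVec, ← hGN, Matrix.transpose_mul, hGsym,
      ← Matrix.vecMul_transpose, ← Matrix.dotProduct_mulVec, Matrix.mulVec_mulVec]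
  have hBs : ∀ x y, polarBilin Q x y = polarBilin Q y x := fun x y => quad_polar_comm Q x y
  let φ : ((Fin t → Fin k) → F) → F := fun v => Q (N *ᵥ v) + polarBilin Q v (N *ᵥ v)
  have hadd : ∀ v w, φ (v + w) = φ v + φ w := fun v w => by
    have e1 : polarBilin Q (N *ᵥ v) (N *ᵥ w) = 0 := by rw [hB, Matrix.mulVec_mulVec, hN]; simp
    have e2 : polarBilin Q w (N *ᵥ v) = polarBilin Q v (N *ᵥ w) := by rw [← hB, hBs]
    simp only [φ, Matrix.mulVec_add, map_add, LinearMap.add_apply, quad_add, e1, e2]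
    linear_combination (polarBilin Q v (N *ᵥ w)) * hM.two
  have hsmul : ∀ (a : F) v, φ (a • v) = a * a * φ v := fun a v => by
    simp only [φ, Matrix.mulVec_smul, map_smul, LinearMap.smul_apply, quad_smul, smul_eq_mul]
    ring
  have hbasis : ∀ a, φ (Pi.single a 1) = 0 := by
    intro a
    have hcol : N *ᵥ Pi.single a 1 = fun x => ∏ l, f l (x l) (a l) := funext fun x => by
      simp [Matrix.mulVec_single, hN', tensP_apply]
    simp only [φ]
    rw [hM.polar, ← hG, Matrix.mulVec_mulVec]
    conv_lhs => arg 1; rw [hcol, hM.pure (fun l b => f l b (a l))]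
    rw [hG, hN', tens_mul, zero_add]
    simp only [single_dotProduct, one_mul, Matrix.mulVec_single_one, Matrix.col_apply, tensP_apply,
      Equiv.Perm.one_apply]
    rw [Finset.prod_eq_zero (Finset.mem_univ j) (hdiag (a j)), mul_zero]
  have hzero : ∀ v, φ v = 0 := fun v => by
    let Φ : ((Fin t → Fin k) → F) →+ F := AddMonoidHom.mk' φ hadd
    have e : φ v = Φ (∑ a, v a • Pi.single a 1) := by rw [← pi_eq_sum_univ' v]; rfl
    rw [e, map_sum]
    refine Finset.sum_eq_zero fun a _ => ?_
    show φ _ = 0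
    rw [hsmul, hbasis, mul_zero]
  intro v _
  show Q ((1 + N) *ᵥ v) = Q v
  rw [Matrix.add_mulVec, Matrix.one_mulVec, quad_add, add_assoc, show Q (N *ᵥ v) + polarBilin Q v (N *ᵥ v) = 0 from hzero v,
    add_zero]

omit [Fintype F] in
theorem comm_invo {R : Type*} [Ring R] (h2 : (2 : R) = 0) {N M : R} (hN : N * N = 0) (hM : M * M = 0)
    (hNMN : N * M * N = 0) (hMNM : M * N * M = 0) :
    (1 + N) * (1 + M) * (1 + N) * (1 + M) = 1 + (N * M + M * N) := by
  have e : (1 + N) * (1 + M) * (1 + N) * (1 + M) = 1 + (N * M + M * N) + ((2 * N + 2 * M + 2 * (N * M)) +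
      N * N + M * M + N * N * M + N * (M * M) + N * M * N + M * N * M + N * M * N * M) := by noncomm_ring
  rw [e, h2, hN, hM, hNMN, hMNM]
  simp [hM]

/-- Commutators of two involutions. -/
theorem anti_mem (hM : Model Q c) (f g : Fin t → Matrix (Fin k) (Fin k) F) (i i' l jf jg : Fin t)
    (hf : f i * f i = 0) (hg : g i' * g i' = 0) (hfg : ∃ m, f m * g m * f m = 0) (hgf : ∃ m, g m * f m * g m = 0)
    (hfs : ∀ j, (J k F * f j)ᵀ = J k F * f j) (hgs : ∀ j, (J k F * g j)ᵀ = J k F * g j)
    (hfd : ∀ a, (J k F * f jf) a a = 0) (hgd : ∀ a, (J k F * g jg) a a = 0)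
    (hc : ∀ j, j ≠ l → g j * f j = f j * g j) (h : Fin t → Matrix (Fin k) (Fin k) F)
    (hl : f l * g l + g l * f l = h l) (hj : ∀ j, j ≠ l → f j * g j = h j) (hh : ∃ m, h m * h m = 0) :
    ∃ u : GL (Fin t → Fin k) F, u ∈ Cfsg.Geo.omegaGL ⇑Q ∧ u⁻¹.1 = u.1 ∧ u.1 = 1 + tens h := by
  obtain ⟨m, hm⟩ := hh
  have h2 : (2 : Matrix (Fin t → Fin k) (Fin t → Fin k) F) = 0 := by
    have e := congrArg (algebraMap F (Matrix (Fin t → Fin k) (Fin t → Fin k) F)) hM.two
    rwa [map_ofNat, map_zero] at e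
  have e : tens f * tens g + tens g * tens f = tens h := by
    rw [tens_anti f g l hc]
    congr 1
    funext j
    rcases eq_or_ne j l with rfl | hne
    · simp [hl]
    · simp [Function.update_of_ne hne, hj j hne]
  refine ⟨invo hM.two h m hm, ?_, by rw [invo_inv], rfl⟩
  have hu : invo hM.two h m hm = ⁅invo hM.two f i hf, invo hM.two g i' hg⁆ := by
    rw [commutatorElement_def, invo_inv, invo_inv]
    refine Units.ext ?_
    show 1 + tens h = (1 + tens f) * (1 + tens g) * (1 + tens f) * (1 + tens g)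
    obtain ⟨a, ha⟩ := hfg
    obtain ⟨b, hb⟩ := hgf
    rw [comm_invo h2 (by rw [tens_mul]; exact tens_eq_zero hf) (by rw [tens_mul]; exact tens_eq_zero hg)
      (by rw [tens_mul, tens_mul]; exact tens_eq_zero ha) (by rw [tens_mul, tens_mul]; exact tens_eq_zero hb), e]
  rw [hu]
  show _ ∈ (commutator _).map (Cfsg.isometryGroup F ⇑Q).subtype
  rw [Subgroup.map_subtype_commutator]
  exact Subgroup.commutator_mem_commutator (invo_mem hM f i hf hfs jf hfd) (invo_mem hM g i' hg hgs jg hgd)

/-- An involution supported on two factors fixes the operator space. -/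
theorem invo_mem_fixOp {S : Set (Matrix (Fin k) (Fin k) F)} (hone : (1 : Matrix (Fin k) (Fin k) F) ∈ S)
    (h2 : (2 : F) = 0) {u : GL (Fin t → Fin k) F} {A : Matrix (Fin k) (Fin k) F} (hA : A ∈ S) (hA2 : A * A = 0)
    (hAS : ∀ Y ∈ S, ∃ s : F, A * Y + Y * A = s • 1) {i j : Fin t} (hij : i ≠ j) (hui : u⁻¹.1 = u.1)
    (hu : u.1 = 1 + tens (Function.update (Function.update (fun _ => 1) i A) j A)) : u ∈ fixOp S := by
  set f := Function.update (Function.update (fun _ : Fin t => (1 : Matrix (Fin k) (Fin k) F)) i A) j A with hf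
  have hfi : f i = A := by rw [hf, Function.update_of_ne hij, Function.update_self]
  have hfj : f j = A := by rw [hf, Function.update_self]
  refine mem_fixOp_of fun l Y hY => ?_
  rw [hui, hu]
  have e : (1 + tens f) * slot l Y * (1 + tens f) = slot l Y + tens (Function.update f l (f l * Y + Y * f l)) +
      tens f * slot l Y * tens f := by
    rw [tens_update_add, ← (slot_self f l Y).1, ← (slot_self f l Y).2]
    noncomm_ring
  have hz : tens f * slot l Y * tens f = 0 := by
    rw [(slot_self f l Y).1, tens_mul]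
    rcases eq_or_ne l i with rfl | hli
    · exact tens_eq_zero (i := j) (by rw [Function.update_of_ne hij.symm, hfj, hA2])
    · exact tens_eq_zero (i := i) (by rw [Function.update_of_ne hli.symm, hfi, hA2])
  rw [e, hz, add_zero]
  refine add_mem (slot_mem l hY) ?_
  by_cases hl : l = i ∨ l = j
  · obtain ⟨s, hs⟩ := hAS Y hY
    have hfl : f l = A := by rcases hl with rfl | rfl <;> assumption
    rw [hfl, hs, tens_update_smul]
    refine Submodule.smul_mem _ _ ?_
    rcases hl with rfl | rfl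
    · rw [show Function.update f l 1 = Function.update (fun _ => 1) j A by
        funext m
        rcases eq_or_ne m l with rfl | h1
        · simp [hij]
        · simp [hf, h1]
          rcases eq_or_ne m j with rfl | h3 <;> simp [*]]
      exact slot_mem j hA
    · rw [show Function.update f l 1 = Function.update (fun _ => 1) i A by
        funext m
        rcases eq_or_ne m l with rfl | h1
        · simp [hij.symm]
        · simp [hf, h1]]
      exact slot_mem i hA
  · push Not at hl
    have hfl : f l = 1 := by simp [hf, hl.1, hl.2]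
    rw [hfl, one_mul, mul_one, ← two_smul F Y, h2, zero_smul, tens_eq_zero (i := l) (Function.update_self ..)]
    exact zero_mem _

omit [Fintype F] in
/-- An involution supported on two factors moves a pure tensor off the pure tensors. -/
theorem notMem_wreath [Finite F] {u : GL (Fin t → Fin k) F} {A : Matrix (Fin k) (Fin k) F} {i j : Fin t}
    (hij : i ≠ j) {z r : Fin k} (hzr : z ≠ r) (hA : ∀ a, A a r = if a = z then 1 else 0)
    (hu : u.1 = 1 + tens (Function.update (Function.update (fun _ => 1) i A) j A)) :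
    u ∉ Cfsg.Geo.tensorWreathStandard k t F := by
  intro hmem
  obtain ⟨σ, gs, hg⟩ := exists_tensP hmem
  let y : Fin t → Fin k := fun _ => r
  let x' : Fin t → Fin k := Function.update (Function.update y i z) j z
  have hcol : ∀ x, u.1 x y = (if x = y then 1 else 0) + (if x = x' then 1 else 0) := by
    intro x
    rw [hu, Matrix.add_apply, Matrix.one_apply]
    congr 1
    simp only [tensP_apply, Equiv.Perm.one_apply]
    split_ifs with h
    · subst h
      refine Finset.prod_eq_one fun m _ => ?_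
      rcases eq_or_ne m j with rfl | hmj
      · simp [x', y, hA]
      rcases eq_or_ne m i with rfl | hmi
      · simp [x', y, hA, hmj]
      · simp [x', y, hmj, hmi]
    · obtain ⟨m, hm⟩ := Function.ne_iff.mp h
      refine Finset.prod_eq_zero (Finset.mem_univ m) ?_
      rcases eq_or_ne m j with rfl | hmj
      · simp [x', y, hA] at hm ⊢; exact hm
      rcases eq_or_ne m i with rfl | hmi
      · simp [x', y, hA, hmj] at hm ⊢; exact hm
      · simp [x', y, hmj, hmi] at hm ⊢; rw [Matrix.one_apply_ne hm]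
  have h := tensP_exchange (fun l => (gs l).1) σ y y x' i
  rw [← hg, hcol, hcol, hcol, hcol] at h
  have h1 : x' ≠ y := fun e => hzr (by simpa [x', y] using congrFun e j)
  have hx'i : x' i = z := by simp [x', hij]
  have h3 : Function.update y i (x' i) ≠ y := fun e => hzr (by simpa [hx'i, y] using congrFun e i)
  have h4 : Function.update y i (x' i) ≠ x' := fun e => by
    have := congrFun e j
    simp [x', hij.symm, y] at this
    exact hzr this.symm
  simp [h1, h1.symm, h3, h4] at h

/-- Between the wreath product and the orthogonal group. -/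
theorem model_between (hM : Model Q c) (a₀ : Fin k) {S : Set (Matrix (Fin k) (Fin k) F)}
    (hS : ∀ (g : GL (Fin k) F) (d : F), d ≠ 0 → g.1ᵀ * J k F * g.1 = d • J k F →
      ∀ Y ∈ S, g.1 * Y * (g⁻¹).1 ∈ S)
    {g h : GL (Fin t → Fin k) F} (hgO : g ∈ Cfsg.Geo.omegaGL ⇑Q) (hgK : g ∈ fixOp S)
    (hgT : g ∉ Cfsg.Geo.tensorWreathStandard k t F) (hhO : h ∈ Cfsg.Geo.omegaGL ⇑Q) (hhK : h ∉ fixOp S) :
    Cfsg.Geo.tensorWreathStandard k t F ⊓ Cfsg.Geo.omegaGL ⇑Q < fixOp S ⊓ Cfsg.Geo.omegaGL ⇑Q ∧
      fixOp S ⊓ Cfsg.Geo.omegaGL ⇑Q < Cfsg.Geo.omegaGL ⇑Q := by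
  constructor
  · refine lt_of_le_of_ne ?_ fun e => hgT (Subgroup.mem_inf.mp (e.symm ▸ (⟨hgK, hgO⟩ : g ∈ fixOp S ⊓ Cfsg.Geo.omegaGL ⇑Q) : g ∈ Cfsg.Geo.tensorWreathStandard k t F ⊓ Cfsg.Geo.omegaGL ⇑Q)).1
    exact le_inf ((inf_le_inf_left _ Cfsg.Agent.Lib.MaxSub.Orth.omegaGL_le_isometry).trans (wreath_le_fixOp hM a₀ hS))
      inf_le_right
  · exact lt_of_le_of_ne inf_le_right fun e => hhK (e.symm ▸ hhO : h ∈ fixOp S ⊓ Cfsg.Geo.omegaGL ⇑Q).1

end Cfsg.Agent.Lib.Geometry.TensorSpin
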