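import Cfsg.Agent.Lib.Geometry.TensorSpin

/-!
The two small symplectic factors, and the reduction to the model.
-/

set_option autoImplicit false

namespace Cfsg.Agent.Lib.Geometry.TensorSpin

open Matrix QuadraticMap

variable {F : Type*} [Field F] {t k : ℕ}

theorem notMem_fixOp {S : Set (Matrix (Fin k) (Fin k) F)} {u : GL (Fin t → Fin k) F} (hui : u⁻¹.1 = u.1)
    {h : Fin t → Matrix (Fin k) (Fin k) F} (hu : u.1 = 1 + tens h) {i j m : Fin t} (hjm : j ≠ m) (hij : i ≠ m)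
    (hm : h m * h m = 0) {Y : Matrix (Fin k) (Fin k) F} (hY : Y ∈ S) {x y : Fin t → Fin k} (hxj : x j ≠ y j)
    (hxm : x m ≠ y m) (hne : tens (Function.update h i (h i * Y + Y * h i)) x y ≠ 0) : u ∉ fixOp S := by
  intro hK
  have hw := hK.1 _ (slot_mem i hY)
  rw [hui, hu] at hw
  have e : (1 + tens h) * slot i Y * (1 + tens h) = slot i Y + tens (Function.update h i (h i * Y + Y * h i)) +
      tens h * slot i Y * tens h := by
    rw [tens_update_add, ← (slot_self h i Y).1, ← (slot_self h i Y).2]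
    noncomm_ring
  have hz : tens h * slot i Y * tens h = 0 := by
    rw [(slot_self h i Y).1, tens_mul]
    exact tens_eq_zero (i := m) (by rw [Function.update_of_ne hij.symm, hm])
  rw [e, hz, add_zero] at hw
  have h0 := opSpace_apply hw hjm hxj hxm
  rw [Matrix.add_apply, opSpace_apply (slot_mem i hY) hjm hxj hxm, zero_add] at h0
  exact hne h0

variable [Fintype F] {c : F}

/-! ### Dimension two -/

/-- The operators of trace zero. -/
def S2 (F : Type*) [Field F] : Set (Matrix (Fin 2) (Fin 2) F) := {Y | Y 0 0 = Y 1 1}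

omit [Fintype F] in
theorem S2_conj (h2 : (2 : F) = 0) (g : GL (Fin 2) F) {Z : Matrix (Fin 2) (Fin 2) F} (hZ : Z ∈ S2 F) :
    g.1 * Z * g⁻¹.1 ∈ S2 F := by
  have hZ' : Z 0 0 = Z 1 1 := hZ
  have h : (g.1 * Z * g⁻¹.1).trace = Z.trace := by
    rw [Matrix.trace_mul_cycle, Units.inv_mul, one_mul]
  rw [Matrix.trace_fin_two, Matrix.trace_fin_two, hZ'] at h
  show _ = _
  linear_combination h + (Z 1 1 - (g.1 * Z * g⁻¹.1) 1 1) * h2

theorem between_two {Q : QuadraticForm F ((Fin t → Fin 2) → F)} (hM : Model Q c) (ht : 4 ≤ t) :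
    ∃ K, Cfsg.Geo.tensorWreathStandard 2 t F ⊓ Cfsg.Geo.omegaGL ⇑Q < K ∧ K < Cfsg.Geo.omegaGL ⇑Q := by
  obtain ⟨s, rfl⟩ : ∃ s, t = s + 4 := ⟨t - 4, by omega⟩
  have h2 := hM.two
  have hneg : ∀ a : F, -a = a := fun a => by linear_combination -a * h2
  let X : Matrix (Fin 2) (Fin 2) F := !![0, 1; 0, 0]
  let Y : Matrix (Fin 2) (Fin 2) F := !![0, 0; 1, 0]
  have hX2 : X * X = 0 := by ext a b; fin_cases a <;> fin_cases b <;> simp [X, Matrix.mul_apply]
  have hY2 : Y * Y = 0 := by ext a b; fin_cases a <;> fin_cases b <;> simp [Y, Matrix.mul_apply]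
  have hXY : X * Y + Y * X = 1 := by ext a b; fin_cases a <;> fin_cases b <;> simp [X, Y, Matrix.mul_apply]
  have hJX : (J 2 F * X)ᵀ = J 2 F * X := by
    ext a b; fin_cases a <;> fin_cases b <;> simp [J_mul_apply, X]
  have hJY : (J 2 F * Y)ᵀ = J 2 F * Y := by
    ext a b; fin_cases a <;> fin_cases b <;> simp [J_mul_apply, Y]
  have hJ1 : (J 2 F * (1 : Matrix (Fin 2) (Fin 2) F))ᵀ = J 2 F * (1 : Matrix (Fin 2) (Fin 2) F) := by
    rw [mul_one]; ext a b; fin_cases a <;> fin_cases b <;> simp [J, Fin.ext_iff, Fin.val_rev]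
  have hd1 : ∀ a : Fin 2, (J 2 F * (1 : Matrix (Fin 2) (Fin 2) F)) a a = 0 := by
    rw [mul_one]; intro a; fin_cases a <;> simp [J, Fin.ext_iff, Fin.val_rev]
  let p : Fin 4 → Fin (s + 4) := fun a => ⟨a.1, by omega⟩
  have hp : ∀ a b : Fin 4, a ≠ b → p a ≠ p b := fun a b h e => h (Fin.ext (congrArg (fun x : Fin (s + 4) => x.1) e))
  let one : Fin (s + 4) → Matrix (Fin 2) (Fin 2) F := fun _ => 1
  let f₁ := Function.update (Function.update one (p 0) X) (p 2) X
  let g₁ := Function.update (Function.update one (p 2) Y) (p 1) X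
  let h₁ := Function.update (Function.update one (p 0) X) (p 1) X
  obtain ⟨u, huO, hui, hu⟩ := anti_mem hM f₁ g₁ (p 0) (p 1) (p 2) (p 1) (p 0)
    (by simp [f₁, hp, hX2]) (by simp [g₁, hX2]) ⟨p 0, by simp [f₁, g₁, one, hp, hX2]⟩
    ⟨p 1, by simp [f₁, g₁, one, hp, hX2]⟩
    (fun j => by simp only [f₁, one, Function.update_apply]; split_ifs <;> assumption)
    (fun j => by simp only [g₁, one, Function.update_apply]; split_ifs <;> assumption)
    (by simpa [f₁, one, hp] using hd1) (by simpa [g₁, one, hp] using hd1)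
    (fun j hj => by
      simp only [f₁, g₁, one, Function.update_apply, hj, if_false]
      split_ifs <;> simp)
    h₁ (by simp [f₁, g₁, h₁, one, hp, hXY])
    (fun j hj => by
      simp only [f₁, g₁, h₁, one, Function.update_apply, hj, if_false]
      split_ifs with a b <;> simp_all [hp])
    ⟨p 1, by simp [h₁, hX2]⟩
  let f₂ := Function.update (Function.update one (p 0) X) (p 3) X
  let g₂ := Function.update (Function.update (Function.update one (p 3) Y) (p 1) X) (p 2) X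
  let h₂ := Function.update (Function.update (Function.update one (p 0) X) (p 1) X) (p 2) X
  obtain ⟨v, hvO, hvi, hv⟩ := anti_mem hM f₂ g₂ (p 0) (p 1) (p 3) (p 1) (p 0)
    (by simp [f₂, hp, hX2]) (by simp [g₂, hp, hX2]) ⟨p 0, by simp [f₂, g₂, one, hp, hX2]⟩
    ⟨p 1, by simp [f₂, g₂, one, hp, hX2]⟩
    (fun j => by simp only [f₂, one, Function.update_apply]; split_ifs <;> assumption)
    (fun j => by simp only [g₂, one, Function.update_apply]; split_ifs <;> assumption)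
    (by simpa [f₂, one, hp] using hd1) (by simpa [g₂, one, hp] using hd1)
    (fun j hj => by
      simp only [f₂, g₂, one, Function.update_apply, hj, if_false]
      split_ifs <;> simp)
    h₂ (by simp [f₂, g₂, h₂, one, hp, hXY])
    (fun j hj => by
      simp only [f₂, g₂, h₂, one, Function.update_apply, hj, if_false]
      split_ifs with a b c <;> simp_all [hp])
    ⟨p 1, by simp [h₂, hp, hX2]⟩
  have hX : X ∈ S2 F := by simp [S2, X]
  have hYS : Y ∈ S2 F := by simp [S2, Y]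
  have huK : u ∈ fixOp (S2 F) := by
    refine invo_mem_fixOp (by simp [S2]) h2 hX hX2 (fun Z hZ => ⟨Z 1 0, ?_⟩) (hp 0 1 (by decide)) hui hu
    have hZ' : Z 0 0 = Z 1 1 := hZ
    ext a b
    fin_cases a <;> fin_cases b <;>
      simp [X, Matrix.mul_apply, Matrix.vecMul, dotProduct, Matrix.vecHead, Matrix.vecTail, hZ'] <;>
      first | ring1 | (ring_nf; simp [h2])
  have huT : u ∉ Cfsg.Geo.tensorWreathStandard 2 (s + 4) F :=
    notMem_wreath (hp 0 1 (by decide)) (z := 0) (r := 1) (by decide)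
      (fun a => by fin_cases a <;> simp [X]) hu
  have hvK : v ∉ fixOp (S2 F) := by
    let y : Fin (s + 4) → Fin 2 := Function.update (Function.update (fun _ => 0) (p 1) 1) (p 2) 1
    refine notMem_fixOp hvi hv (i := p 0) (j := p 1) (m := p 2) (hp 1 2 (by decide)) (hp 0 2 (by decide))
      (by simp [h₂, hX2]) hYS (x := fun _ => 0) (y := y) (by simp [y, hp]) (by simp [y]) ?_
    simp only [tensP_apply, Equiv.Perm.one_apply]
    refine Finset.prod_ne_zero_iff.mpr fun l _ => ?_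
    rw [show h₂ (p 0) * Y + Y * h₂ (p 0) = 1 by simp [h₂, hp, hXY]]
    by_cases e2 : l = p 2
    · subst e2; simp [h₂, y, hp, X]
    by_cases e1 : l = p 1
    · subst e1; simp [h₂, y, hp, X]
    by_cases e0 : l = p 0
    · subst e0; simp [y, hp]
    simp [h₂, one, y, e0, e1, e2]
  exact ⟨_, model_between hM 0 (fun g _ _ _ Z hZ => S2_conj h2 g hZ) huO huK huT hvO hvK⟩

/-! ### Dimension four -/

/-- Alternating self-adjoint operators with scalar square. -/
def S4 (F : Type*) [Field F] : Set (Matrix (Fin 4) (Fin 4) F) :=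
  {Y | (J 4 F * Y)ᵀ = J 4 F * Y ∧ (∀ a, (J 4 F * Y) a a = 0) ∧ Y 0 0 = Y 1 1}

omit [Fintype F] in
theorem S4_entries {Y : Matrix (Fin 4) (Fin 4) F} (hs : (J 4 F * Y)ᵀ = J 4 F * Y) (hd : ∀ a, (J 4 F * Y) a a = 0) :
    (Y 3 3 = Y 0 0 ∧ Y 2 2 = Y 1 1 ∧ Y 2 3 = Y 0 1 ∧ Y 1 3 = Y 0 2 ∧ Y 3 2 = Y 1 0 ∧ Y 3 1 = Y 2 0) ∧
      (Y 0 3 = 0 ∧ Y 1 2 = 0 ∧ Y 2 1 = 0 ∧ Y 3 0 = 0) := by
  have e : ∀ a b : Fin 4, Y a.rev b = Y b.rev a := fun a b => by
    have := congrFun (congrFun hs b) a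
    rwa [Matrix.transpose_apply, J_mul_apply, J_mul_apply] at this
  have z : ∀ a : Fin 4, Y a.rev a = 0 := fun a => (J_mul_apply Y a a).symm.trans (hd a)
  exact ⟨⟨e 0 3, e 1 2, e 1 3, e 2 3, e 0 2, e 0 1⟩, ⟨z 3, z 2, z 1, z 0⟩⟩

omit [Fintype F] in
theorem congr_diag (h2 : (2 : F) = 0) (B M : Matrix (Fin 4) (Fin 4) F) (hs : Mᵀ = M) (hd : ∀ a, M a a = 0)
    (a : Fin 4) : (Bᵀ * M * B) a a = 0 := by
  have e : ∀ i j, M j i = M i j := fun i j => congrFun (congrFun hs i) j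
  simp [Matrix.mul_apply, Fin.sum_univ_four, Matrix.transpose_apply, hd, e 0 1, e 0 2, e 0 3, e 1 2, e 1 3, e 2 3]
  linear_combination (B 0 a * B 1 a * M 0 1 + B 0 a * B 2 a * M 0 2 + B 0 a * B 3 a * M 0 3 +
    B 1 a * B 2 a * M 1 2 + B 1 a * B 3 a * M 1 3 + B 2 a * B 3 a * M 2 3) * h2

omit [Fintype F] in
theorem S4_conj (h2 : (2 : F) = 0) (g : GL (Fin 4) F) (d : F) (hd0 : d ≠ 0)
    (hg : g.1ᵀ * J 4 F * g.1 = d • J 4 F) {Y : Matrix (Fin 4) (Fin 4) F} (hY : Y ∈ S4 F) :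
    g.1 * Y * g⁻¹.1 ∈ S4 F := by
  obtain ⟨hs, hd, h01⟩ := hY
  set Z := g.1 * Y * g⁻¹.1 with hZ
  have hJg : J 4 F * g.1 = d • (g⁻¹.1ᵀ * J 4 F) := by
    rw [← Matrix.mul_smul, ← hg, ← mul_assoc, ← mul_assoc, ← Matrix.transpose_mul, Units.mul_inv,
      Matrix.transpose_one, one_mul]
  have hJZ : J 4 F * Z = d • (g⁻¹.1ᵀ * (J 4 F * Y) * g⁻¹.1) := by
    rw [hZ, ← mul_assoc, ← mul_assoc, hJg, Matrix.smul_mul, Matrix.smul_mul]
    simp only [Matrix.mul_assoc]
  have hZs : (J 4 F * Z)ᵀ = J 4 F * Z := by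
    rw [hJZ, Matrix.transpose_smul, Matrix.transpose_mul, Matrix.transpose_mul, Matrix.transpose_transpose, hs]
    simp only [Matrix.mul_assoc]
  have hZd : ∀ a, (J 4 F * Z) a a = 0 := fun a => by
    rw [hJZ, Matrix.smul_apply, congr_diag h2 _ _ hs hd, smul_zero]
  refine ⟨hZs, hZd, ?_⟩
  obtain ⟨⟨y33, y22, y23, y13, y32, y31⟩, y03, y12, y21, y30⟩ := S4_entries hs hd
  obtain ⟨⟨z33, z22, z23, z13, z32, z31⟩, z03, z12, z21, z30⟩ := S4_entries hZs hZd
  have hY2 : Y * Y = (Y 1 1 * Y 1 1 + Y 0 1 * Y 1 0 + Y 0 2 * Y 2 0) • (1 : Matrix (Fin 4) (Fin 4) F) := by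
    ext a b
    fin_cases a <;> fin_cases b <;>
      simp [Matrix.mul_apply, Fin.sum_univ_four, y33, y22, y23, y13, y32, y31, y03, y12, y21, y30, h01] <;>
      first | ring1 | (ring_nf; simp [h2])
  have hZ2 : Z * Z = g.1 * (Y * Y) * g⁻¹.1 := by
    rw [hZ]
    simp only [mul_assoc, Units.inv_mul_cancel_left]
  rw [hY2, Matrix.mul_smul, Matrix.smul_mul, mul_one, Units.mul_inv] at hZ2
  have e0 := congrFun (congrFun hZ2 0) 0
  have e1 := congrFun (congrFun hZ2 1) 1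
  simp [Matrix.mul_apply, Fin.sum_univ_four, z33, z22, z23, z13, z32, z31, z03, z12, z21, z30] at e0 e1
  have hsq : (Z 0 0 - Z 1 1) ^ 2 = 0 := by
    linear_combination e0 - e1 + (Z 1 1 * Z 1 1 - Z 0 0 * Z 1 1) * h2
  exact sub_eq_zero.mp (pow_eq_zero_iff (n := 2) (by norm_num) |>.mp hsq)

theorem between_four {Q : QuadraticForm F ((Fin t → Fin 4) → F)} (hM : Model Q c) (ht : 2 ≤ t) :
    ∃ K, Cfsg.Geo.tensorWreathStandard 4 t F ⊓ Cfsg.Geo.omegaGL ⇑Q < K ∧ K < Cfsg.Geo.omegaGL ⇑Q := by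
  obtain ⟨s, rfl⟩ : ∃ s, t = s + 2 := ⟨t - 2, by omega⟩
  have h2 := hM.two
  let A : Matrix (Fin 4) (Fin 4) F := !![0, 0, 1, 0; 0, 0, 0, 1; 0, 0, 0, 0; 0, 0, 0, 0]
  let A' : Matrix (Fin 4) (Fin 4) F := !![0, 1, 0, 0; 0, 0, 0, 0; 0, 0, 0, 1; 0, 0, 0, 0]
  let D : Matrix (Fin 4) (Fin 4) F := !![0, 0, 0, 0; 0, 0, 1, 0; 0, 0, 0, 0; 0, 0, 0, 0]
  let C : Matrix (Fin 4) (Fin 4) F := !![0, 0, 0, 1; 0, 0, 0, 0; 0, 0, 0, 0; 0, 0, 0, 0]
  let Y : Matrix (Fin 4) (Fin 4) F := !![0, 0, 0, 0; 0, 0, 0, 0; 1, 0, 0, 0; 0, 1, 0, 0]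
  have hA2 : A * A = 0 := by ext a b; fin_cases a <;> fin_cases b <;> simp [A, Matrix.mul_apply, Fin.sum_univ_four]
  have hA'2 : A' * A' = 0 := by
    ext a b; fin_cases a <;> fin_cases b <;> simp [A', Matrix.mul_apply, Fin.sum_univ_four]
  have hC2 : C * C = 0 := by ext a b; fin_cases a <;> fin_cases b <;> simp [C, Matrix.mul_apply, Fin.sum_univ_four]
  have hD2 : D * D = 0 := by ext a b; fin_cases a <;> fin_cases b <;> simp [D, Matrix.mul_apply, Fin.sum_univ_four]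
  have hDAD : D * A' * D = 0 := by
    ext a b; fin_cases a <;> fin_cases b <;> simp [A', D, Matrix.mul_apply, Fin.sum_univ_four]
  have hAD : A' * D + D * A' = A := by
    ext a b; fin_cases a <;> fin_cases b <;> simp [A, A', D, Matrix.mul_apply, Fin.sum_univ_four]
  have hJA : (J 4 F * A)ᵀ = J 4 F * A := by
    ext a b; fin_cases a <;> fin_cases b <;> simp [J_mul_apply, A]
  have hJA' : (J 4 F * A')ᵀ = J 4 F * A' := by
    ext a b; fin_cases a <;> fin_cases b <;> simp [J_mul_apply, A']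
  have hJC : (J 4 F * C)ᵀ = J 4 F * C := by
    ext a b; fin_cases a <;> fin_cases b <;> simp [J_mul_apply, C]
  have hJD : (J 4 F * D)ᵀ = J 4 F * D := by
    ext a b; fin_cases a <;> fin_cases b <;> simp [J_mul_apply, D]
  have hJ1 : (J 4 F * (1 : Matrix (Fin 4) (Fin 4) F))ᵀ = J 4 F * (1 : Matrix (Fin 4) (Fin 4) F) := by
    rw [mul_one]; ext a b; fin_cases a <;> fin_cases b <;> simp [J, Fin.ext_iff, Fin.val_rev]
  have hd1 : ∀ a : Fin 4, (J 4 F * (1 : Matrix (Fin 4) (Fin 4) F)) a a = 0 := by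
    rw [mul_one]; intro a; fin_cases a <;> simp [J, Fin.ext_iff, Fin.val_rev]
  have hdA' : ∀ a : Fin 4, (J 4 F * A') a a = 0 := by
    intro a; fin_cases a <;> simp [J_mul_apply, A']
  let p : Fin 2 → Fin (s + 2) := fun a => ⟨a.1, by omega⟩
  have hp : ∀ a b : Fin 2, a ≠ b → p a ≠ p b := fun a b h e => h (Fin.ext (congrArg (fun x : Fin (s + 2) => x.1) e))
  let one : Fin (s + 2) → Matrix (Fin 4) (Fin 4) F := fun _ => 1
  have build : ∀ B : Matrix (Fin 4) (Fin 4) F, B * B = 0 → (J 4 F * B)ᵀ = J 4 F * B →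
      ∃ u : GL (Fin (s + 2) → Fin 4) F, u ∈ Cfsg.Geo.omegaGL ⇑Q ∧ u⁻¹.1 = u.1 ∧
        u.1 = 1 + tens (Function.update (Function.update one (p 0) B) (p 1) A) := by
    intro B hB2 hJB
    refine anti_mem hM (Function.update (Function.update one (p 0) B) (p 1) A') (Function.update one (p 1) D)
      (p 0) (p 1) (p 1) (p 1) (p 0) (by simp [hp, hB2]) (by simp [hD2]) ⟨p 0, by simp [one, hp, hB2]⟩
      ⟨p 1, by simp [hDAD]⟩
      (fun j => by simp only [one, Function.update_apply]; split_ifs <;> assumption)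
      (fun j => by simp only [one, Function.update_apply]; split_ifs <;> assumption)
      (by simpa using hdA') (by simpa [one, hp] using hd1)
      (fun j hj => by simp [one, hj]) _ (by simp [hAD])
      (fun j hj => by simp [one, hj]) ⟨p 1, by simp [hA2]⟩
  obtain ⟨u, huO, hui, hu⟩ := build A hA2 hJA
  obtain ⟨v, hvO, hvi, hv⟩ := build C hC2 hJC
  have hone : (1 : Matrix (Fin 4) (Fin 4) F) ∈ S4 F := ⟨hJ1, hd1, by simp⟩
  have hA : A ∈ S4 F := ⟨hJA, fun a => by fin_cases a <;> simp [J_mul_apply, A], by simp [A]⟩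
  have hYS : Y ∈ S4 F := ⟨by ext a b; fin_cases a <;> fin_cases b <;> simp [J_mul_apply, Y],
    fun a => by fin_cases a <;> simp [J_mul_apply, Y], by simp [Y]⟩
  have huK : u ∈ fixOp (S4 F) := by
    refine invo_mem_fixOp hone h2 hA hA2 (fun Z hZ => ⟨Z 2 0, ?_⟩) (hp 0 1 (by decide)) hui hu
    obtain ⟨hs, hd, h01⟩ := hZ
    obtain ⟨⟨y33, y22, y23, y13, y32, y31⟩, y03, y12, y21, y30⟩ := S4_entries hs hd
    ext a b
    fin_cases a <;> fin_cases b <;>
      simp [A, Matrix.mul_apply, Matrix.vecMul, dotProduct, Matrix.vecHead, Matrix.vecTail, Fin.sum_univ_four, y33, y22,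
        y23, y13, y32, y31, y03, y12, y21, y30, h01] <;>
      first | ring1 | (ring_nf; simp [h2])
  have huT : u ∉ Cfsg.Geo.tensorWreathStandard 4 (s + 2) F :=
    notMem_wreath (hp 0 1 (by decide)) (z := 0) (r := 2) (by decide)
      (fun a => by fin_cases a <;> simp [A]) hu
  have hCY : C * Y + Y * C = A' := by
    ext a b; fin_cases a <;> fin_cases b <;> simp [A', C, Y, Matrix.mul_apply, Fin.sum_univ_four]
  have hvK : v ∉ fixOp (S4 F) := by
    let y : Fin (s + 2) → Fin 4 := Function.update (Function.update (fun _ => 0) (p 0) 1) (p 1) 2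
    refine notMem_fixOp hvi hv (i := p 0) (j := p 0) (m := p 1) (hp 0 1 (by decide)) (hp 0 1 (by decide))
      (by simp [hA2]) hYS (x := fun _ => 0) (y := y) (by simp [y, hp]) (by simp [y]) ?_
    simp only [tensP_apply, Equiv.Perm.one_apply]
    refine Finset.prod_ne_zero_iff.mpr fun l _ => ?_
    rw [show (Function.update (Function.update one (p 0) C) (p 1) A) (p 0) * Y +
      Y * (Function.update (Function.update one (p 0) C) (p 1) A) (p 0) = A' by simp [hp, hCY]]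
    simp only [one, y, Function.update_apply]
    split_ifs <;> simp_all [hp, A, A']
  exact ⟨_, model_between hM 0 (fun g d hd0 hg Z hZ => S4_conj h2 g d hd0 hg hZ) huO huK huT hvO hvK⟩

/-! ### Reduction to the model -/

omit [Fintype F] in
theorem tens_mulVec (f : Fin t → Matrix (Fin k) (Fin k) F) (xs : Fin t → Fin k → F) :
    tens f *ᵥ (fun a => ∏ i, xs i (a i)) = fun a => ∏ i, (f i *ᵥ xs i) (a i) := by
  funext a
  simp only [Matrix.mulVec, dotProduct, tensP_apply, Equiv.Perm.one_apply, ← Finset.prod_mul_distrib]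
  rw [Fintype.prod_sum]

omit [Fintype F] in
/-- A symplectic basis puts the form in antidiagonal shape. -/
theorem exists_basis (h2 : (2 : F) = 0) {f : (Fin k → F) → (Fin k → F) → F} (hf : Cfsg.Geo.IsSymplecticForm f) :
    Even k ∧ ∃ B : GL (Fin k) F, B.1ᵀ * Cfsg.Geo.gramMatrix f * B.1 = J k F := by
  obtain ⟨⟨hal, hsl, har, hsr⟩, hskew, halt, hnd⟩ := hf
  let β : LinearMap.BilinForm F (Fin k → F) :=
    LinearMap.mk₂ F f hal (fun a x v => by rw [hsl, smul_eq_mul]) har (fun a x v => by rw [hsr, smul_eq_mul])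
  obtain ⟨m, r, b, hlr, hll, hrr, hrad⟩ := Cfsg.Agent.Lib.Geometry.exists_sympBasis β (fun v => halt v)
  have hr : r = 0 := by
    by_contra h
    obtain ⟨x, hx⟩ := (hnd _ (b.ne_zero (Sum.inr ⟨0, Nat.pos_of_ne_zero h⟩))).2
    exact hx (hrad _ x)
  subst hr
  have hk : k = m + m := by
    have h := Module.finrank_eq_card_basis b
    simpa using h
  subst hk
  refine ⟨⟨m, rfl⟩, ?_⟩
  let idx : Fin (m + m) → (Fin m ⊕ Fin m) ⊕ Fin 0 := fun a =>
    if h : a.1 < m then Sum.inl (Sum.inl ⟨a.1, h⟩) else Sum.inl (Sum.inr ⟨m + m - 1 - a.1, by omega⟩)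
  let M : Matrix (Fin (m + m)) (Fin (m + m)) F := Matrix.of fun a j => b (idx j) a
  have hG : Mᵀ * Cfsg.Geo.gramMatrix f * M = J (m + m) F := by
    have hβ : LinearMap.BilinForm.toMatrix' β = Cfsg.Geo.gramMatrix f := Matrix.ext fun i j => rfl
    have hcol : ∀ j, Matrix.toLin' M (Pi.single j 1) = b (idx j) := fun j => by
      funext a
      simp [M, Matrix.toLin'_apply]
    rw [← hβ, show M = LinearMap.toMatrix' (Matrix.toLin' M) by simp]
    rw [← LinearMap.BilinForm.toMatrix'_comp]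
    ext i j
    rw [LinearMap.BilinForm.toMatrix'_apply]
    simp only [LinearMap.BilinForm.comp_apply, Matrix.toLin'_toMatrix', LinearMap.toMatrix'_toLin']
    rw [hcol, hcol]
    have hrl : ∀ a c, β (b (Sum.inl (Sum.inr a))) (b (Sum.inl (Sum.inl c))) = if c = a then 1 else 0 := fun a c => by
      rw [← hlr]
      show f _ _ = f _ _
      rw [hskew]
      linear_combination -(f (b (Sum.inl (Sum.inl c))) (b (Sum.inl (Sum.inr a)))) * h2
    have hrev : (j = i.rev) ↔ j.1 = m + m - 1 - i.1 := by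
      rw [Fin.ext_iff, Fin.val_rev]; omega
    simp only [idx, J, Matrix.of_apply, hrev]
    split_ifs with hi hj hj hj hj <;> simp only [hll, hrr, hlr, hrl, Fin.ext_iff] <;> (try split_ifs) <;>
      first | rfl | omega
  have hdet : IsUnit M := by
    rw [Matrix.isUnit_iff_isUnit_det, isUnit_iff_ne_zero]
    intro h0
    have h := congrArg Matrix.det hG
    rw [det_mul, det_mul, Matrix.det_transpose, h0, zero_mul, zero_mul] at h
    have h1 := congrArg Matrix.det (J_sq (k := m + m) (F := F))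
    rw [det_mul, ← h, zero_mul, det_one] at h1
    exact zero_ne_one h1
  exact ⟨hdet.unit, hG⟩

/-- The stabiliser of a tensor power of a small symplectic space is not maximal in characteristic two. -/
theorem tensor_spin_not_maximal {n : ℕ} (hn : 13 ≤ n) (Q : (Fin n → F) → F)
    (hQ : Cfsg.Geo.IsNondegenerateQuadraticForm Q) (hchar : ¬ Odd (Fintype.card F)) (k t : ℕ) (hk : k ≤ 4)
    (e : Fin n ≃ (Fin t → Fin k)) (P : GL (Fin n) F) (f₁ : (Fin k → F) → (Fin k → F) → F)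
    (hf₁ : Cfsg.Geo.IsSymplecticForm f₁) (hT : Cfsg.Geo.IsTensorPowerFormStructure id (QuadraticMap.polar Q) f₁ e P)
    (hpure : ∀ xs : Fin t → (Fin k → F),
      Q (Matrix.mulVec (P : Matrix (Fin n) (Fin n) F) ((fun a : Fin t → Fin k => ∏ i, xs i (a i)) ∘ e)) = 0) :
    ∃ K : Subgroup (GL (Fin n) F), Cfsg.Geo.tensorWreathSubgroup k t e P ⊓ Cfsg.Geo.omegaGL Q < K ∧
      K < Cfsg.Geo.omegaGL Q := by
  have h2 : (2 : F) = 0 := by
    obtain ⟨p, hp⟩ := CharP.exists F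
    obtain ⟨e', hp', he⟩ := FiniteField.card F p
    by_contra h
    refine hchar ?_
    rw [he]
    refine Odd.pow (hp'.odd_of_ne_two ?_)
    rintro rfl
    exact h (by exact_mod_cast (CharP.cast_eq_zero F 2))
  obtain ⟨⟨l, hl⟩, B, hB⟩ := exists_basis h2 hf₁
  have hcard : n = k ^ t := by simpa using Fintype.card_congr e
  obtain ⟨Q₁, rfl, -⟩ := Cfsg.Agent.Lib.MaxSub.Orth.exists_quadraticForm hQ
  obtain ⟨c, hc0, hc⟩ := hT
  let T : GL (Fin t → Fin k) F := ⟨tens (fun _ => B.1), tens (fun _ => B⁻¹.1),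
    by rw [tens_mul]; simp [tens_one], by rw [tens_mul]; simp [tens_one]⟩
  have hTmem : T ∈ Cfsg.Geo.tensorWreathStandard k t F :=
    Subgroup.subset_closure (Or.inl ⟨fun _ => B, fun x y => rfl⟩)
  let P' : GL (Fin n) F := P * Cfsg.Geo.glReindex e.symm T
  let ψ : GL (Fin t → Fin k) F →* GL (Fin n) F :=
    (MulAut.conj P').toMonoidHom.comp (Cfsg.Geo.glReindex e.symm).toMonoidHom
  have hψinj : Function.Injective ψ := (MulAut.conj P').injective.comp (Cfsg.Geo.glReindex e.symm).injective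
  have hwr : (Cfsg.Geo.tensorWreathStandard k t F).map ψ = Cfsg.Geo.tensorWreathSubgroup k t e P := by
    rw [Cfsg.Geo.tensorWreathSubgroup, Subgroup.map_map]
    ext x
    simp only [Subgroup.mem_map, ψ, MonoidHom.comp_apply, MulEquiv.coe_toMonoidHom, MulAut.conj_apply, P']
    constructor
    · rintro ⟨a, ha, rfl⟩
      exact ⟨T * a * T⁻¹, mul_mem (mul_mem hTmem ha) (inv_mem hTmem), by simp [mul_assoc]⟩
    · rintro ⟨a, ha, rfl⟩
      exact ⟨T⁻¹ * a * T, mul_mem (mul_mem (inv_mem hTmem) ha) hTmem, by simp [mul_assoc]⟩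
  let L : ((Fin t → Fin k) → F) →ₗ[F] (Fin n → F) := (Matrix.mulVecLin P'.1).comp (LinearMap.funLeft F F e)
  have hLapp : ∀ v, L v = P.1 *ᵥ ((T.1 *ᵥ v) ∘ e) := fun v => by
    show (P.1 * (Cfsg.Geo.glReindex e.symm T).1) *ᵥ (v ∘ e) = _
    rw [← Matrix.mulVec_mulVec]
    congr 1
    show (T.1.submatrix e e) *ᵥ (v ∘ e) = _
    rw [Matrix.submatrix_mulVec_equiv]
    simp [Function.comp_assoc]
  have hLsurj : Function.Surjective L := fun v => ⟨(P'⁻¹.1 *ᵥ v) ∘ e.symm, by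
    show P'.1 *ᵥ (((P'⁻¹.1 *ᵥ v) ∘ e.symm) ∘ e) = v
    simp [Function.comp_assoc, Matrix.mulVec_mulVec]⟩
  have hψL : ∀ g v, (ψ g).1 *ᵥ L v = L (g.1 *ᵥ v) := fun g v => by
    show (P'.1 * (g.1.submatrix e e) * P'⁻¹.1) *ᵥ (P'.1 *ᵥ (v ∘ e)) = P'.1 *ᵥ ((g.1 *ᵥ v) ∘ e)
    rw [Matrix.mulVec_mulVec, Units.inv_mul_cancel_right, ← Matrix.mulVec_mulVec, Matrix.submatrix_mulVec_equiv]
    simp [Function.comp_assoc]
  let Qs : QuadraticForm F ((Fin t → Fin k) → F) := Q₁.comp L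
  have hM : Model Qs c := by
    refine ⟨h2, hc0, fun x y => ?_, fun xs => ?_⟩
    · show QuadraticMap.polar (⇑Q₁ ∘ L) x y = _
      rw [show QuadraticMap.polar (⇑Q₁ ∘ L) x y = QuadraticMap.polar Q₁ (L x) (L y) by
        simp [QuadraticMap.polar, map_add], hLapp, hLapp, hc]
      congr 1
      have e1 : (tens (fun _ : Fin t => J k F)) =
          T.1ᵀ * tens (fun _ => Cfsg.Geo.gramMatrix f₁) * T.1 := by
        show _ = (tens _)ᵀ * _ * tens _
        rw [tens, tensP_transpose, inv_one, tens_mul, tens_mul]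
        congr 1
        funext i
        exact hB.symm
      rw [e1, ← Matrix.mulVec_mulVec, ← Matrix.mulVec_mulVec, Matrix.dotProduct_mulVec, Matrix.vecMul_transpose]
      simp only [dotProduct, Matrix.mulVec, Finset.mul_sum, tensP_apply, Equiv.Perm.one_apply, id_eq, mul_assoc]
    · show Q₁ (L _) = 0
      rw [hLapp]
      show Q₁ (P.1 *ᵥ ((tens (fun _ => B.1) *ᵥ _) ∘ e)) = 0
      rw [tens_mulVec]
      exact hpure _
  have hiso : Cfsg.isometryGroup F ⇑Q₁ = (Cfsg.isometryGroup F ⇑Qs).map ψ := by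
    ext x
    constructor
    · intro hx
      refine ⟨(Cfsg.Geo.glReindex e.symm).symm (P'⁻¹ * x * P'), fun u v => ?_, by simp [ψ, mul_assoc]⟩
      show Q₁ (L (((Cfsg.Geo.glReindex e.symm).symm (P'⁻¹ * x * P')).1 *ᵥ u)) = Q₁ (L u)
      rw [← hψL, show ψ ((Cfsg.Geo.glReindex e.symm).symm (P'⁻¹ * x * P')) = x by simp [ψ, mul_assoc]]
      exact hx (L u) (L u)
    · rintro ⟨g, hg, rfl⟩ u v
      obtain ⟨u, rfl⟩ := hLsurj u
      show Q₁ ((ψ g).1 *ᵥ L u) = Q₁ (L u)
      rw [hψL]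
      exact hg u u
  have homega : Cfsg.Geo.omegaGL ⇑Q₁ = (Cfsg.Geo.omegaGL ⇑Qs).map ψ := by
    show (commutator _).map _ = ((commutator _).map _).map ψ
    rw [Subgroup.map_subtype_commutator, Subgroup.map_subtype_commutator, hiso, Subgroup.map_commutator]
  have hmain : ∃ K, Cfsg.Geo.tensorWreathStandard k t F ⊓ Cfsg.Geo.omegaGL ⇑Qs < K ∧
      K < Cfsg.Geo.omegaGL ⇑Qs := by
    obtain rfl | rfl | rfl : k = 0 ∨ k = 2 ∨ k = 4 := by omega
    · rcases Nat.eq_zero_or_pos t with rfl | ht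
      · norm_num at hcard; omega
      · rw [Nat.zero_pow ht] at hcard; omega
    · refine between_two hM ?_
      by_contra h
      have := Nat.pow_le_pow_right (show 0 < 2 by norm_num) (show t ≤ 3 by omega)
      omega
    · refine between_four hM ?_
      by_contra h
      have := Nat.pow_le_pow_right (show 0 < 4 by norm_num) (show t ≤ 1 by omega)
      omega
  obtain ⟨K, hlt, hlt'⟩ := hmain
  refine ⟨K.map ψ, ?_, ?_⟩
  · rw [← hwr, homega, ← Subgroup.map_inf _ _ ψ hψinj]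
    exact Subgroup.map_lt_map_iff_of_injective hψinj |>.mpr hlt
  · rw [homega]
    exact Subgroup.map_lt_map_iff_of_injective hψinj |>.mpr hlt'

end Cfsg.Agent.Lib.Geometry.TensorSpin
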