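import Cfsg.Agent.Lib.Geometry.UFourTwoTables
import Cfsg.Agent.Lib.Classical.HermCard
import Cfsg.Agent.Lib.Classical.SympCard
import Cfsg.Agent.Lib.Geometry.SympAutCount

/-!
`PSU₄(2) ≅ PSp₄(3)`: a symplectic map and a unitary map correspond when they permute the forty points in the same way.
-/

set_option autoImplicit false
set_option maxHeartbeats 400000

namespace Cfsg.Agent.Lib.Geometry.UFourTwo

open Matrix
open Cfsg.Agent.Lib.Classical

section model

variable {F : Type*} [Field F]

/-- The model field inside `F`. -/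
def emb (w : F) (a : Fin 4) : F := ![0, 1, w, w + 1] a

theorem emb_add (h2 : (2 : F) = 0) (w : F) (a b : Fin 4) : emb w (add4 a b) = emb w a + emb w b := by
  fin_cases a <;> fin_cases b <;> simp [emb, add4] <;>
    first
    | ring1
    | linear_combination h2
    | linear_combination -h2
    | linear_combination w * h2
    | linear_combination (-w) * h2
    | linear_combination (w + 1) * h2
    | linear_combination (-w - 1) * h2

theorem emb_mul (h2 : (2 : F) = 0) {w : F} (hw : w * w + w + 1 = 0) (a b : Fin 4) :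
    emb w (mul4 a b) = emb w a * emb w b := by
  fin_cases a <;> fin_cases b <;> simp [emb, mul4] <;>
    first
    | ring1
    | linear_combination hw
    | linear_combination -hw
    | linear_combination -hw + (w + 1) * h2
    | linear_combination hw - (w + 1) * h2
    | linear_combination -hw + h2
    | linear_combination hw - h2
    | linear_combination -hw + w * h2
    | linear_combination hw - w * h2

theorem emb_sum (h2 : (2 : F) = 0) (w : F) (f : Fin 4 → Fin 4) : emb w (sum4 f) = ∑ i, emb w (f i) := by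
  rw [Fin.sum_univ_four, sum4, emb_add h2, emb_add h2, emb_add h2]
  ring

theorem emb_zero (w : F) : emb w 0 = 0 := rfl

theorem emb_one (w : F) : emb w 1 = 1 := rfl

theorem emb_injective (h2 : (2 : F) = 0) {w : F} (hw : w * w + w + 1 = 0) : Function.Injective (emb w) := by
  have hw0 : w ≠ 0 := fun e => by rw [e] at hw; simp at hw
  have hw1 : w + 1 ≠ 0 := fun e => one_ne_zero (α := F) (by linear_combination hw - w * e)
  have hne : w ≠ 1 := fun e => hw1 (by linear_combination e + h2)
  have hnz : ∀ c : Fin 4, emb w c = 0 → c = 0 := fun c hc => by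
    fin_cases c
    · rfl
    · exact absurd hc one_ne_zero
    · exact absurd hc hw0
    · exact absurd hc hw1
  have hadd : ∀ a b : Fin 4, add4 a b = 0 → a = b := by decide
  intro a b h
  refine hadd a b (hnz _ ?_)
  rw [emb_add h2, h]
  linear_combination (emb w b) * h2

theorem emb_surjective [Fintype F] (hF : Fintype.card F = 4) (h2 : (2 : F) = 0) {w : F} (hw : w * w + w + 1 = 0) :
    Function.Surjective (emb w) :=
  ((Fintype.bijective_iff_injective_and_card _).mpr ⟨emb_injective h2 hw, by simp [hF]⟩).2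

theorem exists_omega [Fintype F] (hF : Fintype.card F = 4) : (2 : F) = 0 ∧ ∃ w : F, w * w + w + 1 = 0 := by
  classical
  have h2 : (2 : F) = 0 := by
    have h := FiniteField.cast_card_eq_zero F
    rw [hF] at h
    exact mul_self_eq_zero.mp (by push_cast at h; linear_combination h)
  obtain ⟨w, hw⟩ : ∃ w : F, w ∉ ({0, 1} : Finset F) := by
    by_contra hcon
    push Not at hcon
    have h := Finset.card_le_card (fun x (_ : x ∈ Finset.univ) => hcon x : (Finset.univ : Finset F) ⊆ {0, 1})
    rw [Finset.card_univ, hF] at h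
    have := h.trans Finset.card_le_two
    omega
  simp only [Finset.mem_insert, Finset.mem_singleton, not_or] at hw
  refine ⟨h2, w, ?_⟩
  have h := FiniteField.pow_card_sub_one_eq_one w hw.1
  rw [hF] at h
  exact (mul_eq_zero.mp (show (w - 1) * (w * w + w + 1) = 0 by linear_combination h)).resolve_left
    (sub_ne_zero.mpr hw.2)

end model

variable {F K : Type*} [Field F] [Fintype F] [Field K] [Fintype K]

/-- The unitary point. -/
def vecU (w : F) (k : Fin 40) : Fin 4 → F := fun i => emb w (ptA k i)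

/-- The symplectic point. -/
def vecS (e : ZMod 3 →+* K) (k : Fin 40) : Fin 2 ⊕ Fin 2 → K := fun i => e (ptB k i)

section unitary

variable (hF : Fintype.card F = 4) (h2 : (2 : F) = 0) {w : F} (hw : w * w + w + 1 = 0)

include hF h2 hw

omit hF in
theorem refl_matrix (k : Fin 40) : (Matrix.of fun i j => emb w (refl4 k i j)) =
    w • ((1 : Matrix (Fin 4) (Fin 4) F) + Matrix.replicateCol Unit (fun i => w * vecU w k i) *
      Matrix.replicateRow Unit (fun j => vecU w k j * vecU w k j)) := by
  ext i j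
  simp only [Matrix.of_apply, refl4, emb_add h2, Matrix.smul_apply, Matrix.add_apply, Matrix.mul_apply,
    Fintype.univ_unit, Finset.sum_singleton, Matrix.replicateCol_apply, Matrix.replicateRow_apply, vecU, emb_mul h2 hw,
    Matrix.one_apply, smul_eq_mul]
  have h3 : emb w 3 = w * w := by
    show w + 1 = w * w
    linear_combination -hw + (w + 1) * h2
  rw [h3]
  by_cases h : i = j
  · rw [if_pos h, if_pos h]
    show w + _ = _
    ring
  · rw [if_neg h, if_neg h, emb_zero]
    ring

omit hF in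
theorem det_refl (k : Fin 40) : (Matrix.of fun i j => emb w (refl4 k i j)).det = 1 := by
  rw [refl_matrix h2 hw, det_smul, det_one_add_replicateCol_mul_replicateRow, Fintype.card_fin, dotProduct]
  have hn := congrArg (emb w) (norm_ptA k)
  rw [emb_sum h2, emb_one] at hn
  simp only [emb_mul h2 hw] at hn
  have hsum : ∑ i, vecU w k i * vecU w k i * (w * vecU w k i) = w := by
    rw [show ∑ i, vecU w k i * vecU w k i * (w * vecU w k i) =
      w * ∑ i, emb w (ptA k i) * (emb w (ptA k i) * emb w (ptA k i)) by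
        rw [Finset.mul_sum]; exact Finset.sum_congr rfl fun i _ => by simp only [vecU]; ring, hn, mul_one]
  rw [hsum]
  linear_combination (w ^ 3 - w + 1) * hw - h2

omit h2 hw in
theorem card_SU_four : Nat.card (Cfsg.SU 4 F 2) = 25920 := by
  have h := card_SU (F := F) (q := 2) (by rw [hF]; rfl) (n := 4) (by norm_num)
  rw [card_GU (by rw [hF]; rfl)] at h
  simp [Finset.prod_range_succ, Nat.even_add_one] at h
  omega

omit h2 hw in
theorem center_SU_four : Subgroup.center (Cfsg.SU 4 F 2) = ⊥ := by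
  rw [← Subgroup.card_eq_one, card_center_SU (by rw [hF]; rfl) (by norm_num)]
  rfl

/-- The reflection as an element of `SU₄(2)`. -/
noncomputable def reflU (k : Fin 40) : Cfsg.SU 4 F 2 :=
  ⟨⟨Matrix.of fun i j => emb w (refl4 k i j), det_refl h2 hw k⟩, by
    refine (mem_SU_iff (show Fintype.card F = 2 ^ 2 by rw [hF]; rfl) _).mpr ?_
    ext j l
    have hu := congrArg (emb w) (unitary_refl k j l)
    rw [emb_sum h2, apply_ite (emb w), emb_one, emb_zero] at hu
    simp only [emb_mul h2 hw] at hu
    rw [Matrix.mul_apply, Matrix.one_apply, ← hu]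
    refine Finset.sum_congr rfl fun i _ => ?_
    simp [Matrix.map_apply, conjHom_apply, pow_two]⟩

omit hF in
theorem act_reflU (k u : Fin 40) : ∃ c : F, (Matrix.of fun i j => emb w (refl4 k i j)) *ᵥ vecU w u =
    c • vecU w (sig k u) := by
  obtain ⟨c, hc⟩ := act_refl k u
  refine ⟨emb w c, funext fun i => ?_⟩
  have h := congrArg (emb w) (hc i)
  rw [emb_sum h2] at h
  simp only [emb_mul h2 hw] at h
  simpa [Matrix.mulVec, dotProduct, vecU] using h

theorem fix_lines_SU {U : Cfsg.SU 4 F 2}
    (h : ∀ u, ∃ c : F, (U.1 : Matrix (Fin 4) (Fin 4) F) *ᵥ vecU w u = c • vecU w u) : U = 1 := by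
  set M := (U.1 : Matrix (Fin 4) (Fin 4) F) with hM
  have hoff : ∀ i j, i ≠ j → M i j = 0 := by
    intro i j hij
    obtain ⟨k, hk⟩ := ptA_unit j
    obtain ⟨c, hc⟩ := h k
    have hvec : vecU w k = Pi.single j 1 := funext fun l => by
      rw [vecU, hk, apply_ite (emb w), emb_one, emb_zero, Pi.single_apply]
    rw [hvec] at hc
    have := congrFun hc i
    simpa [Matrix.mulVec, dotProduct, Pi.single_apply, hij] using this
  have hdiag : ∀ (k : Fin 40) (i j : Fin 4), ptA k i = 1 → ptA k j = 1 → M i i = M j j := by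
    intro k i j hi hj
    obtain ⟨c, hc⟩ := h k
    have key : ∀ l, ptA k l = 1 → M l l = c := fun l hl => by
      have := congrFun hc l
      rw [Matrix.mulVec, dotProduct, Finset.sum_eq_single l (fun b _ hb => by rw [hoff l b hb.symm, zero_mul])
        (fun h => absurd (Finset.mem_univ l) h)] at this
      simpa [vecU, hl, emb_one] using this
    rw [key i hi, key j hj]
  obtain ⟨⟨k₁, hk₁⟩, k₂, hk₂⟩ := ptA_three
  have h01 : M 1 1 = M 0 0 := hdiag k₁ 1 0 (by rw [hk₁]; rfl) (by rw [hk₁]; rfl)
  have h02 : M 2 2 = M 0 0 := hdiag k₁ 2 0 (by rw [hk₁]; rfl) (by rw [hk₁]; rfl)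
  have h03 : M 3 3 = M 0 0 := (hdiag k₂ 3 2 (by rw [hk₂]; rfl) (by rw [hk₂]; rfl)).trans h02
  have hMs : M = M 0 0 • (1 : Matrix (Fin 4) (Fin 4) F) := by
    ext i j
    by_cases hij : i = j
    · subst hij
      fin_cases i <;> simp [h01, h02, h03]
    · simp [hoff i j hij, Matrix.one_apply_ne hij]
  have hdet := U.1.2
  rw [← hM, hMs, det_smul, det_one, mul_one, Fintype.card_fin] at hdet
  have hc := FiniteField.pow_card (M 0 0)
  rw [hF, hdet] at hc
  refine Subtype.ext (Subtype.ext ?_)
  show M = 1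
  rw [hMs, ← hc, one_smul]

omit hF in
theorem vecU_distinct {u v : Fin 40} {c : F} [Fintype F] (hF : Fintype.card F = 4)
    (h : vecU w u = c • vecU w v) : u = v := by
  obtain ⟨a, rfl⟩ := emb_surjective hF h2 hw c
  refine ptA_distinct u v ⟨a, fun i => emb_injective h2 hw ?_⟩
  rw [emb_mul h2 hw]
  exact congrFun h i

end unitary

section symplectic

variable (e : ZMod 3 →+* K) (he : Function.Surjective e)

omit [Fintype K] in
theorem vecS_distinct (e : ZMod 3 →+* K) (he : Function.Surjective e) {u v : Fin 40} {d : K}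
    (h : vecS e u = d • vecS e v) : u = v := by
  obtain ⟨a, rfl⟩ := he d
  exact ptB_distinct u v ⟨a, fun i => e.injective (by rw [map_mul]; exact congrFun h i)⟩

include he

omit [Fintype K] in
theorem exists_point (x : Fin 2 ⊕ Fin 2 → K) : ∃ (k : Fin 40) (d : K), x = d • vecS e k := by
  obtain ⟨a, ha⟩ := he (x (.inl 0))
  obtain ⟨b, hb⟩ := he (x (.inl 1))
  obtain ⟨c, hc⟩ := he (x (.inr 0))
  obtain ⟨f, hf⟩ := he (x (.inr 1))
  obtain ⟨k, d, h1, h2, h3, h4⟩ := ptB_cover a b c f
  refine ⟨k, e d, funext fun i => ?_⟩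
  rcases i with i | i <;> fin_cases i <;> simp [vecS, ← ha, ← hb, ← hc, ← hf, ← h1, ← h2, ← h3, ← h4, mul_comm]

omit [Fintype K] in
theorem act_spT (k u : Fin 40) : ∃ d : K, (spT (vecS e k) 1).1 *ᵥ vecS e u = d • vecS e (sig k u) := by
  obtain ⟨d, hd⟩ := act_transvec k u
  have hform : Cfsg.sympForm 2 K (vecS e u) (vecS e k) = e (form3 (ptB u) (ptB k)) := by
    simp [Cfsg.sympForm, form3, vecS, dotProduct, Matrix.mulVec, Matrix.J, Fintype.sum_sum_type, Fin.sum_univ_two,
      Matrix.fromBlocks, Matrix.one_apply]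
  refine ⟨e d, funext fun i => ?_⟩
  rw [spT_mulVec, one_mul, hform]
  have h := congrArg e (hd i)
  simp only [map_add, map_mul] at h
  simpa [vecS] using h

end symplectic

/-- Two maps permute the forty points in the same way. -/
def Rel (w : F) (e : ZMod 3 →+* K) (U : Cfsg.SU 4 F 2) (S : Matrix.symplecticGroup (Fin 2) K) : Prop :=
  ∃ σ : Equiv.Perm (Fin 40), (∀ u, ∃ c : F, (U.1 : Matrix (Fin 4) (Fin 4) F) *ᵥ vecU w u = c • vecU w (σ u)) ∧
    ∀ u, ∃ d : K, S.1 *ᵥ vecS e u = d • vecS e (σ u)

variable {w : F} {e : ZMod 3 →+* K}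

theorem rel_one : Rel w e (1 : Cfsg.SU 4 F 2) 1 :=
  ⟨1, fun u => ⟨1, by simp⟩, fun u => ⟨1, by rw [sp_one_mulVec, one_smul]; rfl⟩⟩

theorem rel_mul {U U' : Cfsg.SU 4 F 2} {S S' : Matrix.symplecticGroup (Fin 2) K} (h : Rel w e U S)
    (h' : Rel w e U' S') : Rel w e (U * U') (S * S') := by
  obtain ⟨σ, hU, hS⟩ := h
  obtain ⟨τ, hU', hS'⟩ := h'
  refine ⟨σ * τ, fun u => ?_, fun u => ?_⟩
  · obtain ⟨c', hc'⟩ := hU' u
    obtain ⟨c, hc⟩ := hU (τ u)
    refine ⟨c' * c, ?_⟩
    rw [Subgroup.coe_mul, Matrix.SpecialLinearGroup.coe_mul, ← Matrix.mulVec_mulVec, hc', Matrix.mulVec_smul, hc,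
      smul_smul]
    rfl
  · obtain ⟨c', hc'⟩ := hS' u
    obtain ⟨c, hc⟩ := hS (τ u)
    refine ⟨c' * c, ?_⟩
    rw [sp_mulVec_mul, hc', Matrix.mulVec_smul, hc, smul_smul]
    rfl

theorem rel_pow {U : Cfsg.SU 4 F 2} {S : Matrix.symplecticGroup (Fin 2) K} (h : Rel w e U S) (n : ℕ) :
    Rel w e (U ^ n) (S ^ n) := by
  induction n with
  | zero => simpa using rel_one
  | succ n ih => simpa [pow_succ] using rel_mul ih h

theorem rel_inv {U : Cfsg.SU 4 F 2} {S : Matrix.symplecticGroup (Fin 2) K} (h : Rel w e U S) :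
    Rel w e U⁻¹ S⁻¹ := by
  haveI : Finite (Cfsg.SU 4 F 2) := inferInstance
  haveI : Finite (Matrix.symplecticGroup (Fin 2) K) := Finite.of_injective _ Subtype.val_injective
  have hU : U⁻¹ = U ^ (orderOf U * orderOf S - 1) := by
    refine inv_eq_of_mul_eq_one_right ?_
    rw [← pow_succ', Nat.sub_add_cancel (Nat.mul_pos (orderOf_pos U) (orderOf_pos S)), pow_mul, pow_orderOf_eq_one,
      one_pow]
  have hS : S⁻¹ = S ^ (orderOf U * orderOf S - 1) := by
    refine inv_eq_of_mul_eq_one_right ?_
    rw [← pow_succ', Nat.sub_add_cancel (Nat.mul_pos (orderOf_pos U) (orderOf_pos S)), mul_comm, pow_mul,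
      pow_orderOf_eq_one, one_pow]
  rw [hU, hS]
  exact rel_pow h _

theorem psu_four_two_equiv (hF : Fintype.card F = 4) (hK : Fintype.card K = 3) :
    Nonempty (Cfsg.PSU 4 F 2 ≃* Cfsg.PSp 2 K) := by
  classical
  obtain ⟨h2, w, hw⟩ := exists_omega hF
  haveI : Fact (Nat.Prime 3) := ⟨Nat.prime_three⟩
  haveI : CharP K 3 := charP_of_card_eq_prime hK
  let e : ZMod 3 →+* K := ZMod.castHom dvd_rfl K
  have he : Function.Surjective e :=
    ((Fintype.bijective_iff_injective_and_card _).mpr ⟨e.injective, by rw [ZMod.card, hK]⟩).2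
  haveI : Finite (Matrix.symplecticGroup (Fin 2) K) := Finite.of_injective _ Subtype.val_injective
  -- the pairs
  let R : Subgroup (Cfsg.SU 4 F 2 × Matrix.symplecticGroup (Fin 2) K) :=
    { carrier := {x | Rel w e x.1 x.2}
      one_mem' := rel_one
      mul_mem' := fun h h' => rel_mul h h'
      inv_mem' := fun h => rel_inv h }
  have hgen : ∀ k : Fin 40, Rel w e (reflU hF h2 hw k) (spT (vecS e k) 1) := fun k =>
    ⟨⟨sig k, fun u => sig k (sig k u), sig_cube k, fun u => sig_cube k u⟩, fun u => act_reflU h2 hw k u,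
      fun u => act_spT e he k u⟩
  have huniq : ∀ {U U' : Cfsg.SU 4 F 2} {S : Matrix.symplecticGroup (Fin 2) K}, Rel w e U S → Rel w e U' S → U = U' := by
    intro U U' S h h'
    have h1 : Rel w e (U⁻¹ * U') 1 := inv_mul_cancel S ▸ rel_mul (rel_inv h) h'
    obtain ⟨σ, hU, hS⟩ := h1
    refine inv_mul_eq_one.mp (fix_lines_SU hF h2 hw fun u => ?_)
    obtain ⟨d, hd⟩ := hS u
    rw [sp_one_mulVec] at hd
    have hσ := vecS_distinct e he hd
    obtain ⟨c, hc⟩ := hU u
    exact ⟨c, by rw [hc, ← hσ]⟩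
  have htop : R.map (MonoidHom.snd _ _) = ⊤ := by
    refine sp_eq_top_of_transvections fun v c => ?_
    obtain ⟨k, d, rfl⟩ := exists_point e he v
    rw [spT_smul]
    obtain ⟨a, ha⟩ := he (c * d * d)
    rw [← ha]
    have hbase : spT (vecS e k) 1 ∈ R.map (MonoidHom.snd _ _) := ⟨_, show (reflU hF h2 hw k, _) ∈ R from hgen k, rfl⟩
    have hpow : ∀ n : ℕ, spT (vecS e k) (n : K) ∈ R.map (MonoidHom.snd _ _) := fun n => by
      induction n with
      | zero => rw [Nat.cast_zero, spT_zero]; exact one_mem _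
      | succ n ih => rw [Nat.cast_succ, ← spT_add]; exact mul_mem ih hbase
    have := hpow a.val
    rwa [← map_natCast e, ZMod.natCast_zmod_val] at this
  have hex : ∀ S : Matrix.symplecticGroup (Fin 2) K, ∃ U, Rel w e U S := fun S => by
    obtain ⟨⟨U, S'⟩, h, rfl⟩ : S ∈ R.map (MonoidHom.snd _ _) := htop ▸ Subgroup.mem_top S
    exact ⟨U, h⟩
  choose f hf using hex
  let φ : Matrix.symplecticGroup (Fin 2) K →* Cfsg.SU 4 F 2 :=
    MonoidHom.mk' f fun S S' => huniq (hf _) (rel_mul (hf S) (hf S'))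
  have hker : φ.ker = Subgroup.center (Matrix.symplecticGroup (Fin 2) K) := by
    ext S
    rw [MonoidHom.mem_ker]
    constructor
    · intro h
      have h1 : Rel w e 1 S := h ▸ hf S
      obtain ⟨σ, hU, hS⟩ := h1
      have hσ : ∀ u, σ u = u := fun u => by
        obtain ⟨c, hc⟩ := hU u
        rw [OneMemClass.coe_one, Matrix.SpecialLinearGroup.coe_one, Matrix.one_mulVec] at hc
        exact (vecU_distinct h2 hw hF hc).symm
      have hline : ∀ x, ∃ c : K, S.1 *ᵥ x = c • x := fun x => by
        obtain ⟨k, d, rfl⟩ := exists_point e he x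
        obtain ⟨c, hc⟩ := hS k
        rw [hσ] at hc
        exact ⟨c, by rw [Matrix.mulVec_smul, hc, smul_comm]⟩
      rw [Subgroup.mem_center_iff]
      intro T
      refine sp_ext fun x => ?_
      rw [sp_mulVec_mul, sp_mulVec_mul]
      obtain ⟨r, hr⟩ : ∃ r : K, Matrix.toLin' S.1 = r • LinearMap.id :=
        LinearMap.exists_eq_smul_id_of_forall_notLinearIndependent fun x hli => by
          obtain ⟨c, hc⟩ := hline x
          have := LinearIndependent.pair_iff.mp hli c (-1)
            (by rw [Matrix.toLin'_apply, hc, neg_one_smul, add_neg_cancel])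
          exact one_ne_zero (neg_eq_zero.mp this.2)
      have hS' : ∀ y, S.1 *ᵥ y = r • y := fun y => by
        have := congrArg (fun L => L y) hr
        simpa using this
      rw [hS', hS', Matrix.mulVec_smul]
    · intro h
      refine huniq (hf S) ⟨1, fun u => ⟨1, by simp⟩, fun u => ?_⟩
      rcases (mem_center_sp_iff (by norm_num) S).mp h with h | h
      · exact ⟨1, by rw [h, Matrix.one_mulVec, one_smul]; rfl⟩
      · exact ⟨-1, by rw [h, Matrix.neg_mulVec, Matrix.one_mulVec, neg_one_smul]; rfl⟩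
  let iso : Cfsg.PSp 2 K ≃* φ.range :=
    (QuotientGroup.quotientMulEquivOfEq hker.symm).trans (QuotientGroup.quotientKerEquivRange φ)
  have hrange : φ.range = ⊤ := by
    refine Subgroup.eq_top_of_card_eq _ ?_
    rw [← Nat.card_congr iso.toEquiv, card_SU_four hF]
    have h := Cfsg.Agent.Lib.Geometry.SympAut.card_sp_eq_gcd_mul (F := K) (m := 2) 3 (by norm_num)
    rw [card_sp, hK, show Nat.gcd 2 (3 - 1) = 2 by decide] at h
    norm_num [Finset.prod_range_succ] at h
    rw [Nat.card_eq_fintype_card]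
    omega
  exact ⟨((QuotientGroup.quotientMulEquivOfEq (center_SU_four hF)).trans QuotientGroup.quotientBot).trans
    ((Subgroup.topEquiv.symm).trans ((MulEquiv.subgroupCongr hrange.symm).trans iso.symm))⟩

end Cfsg.Agent.Lib.Geometry.UFourTwo
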