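import Mathlib

/-!
The correspondence between the forty non-isotropic points of the Hermitian space of dimension 4 over the field with
four elements and the forty points of the symplectic space of dimension 4 over the field with three elements, with the
permutation that the unitary reflection at a point shares with the symplectic transvection at the matching point.
-/

set_option autoImplicit false
set_option maxRecDepth 4000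

namespace Cfsg.Agent.Lib.Geometry.UFourTwo

/-- Addition in the field with four elements `0, 1, w, w + 1`. -/
def add4 (a b : Fin 4) : Fin 4 :=
  ([[0, 1, 2, 3], [1, 0, 3, 2], [2, 3, 0, 1], [3, 2, 1, 0]].getD a.1 []).getD b.1 0

/-- Multiplication in the field with four elements. -/
def mul4 (a b : Fin 4) : Fin 4 :=
  ([[0, 0, 0, 0], [0, 1, 2, 3], [0, 2, 3, 1], [0, 3, 1, 2]].getD a.1 []).getD b.1 0

/-- A sum of four terms. -/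
def sum4 (f : Fin 4 → Fin 4) : Fin 4 := add4 (add4 (f 0) (f 1)) (add4 (f 2) (f 3))

/-- The non-isotropic points. -/
def tblA : List (List (Fin 4)) := [
    [0, 0, 0, 1], [0, 0, 1, 0], [0, 1, 0, 0], [1, 0, 0, 0], [1, 1, 0, 1], [1, 1, 0, 2], [1, 1, 0, 3], [1, 2, 0, 3],
    [1, 2, 0, 1], [1, 2, 0, 2], [1, 3, 0, 2], [1, 3, 0, 3], [1, 3, 0, 1], [1, 1, 1, 0], [1, 2, 3, 0], [1, 3, 2, 0],
    [1, 1, 2, 0], [1, 2, 1, 0], [1, 3, 3, 0], [1, 1, 3, 0], [1, 2, 2, 0], [1, 3, 1, 0], [0, 1, 1, 1], [0, 1, 1, 2],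
    [0, 1, 1, 3], [0, 1, 2, 1], [0, 1, 2, 2], [0, 1, 2, 3], [0, 1, 3, 1], [0, 1, 3, 2], [0, 1, 3, 3], [1, 0, 1, 1],
    [1, 0, 1, 3], [1, 0, 1, 2], [1, 0, 2, 1], [1, 0, 2, 3], [1, 0, 2, 2], [1, 0, 3, 1], [1, 0, 3, 3], [1, 0, 3, 2]]

/-- The symplectic points. -/
def tblB : List (List (ZMod 3)) := [
    [0, 0, 0, 1], [0, 0, 1, 0], [0, 0, 1, 1], [0, 0, 1, 2], [0, 1, 0, 0], [0, 1, 0, 1], [0, 1, 0, 2], [0, 1, 1, 0],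
    [0, 1, 1, 1], [0, 1, 1, 2], [0, 1, 2, 0], [0, 1, 2, 1], [0, 1, 2, 2], [1, 0, 0, 0], [1, 0, 0, 1], [1, 0, 0, 2],
    [1, 0, 1, 0], [1, 0, 1, 1], [1, 0, 1, 2], [1, 0, 2, 0], [1, 0, 2, 1], [1, 0, 2, 2], [1, 1, 0, 0], [1, 1, 0, 1],
    [1, 1, 0, 2], [1, 1, 1, 0], [1, 1, 1, 1], [1, 1, 1, 2], [1, 1, 2, 0], [1, 1, 2, 1], [1, 1, 2, 2], [1, 2, 0, 0],
    [1, 2, 0, 1], [1, 2, 0, 2], [1, 2, 1, 0], [1, 2, 1, 1], [1, 2, 1, 2], [1, 2, 2, 0], [1, 2, 2, 1], [1, 2, 2, 2]]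

/-- The permutations. -/
def tblSig : List (List (Fin 40)) := [
    [0, 1, 2, 3, 6, 4, 5, 9, 7, 8, 12, 10, 11, 13, 14, 15, 16, 17, 18, 19, 20, 21, 24, 22, 23, 27, 25, 26, 30, 28, 29, 32, 33, 31, 35, 36, 34, 38, 39, 37],
    [0, 1, 2, 3, 4, 5, 6, 7, 8, 9, 10, 11, 12, 19, 20, 21, 13, 14, 15, 16, 17, 18, 28, 29, 30, 22, 23, 24, 25, 26, 27, 37, 38, 39, 31, 32, 33, 34, 35, 36],
    [0, 1, 2, 3, 12, 10, 11, 6, 4, 5, 9, 7, 8, 21, 19, 20, 15, 13, 14, 18, 16, 17, 26, 27, 25, 29, 30, 28, 23, 24, 22, 31, 32, 33, 34, 35, 36, 37, 38, 39],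
    [0, 1, 2, 3, 9, 7, 8, 12, 10, 11, 6, 4, 5, 20, 21, 19, 14, 15, 13, 17, 18, 16, 22, 23, 24, 25, 26, 27, 28, 29, 30, 36, 34, 35, 39, 37, 38, 33, 31, 32],
    [5, 1, 8, 11, 4, 6, 0, 7, 12, 3, 10, 9, 2, 13, 23, 33, 16, 26, 36, 19, 29, 39, 22, 32, 15, 25, 35, 18, 28, 38, 21, 31, 14, 24, 34, 17, 27, 37, 20, 30],
    [6, 1, 9, 12, 0, 5, 4, 3, 8, 10, 2, 11, 7, 13, 24, 32, 16, 27, 35, 19, 30, 38, 15, 23, 31, 18, 26, 34, 21, 29, 37, 14, 22, 33, 17, 25, 36, 20, 28, 39],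
    [4, 1, 7, 10, 5, 0, 6, 11, 3, 9, 8, 2, 12, 13, 22, 31, 16, 25, 34, 19, 28, 37, 33, 15, 24, 36, 18, 27, 39, 21, 30, 23, 32, 14, 26, 35, 17, 29, 38, 20],
    [8, 1, 11, 5, 4, 12, 2, 7, 9, 0, 10, 6, 3, 37, 14, 27, 31, 17, 30, 34, 20, 24, 19, 23, 36, 13, 26, 39, 16, 29, 33, 28, 32, 18, 22, 35, 21, 25, 38, 15],
    [9, 1, 12, 6, 2, 5, 10, 0, 8, 7, 3, 11, 4, 39, 14, 25, 33, 17, 28, 36, 20, 22, 35, 19, 24, 38, 13, 27, 32, 16, 30, 31, 18, 29, 34, 21, 23, 37, 15, 26],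
    [7, 1, 10, 4, 11, 2, 6, 8, 0, 9, 5, 3, 12, 38, 14, 26, 32, 17, 29, 35, 20, 23, 22, 34, 19, 25, 37, 13, 28, 31, 16, 18, 30, 33, 21, 24, 36, 15, 27, 39],
    [11, 1, 5, 8, 4, 9, 3, 7, 6, 2, 10, 12, 0, 28, 35, 15, 22, 38, 18, 25, 32, 21, 37, 17, 24, 31, 20, 27, 34, 14, 30, 19, 26, 33, 13, 29, 36, 16, 23, 39],
    [12, 1, 6, 9, 3, 5, 7, 2, 8, 4, 0, 11, 10, 29, 34, 15, 23, 37, 18, 26, 31, 21, 22, 39, 17, 25, 33, 20, 28, 36, 14, 27, 32, 19, 30, 35, 13, 24, 38, 16],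
    [10, 1, 4, 7, 8, 3, 6, 5, 2, 9, 11, 0, 12, 30, 36, 15, 24, 39, 18, 27, 33, 21, 17, 23, 38, 20, 26, 32, 14, 29, 35, 31, 19, 25, 34, 13, 28, 37, 16, 22],
    [0, 16, 17, 18, 4, 5, 6, 25, 26, 27, 34, 36, 35, 13, 14, 15, 19, 21, 20, 1, 3, 2, 22, 23, 24, 37, 39, 38, 10, 11, 12, 31, 32, 33, 28, 30, 29, 7, 9, 8],
    [0, 17, 18, 16, 32, 31, 33, 7, 8, 9, 29, 30, 28, 13, 14, 15, 21, 20, 19, 2, 1, 3, 6, 4, 5, 25, 26, 27, 36, 35, 34, 24, 23, 22, 11, 10, 12, 37, 38, 39],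
    [0, 18, 16, 17, 24, 22, 23, 39, 38, 37, 10, 11, 12, 13, 14, 15, 20, 19, 21, 3, 2, 1, 32, 31, 33, 8, 9, 7, 28, 29, 30, 6, 5, 4, 34, 35, 36, 26, 25, 27],
    [0, 19, 20, 21, 4, 5, 6, 28, 29, 30, 37, 39, 38, 1, 3, 2, 16, 17, 18, 13, 15, 14, 10, 11, 12, 25, 26, 27, 31, 33, 32, 7, 9, 8, 34, 35, 36, 22, 24, 23],
    [0, 20, 21, 19, 35, 34, 36, 7, 8, 9, 23, 24, 22, 2, 1, 3, 16, 17, 18, 15, 14, 13, 39, 38, 37, 6, 4, 5, 28, 29, 30, 31, 32, 33, 27, 26, 25, 11, 10, 12],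
    [0, 21, 19, 20, 27, 25, 26, 33, 32, 31, 10, 11, 12, 3, 2, 1, 16, 17, 18, 14, 13, 15, 22, 23, 24, 35, 34, 36, 8, 9, 7, 29, 28, 30, 6, 5, 4, 37, 38, 39],
    [0, 13, 14, 15, 4, 5, 6, 22, 23, 24, 31, 33, 32, 16, 18, 17, 1, 3, 2, 19, 20, 21, 34, 36, 35, 10, 11, 12, 28, 29, 30, 25, 27, 26, 7, 9, 8, 37, 38, 39],
    [0, 14, 15, 13, 38, 37, 39, 7, 8, 9, 26, 27, 25, 18, 17, 16, 2, 1, 3, 19, 20, 21, 22, 23, 24, 33, 32, 31, 6, 4, 5, 11, 10, 12, 34, 35, 36, 30, 29, 28],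
    [0, 15, 13, 14, 30, 28, 29, 36, 35, 34, 10, 11, 12, 17, 16, 18, 3, 2, 1, 19, 20, 21, 8, 9, 7, 25, 26, 27, 38, 37, 39, 31, 32, 33, 23, 22, 24, 6, 5, 4],
    [23, 25, 30, 3, 4, 32, 14, 34, 21, 9, 16, 11, 39, 13, 33, 5, 37, 12, 18, 7, 20, 35, 22, 24, 0, 28, 2, 27, 1, 29, 26, 31, 15, 6, 19, 8, 36, 10, 38, 17],
    [24, 26, 28, 3, 14, 5, 31, 7, 36, 21, 38, 16, 12, 13, 32, 6, 39, 10, 18, 8, 20, 34, 0, 23, 22, 25, 29, 2, 27, 1, 30, 15, 4, 33, 9, 35, 19, 37, 17, 11],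
    [22, 27, 29, 3, 33, 14, 6, 21, 8, 35, 10, 37, 16, 13, 31, 4, 38, 11, 18, 9, 20, 36, 23, 0, 24, 2, 26, 30, 28, 25, 1, 5, 32, 15, 34, 19, 7, 17, 12, 39],
    [26, 28, 24, 3, 4, 35, 17, 37, 15, 9, 19, 11, 33, 7, 14, 38, 16, 36, 5, 31, 12, 21, 1, 23, 29, 25, 27, 0, 22, 2, 30, 10, 32, 20, 34, 18, 6, 13, 8, 39],
    [27, 29, 22, 3, 17, 5, 34, 7, 39, 15, 32, 19, 12, 8, 14, 37, 16, 35, 6, 33, 10, 21, 30, 1, 24, 0, 26, 25, 28, 23, 2, 31, 20, 11, 18, 4, 36, 9, 38, 13],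
    [25, 30, 23, 3, 36, 17, 6, 15, 8, 38, 10, 31, 19, 9, 14, 39, 16, 34, 4, 32, 11, 21, 22, 28, 1, 26, 0, 27, 2, 29, 24, 20, 12, 33, 5, 35, 18, 37, 13, 7],
    [29, 22, 27, 3, 4, 38, 20, 31, 18, 9, 13, 11, 36, 34, 12, 15, 7, 17, 32, 19, 39, 5, 25, 2, 24, 1, 26, 23, 28, 30, 0, 16, 8, 33, 10, 35, 14, 37, 21, 6],
    [30, 23, 25, 3, 20, 5, 37, 7, 33, 18, 35, 13, 12, 36, 10, 15, 8, 17, 31, 19, 38, 6, 22, 26, 2, 24, 1, 27, 0, 29, 28, 9, 32, 16, 34, 14, 11, 21, 4, 39],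
    [28, 24, 26, 3, 39, 20, 6, 18, 8, 32, 10, 34, 13, 35, 11, 15, 9, 17, 33, 19, 37, 4, 2, 23, 27, 25, 22, 1, 29, 0, 30, 31, 16, 7, 14, 12, 36, 5, 38, 21],
    [33, 34, 2, 38, 4, 24, 15, 16, 8, 29, 25, 20, 12, 13, 5, 23, 28, 17, 9, 10, 27, 21, 22, 6, 14, 19, 26, 11, 7, 18, 30, 31, 0, 32, 37, 35, 3, 1, 36, 39],
    [31, 35, 2, 39, 23, 15, 6, 7, 28, 16, 20, 11, 27, 13, 4, 22, 30, 17, 8, 12, 26, 21, 5, 14, 24, 25, 10, 19, 18, 29, 9, 33, 32, 0, 3, 38, 36, 37, 1, 34],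
    [32, 36, 2, 37, 15, 5, 22, 30, 16, 9, 10, 26, 20, 13, 6, 24, 29, 17, 7, 11, 25, 21, 14, 23, 4, 12, 19, 27, 28, 8, 18, 0, 31, 33, 34, 3, 39, 35, 38, 1],
    [36, 37, 2, 32, 4, 27, 18, 19, 8, 23, 28, 14, 12, 10, 30, 15, 16, 5, 26, 22, 20, 9, 7, 21, 24, 25, 6, 17, 13, 29, 11, 1, 39, 33, 34, 0, 35, 31, 38, 3],
    [34, 38, 2, 33, 26, 18, 6, 7, 22, 19, 14, 11, 30, 12, 29, 15, 16, 4, 25, 24, 20, 8, 21, 23, 9, 5, 17, 27, 28, 10, 13, 31, 1, 37, 36, 35, 0, 3, 32, 39],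
    [35, 39, 2, 31, 18, 5, 25, 24, 19, 9, 10, 29, 14, 11, 28, 15, 16, 6, 27, 23, 20, 7, 22, 8, 21, 17, 26, 4, 12, 13, 30, 38, 32, 1, 0, 34, 36, 37, 3, 33],
    [39, 31, 2, 35, 4, 30, 21, 13, 8, 26, 22, 17, 12, 25, 14, 9, 10, 24, 18, 19, 5, 29, 16, 23, 11, 7, 15, 27, 28, 6, 20, 34, 32, 3, 1, 33, 36, 37, 0, 38],
    [37, 32, 2, 36, 29, 21, 6, 7, 25, 13, 17, 11, 24, 27, 14, 8, 12, 23, 18, 19, 4, 28, 22, 10, 16, 15, 26, 9, 5, 20, 30, 3, 35, 33, 34, 1, 31, 39, 38, 0],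
    [38, 33, 2, 34, 21, 5, 28, 27, 13, 9, 10, 23, 17, 26, 14, 7, 11, 22, 18, 19, 6, 30, 12, 16, 24, 25, 8, 15, 20, 29, 4, 31, 3, 36, 32, 35, 1, 0, 37, 39]]

/-- The `k`-th non-isotropic point. -/
def ptA (k : Fin 40) (i : Fin 4) : Fin 4 := (tblA.getD k.1 []).getD i.1 0

/-- The `k`-th symplectic point. -/
def ptB (k : Fin 40) : Fin 2 ⊕ Fin 2 → ZMod 3 :=
  fun i => (tblB.getD k.1 []).getD (Sum.elim (fun a : Fin 2 => a.1) (fun a : Fin 2 => a.1 + 2) i) 0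

/-- The permutation of the `k`-th reflection. -/
def sig (k u : Fin 40) : Fin 40 := (tblSig.getD k.1 []).getD u.1 0

/-- The matrix of the `k`-th reflection. -/
def refl4 (k : Fin 40) (i j : Fin 4) : Fin 4 :=
  add4 (if i = j then 2 else 0) (mul4 3 (mul4 (ptA k i) (mul4 (ptA k j) (ptA k j))))

/-- The symplectic form on points. -/
def form3 (u v : Fin 2 ⊕ Fin 2 → ZMod 3) : ZMod 3 :=
  u (.inl 0) * (-(v (.inr 0))) + u (.inl 1) * (-(v (.inr 1))) + (u (.inr 0) * v (.inl 0) + u (.inr 1) * v (.inl 1))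

theorem norm_ptA : ∀ k, sum4 (fun i => mul4 (ptA k i) (mul4 (ptA k i) (ptA k i))) = 1 := by decide +kernel

theorem unitary_refl : ∀ k j l, sum4 (fun i => mul4 (refl4 k i j) (mul4 (refl4 k i l) (refl4 k i l))) =
    if j = l then 1 else 0 := by decide +kernel

theorem act_refl : ∀ k u, ∃ c : Fin 4, ∀ i, sum4 (fun j => mul4 (refl4 k i j) (ptA u j)) =
    mul4 c (ptA (sig k u) i) := by decide +kernel

theorem act_transvec : ∀ k u, ∃ d : ZMod 3, ∀ i, ptB u i + form3 (ptB u) (ptB k) * ptB k i =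
    d * ptB (sig k u) i := by decide +kernel

theorem sig_cube : ∀ k u, sig k (sig k (sig k u)) = u := by decide +kernel

theorem ptA_unit : ∀ i : Fin 4, ∃ k, ∀ j, ptA k j = if j = i then 1 else 0 := by decide +kernel

theorem ptA_three : (∃ k, ∀ j, ptA k j = if j = 3 then 0 else 1) ∧ ∃ k, ∀ j, ptA k j = if j = 0 then 0 else 1 := by
  decide +kernel

theorem ptA_distinct : ∀ u w, (∃ c : Fin 4, ∀ i, ptA u i = mul4 c (ptA w i)) → u = w := by decide +kernel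

theorem ptB_distinct : ∀ u w, (∃ d : ZMod 3, ∀ i, ptB u i = d * ptB w i) → u = w := by decide +kernel

theorem ptB_cover : ∀ a b c e : ZMod 3, ∃ k, ∃ d : ZMod 3,
    ptB k (.inl 0) * d = a ∧ ptB k (.inl 1) * d = b ∧ ptB k (.inr 0) * d = c ∧ ptB k (.inr 1) * d = e := by
  decide +kernel

end Cfsg.Agent.Lib.Geometry.UFourTwo
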