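import Mathlib
import Cfsg.Agent.Lib.Classical.HermForm

/-!
The determinant map and the centre of `GU_n(q)`.
-/

set_option autoImplicit false

namespace Cfsg.Agent.Lib.Geometry

open Matrix Cfsg.Agent.Lib.Classical

variable {F : Type*} [Field F] [Fintype F] {q n : ℕ}

/-- The norm one units. -/
def normOneUnits (F : Type*) [Field F] (q : ℕ) : Subgroup Fˣ := (powMonoidHom (q + 1) : Fˣ →* Fˣ).ker

theorem card_normOneUnits (hF : Fintype.card F = q ^ 2) : Nat.card (normOneUnits F q) = q + 1 := by
  classical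
  rw [normOneUnits, IsCyclic.card_powMonoidHom_ker, Nat.card_units, Nat.card_eq_fintype_card, hF]
  exact Nat.gcd_eq_right ⟨q - 1, by rw [← Nat.sq_sub_sq, one_pow]⟩

theorem det_mem_normOneUnits (hF : Fintype.card F = q ^ 2) (g : Cfsg.GU n F q) :
    GeneralLinearGroup.det (g.1 : GL (Fin n) F) ∈ normOneUnits F q := by
  have h := congrArg Matrix.det ((mem_GU_iff hF g.1).mp g.2)
  rw [det_mul, det_transpose, det_one,
    show ((g.1 : Matrix (Fin n) (Fin n) F).map (conjHom hF)).det = conjHom hF (g.1 : Matrix (Fin n) (Fin n) F).det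
      from (RingHom.map_det _ _).symm, conjHom_apply, ← pow_succ'] at h
  exact MonoidHom.mem_ker.mpr (Units.ext h)

/-- Diagonal unitary matrices. -/
noncomputable def guDiag (hF : Fintype.card F = q ^ 2) (d : Fin n → normOneUnits F q) : Cfsg.GU n F q :=
  ⟨GeneralLinearGroup.mkOfDetNeZero (Matrix.diagonal fun i => ((d i : Fˣ) : F))
    (by simp [det_diagonal, Finset.prod_ne_zero_iff]),
    (mem_GU_iff hF _).mpr (diagonal_preserves hF _ fun i => by
      simpa using congrArg Units.val (MonoidHom.mem_ker.mp (d i).2))⟩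

theorem guDiag_coe (hF : Fintype.card F = q ^ 2) (d : Fin n → normOneUnits F q) :
    ((guDiag hF d).1 : Matrix (Fin n) (Fin n) F) = Matrix.diagonal fun i => ((d i : Fˣ) : F) := rfl

theorem det_guDiag (hF : Fintype.card F = q ^ 2) (d : Fin n → normOneUnits F q) :
    GeneralLinearGroup.det (guDiag hF d).1 = ∏ i, (d i : Fˣ) := by
  refine Units.ext ?_
  simp [guDiag_coe, det_diagonal, Units.coe_prod]

theorem exists_scalar_of_mem_center (hF : Fintype.card F = q ^ 2) (hn : 1 ≤ n) (z : Cfsg.GU n F q)
    (hz : z ∈ Subgroup.center (Cfsg.GU n F q)) :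
    ∃ c : normOneUnits F q, z = guDiag hF (fun _ => c) := by
  classical
  obtain ⟨a, ha⟩ : ∃ a : normOneUnits F q, a ≠ 1 := by
    haveI : Nontrivial (normOneUnits F q) := Finite.one_lt_card_iff_nontrivial.mp (by
      rw [card_normOneUnits hF]; have := two_le_q hF; omega)
    exact exists_ne 1
  set Z := (z.1 : Matrix (Fin n) (Fin n) F) with hZ
  have hcomm : ∀ g : Cfsg.GU n F q, (g.1 : Matrix (Fin n) (Fin n) F) * Z = Z * g.1 := fun g =>
    congrArg (fun x : Cfsg.GU n F q => (x.1 : Matrix (Fin n) (Fin n) F)) (Subgroup.mem_center_iff.mp hz g)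
  have hoff : ∀ i j, i ≠ j → Z i j = 0 := by
    intro i j hij
    have h := congrFun (congrFun (hcomm (guDiag hF (Function.update 1 i a))) i) j
    rw [guDiag_coe, diagonal_mul, mul_diagonal] at h
    simp only [Function.update_self, Function.update_of_ne hij.symm, Pi.one_apply, OneMemClass.coe_one,
      Units.val_one, mul_one] at h
    have hne : ((a : Fˣ) : F) - 1 ≠ 0 := sub_ne_zero.mpr fun h1 =>
      ha (Subtype.ext (Units.ext h1))
    exact (mul_eq_zero.mp (show (((a : Fˣ) : F) - 1) * Z i j = 0 by linear_combination h)).resolve_left hne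
  have hdiag : ∀ i j, Z i i = Z j j := by
    intro i j
    let p : Matrix (Fin n) (Fin n) F := (1 : Matrix (Fin n) (Fin n) F).submatrix (Equiv.swap i j) id
    have hp : pᵀ * p.map (conjHom hF) = 1 := by
      rw [show p.map (conjHom hF) = p by
        ext r s; simp only [p, submatrix_apply, map_apply, one_apply]; split_ifs <;> simp]
      rw [show p = (1 : Matrix (Fin n) (Fin n) F).submatrix (Equiv.swap i j) id from rfl,
        transpose_submatrix, transpose_one, submatrix_mul_equiv, Matrix.one_mul, submatrix_one _ Function.injective_id]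
    let P : Cfsg.GU n F q := ⟨GeneralLinearGroup.mkOfDetNeZero p (fun h0 => by
      have := congrArg Matrix.det hp
      rw [det_mul, det_transpose, h0, zero_mul, det_one] at this
      exact zero_ne_one this), (mem_GU_iff hF _).mpr hp⟩
    have h := congrFun (congrFun (hcomm P) i) j
    rw [show (P.1 : Matrix (Fin n) (Fin n) F) = p from rfl, mul_apply, mul_apply,
      Finset.sum_eq_single j, Finset.sum_eq_single i] at h
    · simpa [p, one_apply] using h.symm
    · intro b _ hb; simp [hoff i b hb.symm]
    · simp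
    · intro b _ hb; simp [hoff b j hb]
    · simp
  let i₀ : Fin n := ⟨0, hn⟩
  have hdet : Z.det ≠ 0 := (GeneralLinearGroup.det z.1).ne_zero
  have hZd : Z = Matrix.diagonal fun _ => Z i₀ i₀ := by
    ext i j
    by_cases hij : i = j
    · subst hij; simp [hdiag i i₀]
    · simp [hij, hoff i j hij]
  have hc : Z i₀ i₀ ^ (q + 1) = 1 := by
    have h := congrFun (congrFun ((mem_GU_iff hF z.1).mp z.2) i₀) i₀
    rw [← hZ, hZd] at h
    simpa [diagonal_transpose, diagonal_map, conjHom_apply, pow_succ'] using h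
  refine ⟨⟨Units.mk0 (Z i₀ i₀) (fun h0 => by rw [h0, zero_pow (by omega)] at hc; exact zero_ne_one hc),
    MonoidHom.mem_ker.mpr (Units.ext (by simpa using hc))⟩, Subtype.ext (Units.ext ?_)⟩
  rw [guDiag_coe]
  exact hZd

end Cfsg.Agent.Lib.Geometry
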