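import Cfsg.Agent.Lib.Geometry.HermIsotropic
import Cfsg.Agent.Lib.Geometry.StabilizerProd
import Cfsg.Agent.Lib.Geometry.UnitaryDet
import Mathlib.LinearAlgebra.Matrix.SchurComplement

/-!
Orders of parabolic subgroups of the unitary group.
-/

set_option autoImplicit false

namespace Cfsg.Agent.Lib.Geometry

open scoped Matrix
open Module (finrank)
open Cfsg.Agent.Lib.Classical (hermCount)

variable {F : Type*} [Field F] [Fintype F] {q : ℕ}

omit [Fintype F] in
theorem det_one_add_vecMulVec' {n : ℕ} (u f : Fin n → F) :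
    (1 + Matrix.vecMulVec u f).det = 1 + f ⬝ᵥ u := by
  rw [show Matrix.vecMulVec u f = Matrix.replicateCol Unit u * Matrix.replicateRow Unit f from
      (Matrix.vecMulVec_eq Unit u f), Matrix.det_one_add_mul_comm, Matrix.det_unique]
  simp [Matrix.mul_apply, Matrix.replicateRow, Matrix.replicateCol, dotProduct]

/-- An element of `GU` with a prescribed determinant stabilising an isotropic subspace. -/
theorem exists_stab_det (hF : Fintype.card F = q ^ 2) {n : ℕ} (hn : 1 ≤ n) (W : Submodule F (Fin n → F))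
    (hW : ∀ u ∈ W, ∀ v ∈ W, Cfsg.hermForm n F q u v = 0) (u : normOneUnits F q) :
    ∃ g : Cfsg.GU n F q, (∀ x ∈ W, ((g : Matrix.GeneralLinearGroup (Fin n) F) : Matrix (Fin n) (Fin n) F) *ᵥ x ∈ W) ∧
      Matrix.GeneralLinearGroup.det (g : Matrix.GeneralLinearGroup (Fin n) F) = u := by
  classical
  by_cases hW0 : W = ⊥
  · refine ⟨guDiag hF (Function.update 1 ⟨0, hn⟩ u), fun x hx => ?_, ?_⟩
    · rw [hW0, Submodule.mem_bot] at hx ⊢
      rw [hx, Matrix.mulVec_zero]
    · rw [det_guDiag, Finset.prod_eq_single ⟨0, hn⟩ (fun i _ hi => by simp [Function.update_of_ne hi]) (by simp),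
        Function.update_self]
  obtain ⟨v, hv, hv0⟩ := Submodule.exists_mem_ne_zero_of_ne_bot hW0
  -- Hilbert 90
  obtain ⟨a, ha⟩ : ∃ a : Fˣ, a ^ (q - 1) = ((u : Fˣ))⁻¹ := by
    have hq := q_pos hF
    have hle : (powMonoidHom (q - 1) : Fˣ →* Fˣ).range ≤ normOneUnits F q := by
      rintro _ ⟨a, rfl⟩
      rw [normOneUnits, MonoidHom.mem_ker, powMonoidHom_apply, powMonoidHom_apply, ← pow_mul, mul_comm,
        ← Nat.sq_sub_sq, one_pow, ← hF, ← Fintype.card_units, pow_card_eq_one]
    have hcard : Nat.card (normOneUnits F q) ≤ Nat.card (powMonoidHom (q - 1) : Fˣ →* Fˣ).range := by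
      rw [card_normOneUnits hF, ← Subgroup.index_ker]
      have h := (powMonoidHom (q - 1) : Fˣ →* Fˣ).ker.card_mul_index
      have hk : Nat.card (powMonoidHom (q - 1) : Fˣ →* Fˣ).ker = q - 1 := by
        rw [IsCyclic.card_powMonoidHom_ker, Nat.card_units, Nat.card_eq_fintype_card, hF]
        exact Nat.gcd_eq_right ⟨q + 1, by rw [mul_comm, ← Nat.sq_sub_sq, one_pow]⟩
      rw [hk, Nat.card_units, Nat.card_eq_fintype_card, hF] at h
      have : (q - 1) * (q + 1) = q ^ 2 - 1 := by rw [mul_comm, ← Nat.sq_sub_sq, one_pow]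
      exact le_of_eq (Nat.eq_of_mul_eq_mul_left (show 0 < q - 1 by omega) (this.trans h.symm))
    have heq := Subgroup.eq_of_le_of_card_ge hle hcard
    have hu : ((u : Fˣ))⁻¹ ∈ (powMonoidHom (q - 1) : Fˣ →* Fˣ).range := by
      rw [heq]; exact (normOneUnits F q).inv_mem u.2
    exact hu
  -- an isotropic partner of `v`
  set σ := frobQ hF with hσ
  have hσσ : ∀ x, σ (σ x) = x := frobQ_frobQ hF
  obtain ⟨θ, hθ⟩ : ∃ θ : F, θ + σ θ ≠ 0 := by
    by_contra h
    push Not at h
    have h1 : (1 : F) + 1 = 0 := by simpa using h 1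
    obtain ⟨x, hx⟩ := exists_pow_ne_self hF
    refine hx ?_
    have h' := h x
    rw [hσ, frobQ_apply] at h'
    linear_combination h' - x * h1
  obtain ⟨w₀, hw₀⟩ : ∃ w, Cfsg.hermForm n F q v w = 1 := by
    obtain ⟨w, hw⟩ : ∃ w, hermBilin n hF v w ≠ 0 := by
      by_contra h
      push Not at h
      exact hv0 ((hermBilin_nondegenerate hF).1 v h)
    have h' : hermBilin n hF v ((hermBilin n hF v w)⁻¹ • w) = 1 := by
      rw [map_smul, smul_eq_mul, inv_mul_cancel₀ hw]
    refine ⟨(hermBilin n hF v w)⁻¹ • w, ?_⟩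
    rw [← hermBilin_apply hF, ← (hermBilin_isSymm hF).eq v ((hermBilin n hF v w)⁻¹ • w), h', map_one]
  set c₀ := Cfsg.hermForm n F q w₀ w₀ with hc₀
  have hc₀' : σ c₀ = c₀ := by
    rw [hσ, frobQ_apply, hc₀]; exact Cfsg.Agent.Lib.Classical.hermForm_self_fixed hF w₀
  set s := -c₀ * θ / (θ + σ θ) with hs
  have hss : s + σ s = -c₀ := by
    rw [hs, map_div₀, map_mul, map_neg, map_add, hc₀', hσσ, add_comm (σ θ) θ]
    field_simp
    ring
  set w := w₀ + s • v with hw
  have hform : ∀ (x y : Fin n → F), Cfsg.hermForm n F q x y = hermBilin n hF y x := fun x y =>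
    (hermBilin_apply hF y x).symm
  have hvv : hermBilin n hF v v = 0 := by rw [hermBilin_apply]; exact hW v hv v hv
  have hwv : hermBilin n hF w₀ v = 1 := by rw [hermBilin_apply, hw₀]
  have hvw₀ : hermBilin n hF v w₀ = 1 := by rw [← (hermBilin_isSymm hF).eq w₀ v, hwv, map_one]
  have hvw : hermBilin n hF v w = 1 := by rw [hw, map_add, map_smul, hvv, smul_zero, add_zero, hvw₀]
  have hwv' : hermBilin n hF w v = 1 := by rw [← (hermBilin_isSymm hF).eq v w, hvw, map_one]
  have hww : hermBilin n hF w w = 0 := by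
    rw [hw]
    simp only [LinearMap.map_smulₛₗ, LinearMap.add_apply, LinearMap.smul_apply, map_add, RingHom.id_apply, hwv, hvw₀,
      hvv, smul_eq_mul, mul_zero, add_zero, mul_one]
    rw [hermBilin_apply, ← hc₀]
    linear_combination hss
  -- the map scaling `v` and `w`
  set fv : Fin n → F := fun i => σ (v i) with hfv
  set fw : Fin n → F := fun i => σ (w i) with hfw
  have hdv : ∀ x, fv ⬝ᵥ x = hermBilin n hF v x := fun x => by
    rw [hermBilin_apply, Cfsg.hermForm, dotProduct]
    exact Finset.sum_congr rfl fun i _ => by simp [hfv, hσ, frobQ_apply, mul_comm]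
  have hdw : ∀ x, fw ⬝ᵥ x = hermBilin n hF w x := fun x => by
    rw [hermBilin_apply, Cfsg.hermForm, dotProduct]
    exact Finset.sum_congr rfl fun i _ => by simp [hfw, hσ, frobQ_apply, mul_comm]
  set c : F := (σ (a : F))⁻¹ with hc
  let M : Matrix (Fin n) (Fin n) F :=
    (1 + Matrix.vecMulVec (((a : F) - 1) • v) fw) * (1 + Matrix.vecMulVec ((c - 1) • w) fv)
  have hM : ∀ x, M *ᵥ x = x + (((a : F) - 1) * hermBilin n hF w x) • v + ((c - 1) * hermBilin n hF v x) • w := by
    intro x
    rw [← Matrix.mulVec_mulVec, Matrix.add_mulVec, Matrix.one_mulVec, Matrix.add_mulVec, Matrix.one_mulVec,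
      Matrix.vecMulVec_mulVec, Matrix.vecMulVec_mulVec, op_smul_eq_smul, op_smul_eq_smul, hdv, hdw, map_add,
      map_smul, map_smul, hww, smul_zero, smul_zero, add_zero, smul_smul, smul_smul]
    rw [mul_comm (hermBilin n hF w x), mul_comm (hermBilin n hF v x)]
    abel
  have hdet : M.det = (a : F) * c := by
    rw [Matrix.det_mul, det_one_add_vecMulVec', det_one_add_vecMulVec', hdw, hdv, map_smul, map_smul, hwv', hvw,
      smul_eq_mul, smul_eq_mul]
    ring
  have hac : σ (a : F) * c = 1 := mul_inv_cancel₀ (fun h => a.ne_zero (by rw [← hσσ (a : F), h, map_zero]))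
  have hca : σ c * (a : F) = 1 := by
    have := congrArg σ hac
    rw [map_mul, hσσ, map_one] at this
    rw [mul_comm]; exact this
  have hpres : ∀ x y, Cfsg.hermForm n F q (M *ᵥ x) (M *ᵥ y) = Cfsg.hermForm n F q x y := by
    intro x y
    rw [hform, hform, hM, hM]
    simp only [map_add, LinearMap.add_apply, LinearMap.map_smulₛₗ, LinearMap.smul_apply, map_smul, smul_eq_mul,
      hvv, hww, hvw, hwv', map_mul, map_sub, map_one, RingHom.id_apply]
    rw [← (hermBilin_isSymm hF).eq v y, ← (hermBilin_isSymm hF).eq w y]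
    linear_combination (σ (hermBilin n hF w y) * hermBilin n hF v x) * hac +
      (σ (hermBilin n hF v y) * hermBilin n hF w x) * hca
  have hM0 : M.det ≠ 0 := by
    rw [hdet]
    exact mul_ne_zero a.ne_zero (right_ne_zero_of_mul_eq_one hac)
  refine ⟨⟨Matrix.GeneralLinearGroup.mkOfDetNeZero M hM0, mem_GU_iff.mpr hpres⟩, fun x hx => ?_, Units.ext ?_⟩
  · show M *ᵥ x ∈ W
    rw [hM, show hermBilin n hF v x = 0 by rw [hermBilin_apply]; exact hW x hx v hv, mul_zero, zero_smul, add_zero]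
    exact W.add_mem hx (W.smul_mem _ hv)
  · show M.det = _
    rw [hdet, hc, hσ, frobQ_apply]
    have h := congrArg Units.val ha
    rw [Units.val_pow_eq_pow_val, Units.val_inv_eq_inv_val] at h
    have hq := q_pos hF
    rw [show (a : F) ^ q = (a : F) * (a : F) ^ (q - 1) by rw [← pow_succ']; congr 1; omega, h, mul_inv, inv_inv,
      ← mul_assoc, mul_inv_cancel₀ a.ne_zero, one_mul]

theorem isoHerm_count_mul (hF : Fintype.card F = q ^ 2) (n : ℕ) : ∀ k, 2 * k ≤ n →
    q ^ (k * (2 * n - 3 * k)) *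
      ((∏ i ∈ Finset.range k, ((q ^ 2) ^ i * hermCount F q (n - 2 * i) 0 - (q ^ 2) ^ i)) *
      (q ^ ((n - 2 * k) * ((n - 2 * k) - 1) / 2) *
        ∏ i ∈ Finset.range (n - 2 * k), (if Even i then q ^ (i + 1) + 1 else q ^ (i + 1) - 1))) =
      q ^ (n * (n - 1) / 2) * ∏ i ∈ Finset.range n, (if Even i then q ^ (i + 1) + 1 else q ^ (i + 1) - 1)
  | 0, _ => by simp
  | k + 1, hk => by
    rw [← isoHerm_count_mul hF n k (by omega), Finset.prod_range_succ]
    obtain ⟨r, hr⟩ : ∃ r, n - 2 * k = r + 2 := ⟨n - 2 * k - 2, by omega⟩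
    rw [hr, show n - 2 * (k + 1) = r by omega, Finset.prod_range_succ (n := r + 1), Finset.prod_range_succ (n := r),
      Cfsg.Agent.Lib.Classical.hermCount_zero_eq hF]
    have hab : ∀ a b : ℕ, a * (b + 1) - a = a * b := fun a b => by rw [mul_add, mul_one, Nat.add_sub_cancel]
    simp only [hab, Nat.add_sub_cancel, show r + 2 - 1 = r + 1 by omega]
    have he : (k + 1) * (2 * n - 3 * (k + 1)) + 2 * k + r * (r - 1) / 2 =
        k * (2 * n - 3 * k) + (r + 2) * (r + 1) / 2 := by
      have hn : n = 2 * k + (r + 2) := by omega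
      subst hn
      rw [show 2 * (2 * k + (r + 2)) - 3 * (k + 1) = k + 2 * r + 1 by omega,
        show 2 * (2 * k + (r + 2)) - 3 * k = k + 2 * r + 4 by omega]
      rcases r with _ | r
      · simp; ring
      obtain ⟨e, he⟩ := Nat.even_mul_succ_self r
      have h1 : (r + 1) * (r + 1 - 1) / 2 = e := by rw [Nat.add_sub_cancel, mul_comm, he]; omega
      have h2 : (r + 1 + 2) * (r + 1 + 1) / 2 = e + 2 * r + 3 := by
        rw [show (r + 1 + 2) * (r + 1 + 1) = r * (r + 1) + (4 * r + 6) by ring, he]; omega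
      rw [h1, h2]
      ring
    have hE : Even (r + 2) ↔ Even r := by simp [Nat.even_add]
    have hE' : Even (r + 1) ↔ ¬ Even r := Nat.even_add_one
    simp only [hE, hE']
    by_cases h : Even r
    · simp only [h, not_true, if_true, if_false]
      calc _ = q ^ ((k + 1) * (2 * n - 3 * (k + 1)) + 2 * k + r * (r - 1) / 2) *
            ((∏ i ∈ Finset.range k, ((q ^ 2) ^ i * hermCount F q (n - 2 * i) 0 - (q ^ 2) ^ i)) *
            ((∏ i ∈ Finset.range r, (if Even i then q ^ (i + 1) + 1 else q ^ (i + 1) - 1)) *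
              (q ^ (r + 1) + 1) * (q ^ (r + 1 + 1) - 1))) := by simp only [pow_add, pow_mul]; ring
        _ = _ := by rw [he, pow_add]; ring
    · simp only [h, not_false_eq_true, if_true, if_false]
      calc _ = q ^ ((k + 1) * (2 * n - 3 * (k + 1)) + 2 * k + r * (r - 1) / 2) *
            ((∏ i ∈ Finset.range k, ((q ^ 2) ^ i * hermCount F q (n - 2 * i) 0 - (q ^ 2) ^ i)) *
            ((∏ i ∈ Finset.range r, (if Even i then q ^ (i + 1) + 1 else q ^ (i + 1) - 1)) *
              (q ^ (r + 1) - 1) * (q ^ (r + 1 + 1) + 1))) := by simp only [pow_add, pow_mul]; ring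
        _ = _ := by rw [he, pow_add]; ring

/-- Parabolic subgroups of `SU`. -/
theorem card_su_stab_isotropic (hF : Fintype.card F = q ^ 2) {n k : ℕ} (hn : 1 ≤ n) (hk : 2 * k ≤ n)
    (W : Submodule F (Fin n → F)) (hWk : finrank F W = k)
    (hW : ∀ u ∈ W, ∀ v ∈ W, Cfsg.hermForm n F q u v = 0) :
    (q + 1) * Nat.card ↥((Cfsg.stabilizing (Cfsg.slToMat n F) (W : Set (Fin n → F))).subgroupOf (Cfsg.SU n F q)) =
      q ^ (k * (2 * n - 3 * k)) * (∏ i : Fin k, ((q ^ 2) ^ k - (q ^ 2) ^ (i : ℕ))) *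
        (q ^ ((n - 2 * k) * ((n - 2 * k) - 1) / 2) *
          ∏ i ∈ Finset.range (n - 2 * k), (if Even i then q ^ (i + 1) + 1 else q ^ (i + 1) - 1)) := by
  classical
  let r : Cfsg.GU n F q →* Matrix (Fin n) (Fin n) F := (Cfsg.glToMat (Fin n) F).comp (Cfsg.GU n F q).subtype
  let S : Subgroup (Cfsg.GU n F q) := Cfsg.stabilizing r (W : Set (Fin n → F))
  let c := Module.finBasisOfFinrankEq F W hWk
  let t₀ : Fin k → Fin n → F := fun a => (c a : Fin n → F)
  have hli : LinearIndependent F t₀ := c.linearIndependent.map' W.subtype (Submodule.ker_subtype W)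
  have hspan : ∀ t : Fin k → Fin n → F, LinearIndependent F t → (∀ a, t a ∈ W) → Submodule.span F (Set.range t) = W :=
    fun t ht htW => Submodule.eq_of_le_of_finrank_eq (Submodule.span_le.mpr (by rintro _ ⟨a, rfl⟩; exact htW a))
      ((finrank_span_eq_card ht).trans (by rw [Fintype.card_fin, hWk]))
  have h₀ : IsoHerm q n k t₀ := ⟨hli, fun a b => hW _ (c a).2 _ (c b).2⟩
  let act : Cfsg.GU n F q → Fin k → Fin n → F := fun g a => r g *ᵥ t₀ a
  have hact : ∀ g, IsoHerm q n k (act g) := fun g =>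
    ⟨hli.map' (Matrix.mulVecLin (r g)) (LinearMap.ker_eq_bot.mpr (mulVec_injective_of_hom r g)),
      fun a b => (mem_GU_iff.mp g.2 _ _).trans (h₀.2 a b)⟩
  have hfib : ∀ t, IsoHerm q n k t → Nat.card {g // act g = t} = Nat.card {g // act g = t₀} := by
    intro t ht
    obtain ⟨g, hg, hgt⟩ := exists_map_herm hF h₀ ht
    obtain ⟨x, hx⟩ := (gu_preserves_iff hF (LinearMap.toMatrix' g.toLinearMap)).mpr (fun u v => by
      rw [← Matrix.toLin'_apply, ← Matrix.toLin'_apply, Matrix.toLin'_toMatrix']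
      exact hg u v)
    have hxt : ∀ a, r x *ᵥ t₀ a = t a := fun a => by
      rw [show r x = _ from hx, ← Matrix.toLin'_apply, Matrix.toLin'_toMatrix']; exact hgt a
    refine Nat.card_congr
      { toFun := fun g => ⟨x⁻¹ * g.1, funext fun a => ?_⟩
        invFun := fun g => ⟨x * g.1, funext fun a => ?_⟩
        left_inv := fun g => Subtype.ext (mul_inv_cancel_left x g.1)
        right_inv := fun g => Subtype.ext (inv_mul_cancel_left x g.1) }
    · show r (x⁻¹ * g.1) *ᵥ t₀ a = t₀ a
      rw [map_mul, ← Matrix.mulVec_mulVec, show r g.1 *ᵥ t₀ a = t a from congrFun g.2 a, ← hxt a,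
        Matrix.mulVec_mulVec, ← map_mul, inv_mul_cancel, map_one, Matrix.one_mulVec]
    · show r (x * g.1) *ᵥ t₀ a = t a
      rw [map_mul, ← Matrix.mulVec_mulVec, show r g.1 *ᵥ t₀ a = t₀ a from congrFun g.2 a, hxt a]
  have count : ∀ (P : (Fin k → Fin n → F) → Prop), (∀ t, P t → IsoHerm q n k t) →
      Nat.card {g // P (act g)} = Nat.card {g // act g = t₀} * Nat.card {t // P t} := by
    intro P hP
    haveI := Fintype.ofFinite {t // P t}
    rw [Nat.card_congr (Equiv.sigmaFiberEquiv (fun g : {g // P (act g)} => (⟨act g.1, g.2⟩ : {t // P t}))).symm,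
      Nat.card_sigma, Finset.sum_congr rfl fun t _ => ?_, Finset.sum_const, Finset.card_univ, smul_eq_mul,
      Nat.card_eq_fintype_card (α := {t // P t}), mul_comm]
    rw [← hfib t.1 (hP _ t.2)]
    exact Nat.card_congr
      { toFun := fun g => ⟨g.1.1, congrArg Subtype.val g.2⟩
        invFun := fun g => ⟨⟨g.1, g.2.symm ▸ t.2⟩, Subtype.ext g.2⟩
        left_inv := fun g => Subtype.ext (Subtype.ext rfl)
        right_inv := fun g => Subtype.ext rfl }
  have hall := count (IsoHerm q n k) (fun t h => h)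
  rw [Nat.card_congr (Equiv.subtypeUnivEquiv hact), card_isoHerm hF n k hk, Cfsg.Agent.Lib.Classical.card_GU hF] at hall
  have hS : ∀ g, g ∈ S ↔ (LinearIndependent F (act g) ∧ ∀ a, act g a ∈ W) := by
    intro g
    rw [mem_stabilizing_submodule_iff]
    refine ⟨fun hg => ⟨(hact g).1, fun a => hg _ (c a).2⟩, fun h v hv => ?_⟩
    rw [← hspan t₀ hli (fun a => (c a).2)] at hv
    induction hv using Submodule.span_induction with
    | mem y hy => obtain ⟨a, rfl⟩ := hy; exact h.2 a
    | zero => rw [Matrix.mulVec_zero]; exact W.zero_mem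
    | add y z _ _ h1 h2 => rw [Matrix.mulVec_add]; exact W.add_mem h1 h2
    | smul a y _ h1 => rw [Matrix.mulVec_smul]; exact W.smul_mem a h1
  have hsub := count (fun t => LinearIndependent F t ∧ ∀ a, t a ∈ W)
    (fun t ht => ⟨ht.1, fun a b => hW _ (ht.2 a) _ (ht.2 b)⟩)
  rw [← Nat.card_congr (Equiv.subtypeEquivRight hS),
    Nat.card_congr (α := {t : Fin k → Fin n → F // LinearIndependent F t ∧ ∀ a, t a ∈ W})
      (β := {s : Fin k → W // LinearIndependent F s})
      { toFun := fun t => ⟨fun a => ⟨t.1 a, t.2.2 a⟩, LinearIndependent.of_comp W.subtype t.2.1⟩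
        invFun := fun s => ⟨fun a => (s.1 a : Fin n → F), s.2.map' W.subtype (Submodule.ker_subtype W),
          fun a => (s.1 a).2⟩
        left_inv := fun t => rfl
        right_inv := fun s => rfl },
    card_linearIndependent hWk.ge, hWk, hF] at hsub
  -- the determinant
  let d : S →* Fˣ := (Matrix.GeneralLinearGroup.det.comp (Cfsg.GU n F q).subtype).comp S.subtype
  have hd : d.range = normOneUnits F q := by
    apply le_antisymm
    · rintro _ ⟨g, rfl⟩
      exact det_mem_normOneUnits hF g.1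
    · intro u hu
      obtain ⟨g, hgW, hgu⟩ := exists_stab_det hF hn W hW ⟨u, hu⟩
      exact ⟨⟨g, (mem_stabilizing_submodule_iff r W g).mpr hgW⟩, hgu⟩
  have hker : Nat.card d.ker =
      Nat.card ↥((Cfsg.stabilizing (Cfsg.slToMat n F) (W : Set (Fin n → F))).subgroupOf (Cfsg.SU n F q)) :=
    Nat.card_congr
      { toFun := fun g => ⟨⟨⟨((g.1.1 : Matrix.GeneralLinearGroup (Fin n) F) : Matrix (Fin n) (Fin n) F),
            congrArg Units.val (MonoidHom.mem_ker.mp g.2)⟩, fun u v => mem_GU_iff.mp g.1.1.2 u v⟩, g.1.2⟩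
        invFun := fun g => ⟨⟨⟨Matrix.SpecialLinearGroup.toGL g.1.1, mem_GU_iff.mpr fun u v => g.1.2 u v⟩, g.2⟩,
          MonoidHom.mem_ker.mpr (Units.ext g.1.1.2)⟩
        left_inv := fun g => Subtype.ext (Subtype.ext (Subtype.ext (Units.ext rfl)))
        right_inv := fun g => Subtype.ext (Subtype.ext (Subtype.ext rfl)) }
  have hmul := d.ker.card_mul_index
  rw [Subgroup.index_ker, hd, card_normOneUnits hF, hker] at hmul
  rw [← mul_comm _ (q + 1), hmul, hsub]
  set A := Nat.card {g // act g = t₀}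
  set N := ∏ i ∈ Finset.range k, ((q ^ 2) ^ i * hermCount F q (n - 2 * i) 0 - (q ^ 2) ^ i)
  have hkey := isoHerm_count_mul hF n k hk
  rw [hall] at hkey
  have hN : 0 < N := by
    refine Nat.pos_of_ne_zero fun h0 => ?_
    have := Cfsg.Agent.Lib.Classical.card_GU hF n
    rw [hall, show N = 0 from h0, mul_zero] at this
    exact (Nat.card_pos (α := Cfsg.GU n F q)).ne' this
  have hA : A = q ^ (k * (2 * n - 3 * k)) * (q ^ ((n - 2 * k) * ((n - 2 * k) - 1) / 2) *
      ∏ i ∈ Finset.range (n - 2 * k), (if Even i then q ^ (i + 1) + 1 else q ^ (i + 1) - 1)) := by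
    refine Nat.eq_of_mul_eq_mul_right hN ?_
    rw [← hkey]
    ring
  rw [hA]
  ring

end Cfsg.Agent.Lib.Geometry
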